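/-
Fusion systems on a Sylow 2-subgroup of a large Ree group: subgroups given by coordinates.
-/
import Cfsg.Agent.Oct.U1

set_option autoImplicit false
set_option linter.unusedSectionVars false

namespace CL.FZ

open CL.Oct CL.Oct.UO

variable {K : Type*} [Field K] [CharP K 2] {P : Par K}

/-- the fourth centre -/
def Z4 (P : Par K) : Subgroup (UO P) where
  carrier := {x | x.a1 = 0 ∧ x.b2 = 0 ∧ x.a2 = 0 ∧ x.b4 = 0 ∧ x.b6 = 0 ∧ x.a7 = 0 ∧ x.b8 = 0 ∧ x.a8 = 0}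
  one_mem' := by simp
  mul_mem' := by
    rintro x y ⟨h0, h1, h2, h3, h4, h5, h6, h7⟩ ⟨k0, k1, k2, k3, k4, k5, k6, k7⟩
    simp [h0, h1, h2, h3, h4, h5, h6, h7, k0, k1, k2, k3, k4, k5, k6, k7]
  inv_mem' := by
    rintro x ⟨h0, h1, h2, h3, h4, h5, h6, h7⟩
    simp [h0, h1, h2, h3, h4, h5, h6, h7]

@[simp] theorem mem_Z4 {x : UO P} : x ∈ Z4 P ↔ x.a1 = 0 ∧ x.b2 = 0 ∧ x.a2 = 0 ∧ x.b4 = 0 ∧ x.b6 = 0 ∧ x.a7 = 0 ∧ x.b8 = 0 ∧ x.a8 = 0 := Iff.rfl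

/-- the fifth centre -/
def Z5 (P : Par K) : Subgroup (UO P) where
  carrier := {x | x.a1 = 0 ∧ x.b2 = 0 ∧ x.b4 = 0 ∧ x.b6 = 0 ∧ x.b8 = 0 ∧ x.a8 = 0}
  one_mem' := by simp
  mul_mem' := by
    rintro x y ⟨h0, h1, h2, h3, h4, h5⟩ ⟨k0, k1, k2, k3, k4, k5⟩
    simp [h0, h1, h2, h3, h4, h5, k0, k1, k2, k3, k4, k5]
  inv_mem' := by
    rintro x ⟨h0, h1, h2, h3, h4, h5⟩
    simp [h0, h1, h2, h3, h4, h5]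

@[simp] theorem mem_Z5 {x : UO P} : x ∈ Z5 P ↔ x.a1 = 0 ∧ x.b2 = 0 ∧ x.b4 = 0 ∧ x.b6 = 0 ∧ x.b8 = 0 ∧ x.a8 = 0 := Iff.rfl

/-- the sixth centre -/
def Z6 (P : Par K) : Subgroup (UO P) where
  carrier := {x | x.a1 = 0 ∧ x.b2 = 0 ∧ x.b8 = 0 ∧ x.a8 = 0}
  one_mem' := by simp
  mul_mem' := by
    rintro x y ⟨h0, h1, h2, h3⟩ ⟨k0, k1, k2, k3⟩
    simp [h0, h1, h2, h3, k0, k1, k2, k3]
  inv_mem' := by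
    rintro x ⟨h0, h1, h2, h3⟩
    simp [h0, h1, h2, h3]

@[simp] theorem mem_Z6 {x : UO P} : x ∈ Z6 P ↔ x.a1 = 0 ∧ x.b2 = 0 ∧ x.b8 = 0 ∧ x.a8 = 0 := Iff.rfl

/-- the centralizer of `Z3` -/
def C3 (P : Par K) : Subgroup (UO P) where
  carrier := {x | x.a1 = 0 ∧ x.b2 = 0 ∧ x.b8 = 0}
  one_mem' := by simp
  mul_mem' := by
    rintro x y ⟨h0, h1, h2⟩ ⟨k0, k1, k2⟩
    simp [h0, h1, h2, k0, k1, k2]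
  inv_mem' := by
    rintro x ⟨h0, h1, h2⟩
    simp [h0, h1, h2]

@[simp] theorem mem_C3 {x : UO P} : x ∈ C3 P ↔ x.a1 = 0 ∧ x.b2 = 0 ∧ x.b8 = 0 := Iff.rfl

/-- the centralizer of `Z4` -/
def C4 (P : Par K) : Subgroup (UO P) where
  carrier := {x | x.a1 = 0 ∧ x.b2 = 0 ∧ x.b6 = 0 ∧ x.b8 = 0 ∧ x.a8 = 0}
  one_mem' := by simp
  mul_mem' := by
    rintro x y ⟨h0, h1, h2, h3, h4⟩ ⟨k0, k1, k2, k3, k4⟩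
    simp [h0, h1, h2, h3, h4, k0, k1, k2, k3, k4]
  inv_mem' := by
    rintro x ⟨h0, h1, h2, h3, h4⟩
    simp [h0, h1, h2, h3, h4]

@[simp] theorem mem_C4 {x : UO P} : x ∈ C4 P ↔ x.a1 = 0 ∧ x.b2 = 0 ∧ x.b6 = 0 ∧ x.b8 = 0 ∧ x.a8 = 0 := Iff.rfl

/-- `Z3` with `x3` and `x7` -/
def R5 (P : Par K) : Subgroup (UO P) where
  carrier := {x | x.a1 = 0 ∧ x.b2 = 0 ∧ x.a2 = 0 ∧ x.b4 = 0 ∧ x.b6 = 0 ∧ x.b8 = 0 ∧ x.a8 = 0}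
  one_mem' := by simp
  mul_mem' := by
    rintro x y ⟨h0, h1, h2, h3, h4, h5, h6⟩ ⟨k0, k1, k2, k3, k4, k5, k6⟩
    simp [h0, h1, h2, h3, h4, h5, h6, k0, k1, k2, k3, k4, k5, k6]
  inv_mem' := by
    rintro x ⟨h0, h1, h2, h3, h4, h5, h6⟩
    simp [h0, h1, h2, h3, h4, h5, h6]

@[simp] theorem mem_R5 {x : UO P} : x ∈ R5 P ↔ x.a1 = 0 ∧ x.b2 = 0 ∧ x.a2 = 0 ∧ x.b4 = 0 ∧ x.b6 = 0 ∧ x.b8 = 0 ∧ x.a8 = 0 := Iff.rfl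

/-- the image of `Vs` under `rn` -/
def V2 (P : Par K) : Subgroup (UO P) where
  carrier := {x | x.a1 = 0 ∧ x.b2 = 0 ∧ x.a3 = 0 ∧ x.b4 = 0 ∧ x.a5 = 0 ∧ x.b6 = 0 ∧ x.a6 = 0 ∧ x.a7 = 0 ∧ x.b8 = 0 ∧ x.a8 = 0}
  one_mem' := by simp
  mul_mem' := by
    rintro x y ⟨h0, h1, h2, h3, h4, h5, h6, h7, h8, h9⟩ ⟨k0, k1, k2, k3, k4, k5, k6, k7, k8, k9⟩
    simp [h0, h1, h2, h3, h4, h5, h6, h7, h8, h9, k0, k1, k2, k3, k4, k5, k6, k7, k8, k9]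
  inv_mem' := by
    rintro x ⟨h0, h1, h2, h3, h4, h5, h6, h7, h8, h9⟩
    simp [h0, h1, h2, h3, h4, h5, h6, h7, h8, h9]

@[simp] theorem mem_V2 {x : UO P} : x ∈ V2 P ↔ x.a1 = 0 ∧ x.b2 = 0 ∧ x.a3 = 0 ∧ x.b4 = 0 ∧ x.a5 = 0 ∧ x.b6 = 0 ∧ x.a6 = 0 ∧ x.a7 = 0 ∧ x.b8 = 0 ∧ x.a8 = 0 := Iff.rfl

/-- the involutions of `Td` -/
def A5 (P : Par K) : Subgroup (UO P) where
  carrier := {x | x.a1 = 0 ∧ x.b2 = 0 ∧ x.a2 = 0 ∧ x.a3 = 0 ∧ x.b4 = 0 ∧ x.b6 = 0 ∧ x.b8 = 0}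
  one_mem' := by simp
  mul_mem' := by
    rintro x y ⟨h0, h1, h2, h3, h4, h5, h6⟩ ⟨k0, k1, k2, k3, k4, k5, k6⟩
    simp [h0, h1, h2, h3, h4, h5, h6, k0, k1, k2, k3, k4, k5, k6]
  inv_mem' := by
    rintro x ⟨h0, h1, h2, h3, h4, h5, h6⟩
    simp [h0, h1, h2, h3, h4, h5, h6]

@[simp] theorem mem_A5 {x : UO P} : x ∈ A5 P ↔ x.a1 = 0 ∧ x.b2 = 0 ∧ x.a2 = 0 ∧ x.a3 = 0 ∧ x.b4 = 0 ∧ x.b6 = 0 ∧ x.b8 = 0 := Iff.rfl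

end CL.FZ
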