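/-
Fusion systems on a Sylow 2-subgroup of a large Ree group: critical subgroups and rank one data.
-/
import Cfsg.Agent.FZ.S0
import Cfsg.Agent.Oct.UD
import Cfsg.Agent.Oct.UE
import Cfsg.Agent.Oct.UB
import Cfsg.Agent.Oct.UC
import Cfsg.Agent.Fus.FratChain
import Mathlib.FieldTheory.Finite.GaloisField

set_option autoImplicit false
set_option linter.unusedSectionVars false

namespace CL.FZ

open CL.Oct CL.Oct.UO Cfsg
open scoped commutatorElement

section Gen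

variable {U : Type*} [Group U]

/-- `X ≤ E` is invariant under the maps in `M` -/
def Inv (E : Subgroup U) (M : (U → U) → Prop) (X : Subgroup U) : Prop := X ≤ E ∧ ∀ f, M f → ∀ x ∈ X, f x ∈ X

/-- `x` acts trivially on the factors of a chain of invariant subgroups from `X` down to `1` -/
inductive Triv (E : Subgroup U) (M : (U → U) → Prop) (x : U) : Subgroup U → Prop
  | bot : Triv E M x ⊥
  | step {X Y : Subgroup U} : Triv E M x Y → Inv E M X → (∀ e ∈ X, ⁅e, x⁆ ∈ Y) → Triv E M x X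

/-- What an essential subgroup `E` of `U` with automizer `M` satisfies. -/
structure Crit (E : Subgroup U) (M : (U → U) → Prop) : Prop where
  ne : E ≠ ⊤
  mem : ∀ {f}, M f → ∀ x ∈ E, f x ∈ E
  mul : ∀ {f}, M f → ∀ x ∈ E, ∀ y ∈ E, f (x * y) = f x * f y
  inv : ∀ {f}, M f → ∃ g, M g ∧ ∀ x ∈ E, g (f x) = x ∧ f (g x) = x
  comp : ∀ {f g}, M f → M g → M (f ∘ g)
  id : M id
  cen : ∀ x, (∀ e ∈ E, Commute x e) → x ∈ E
  chain : ∀ x, (∀ e ∈ E, ⁅e, x⁆ ∈ E) → Triv E M x E → x ∈ E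
  coset : ∀ x y, (∀ e ∈ E, ⁅e, x⁆ ∈ E) → (∀ e ∈ E, ⁅e, y⁆ ∈ E) → x ∉ E → y ∉ E → x * x = 1 → y * y ∈ E →
    ∃ e ∈ E, y * e * (y * e) = 1

/-- the invariant closure -/
def cl (M : (U → U) → Prop) (X : Subgroup U) : Subgroup U := Subgroup.closure {y | ∃ f, M f ∧ ∃ x ∈ X, f x = y}

/-- the subgroup generated by the involutions of `X` -/
def Om (X : Subgroup U) : Subgroup U := Subgroup.closure {y | y ∈ X ∧ y * y = 1}

/-- the elements of `Y` centralizing `X` -/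
def cz (Y X : Subgroup U) : Subgroup U := Y ⊓ Subgroup.centralizer (X : Set U)

theorem mem_cz {Y X : Subgroup U} {y : U} : y ∈ cz Y X ↔ y ∈ Y ∧ ∀ x ∈ X, x * y = y * x := Iff.rfl

/-- the elements of `Y` centralizing `X` modulo the normal subgroup `W` -/
def czm (Y X W : Subgroup U) [W.Normal] : Subgroup U :=
  Y ⊓ (Subgroup.centralizer (X.map (QuotientGroup.mk' W) : Set (U ⧸ W))).comap (QuotientGroup.mk' W)

theorem mk_comm_iff {W : Subgroup U} [W.Normal] {x y : U} :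
    ⁅x, y⁆ ∈ W ↔ (x : U ⧸ W) * y = y * x := by
  rw [← QuotientGroup.eq_one_iff, ← commutatorElement_eq_one_iff_mul_comm]; rfl

theorem mem_czm {Y X W : Subgroup U} [W.Normal] {y : U} : y ∈ czm Y X W ↔ y ∈ Y ∧ ∀ x ∈ X, ⁅x, y⁆ ∈ W := by
  refine and_congr_right fun _ => ⟨fun h x hx => mk_comm_iff.2 (h _ ⟨x, hx, rfl⟩), fun h => ?_⟩
  rintro _ ⟨x, hx, rfl⟩
  exact mk_comm_iff.1 (h x hx)

theorem comm_symm {W : Subgroup U} {x y : U} (h : ⁅x, y⁆ ∈ W) : ⁅y, x⁆ ∈ W := by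
  rw [← commutatorElement_inv]; exact inv_mem h

theorem Om_le_of {X Y : Subgroup U} (h : ∀ y ∈ X, y * y = 1 → y ∈ Y) : Om X ≤ Y :=
  (Subgroup.closure_le _).2 fun y hy => h y hy.1 hy.2

theorem mem_Om {X : Subgroup U} {y : U} (hy : y ∈ X) (h : y * y = 1) : y ∈ Om X := Subgroup.subset_closure ⟨hy, h⟩

theorem cl_le_of {M : (U → U) → Prop} {X Y : Subgroup U} (h : ∀ f, M f → ∀ x ∈ X, f x ∈ Y) : cl M X ≤ Y :=
  (Subgroup.closure_le _).2 (by rintro _ ⟨f, hf, x, hx, rfl⟩; exact h f hf x hx)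

theorem mem_cl {M : (U → U) → Prop} {X : Subgroup U} {f : U → U} (hf : M f) {x : U} (hx : x ∈ X) : f x ∈ cl M X :=
  Subgroup.subset_closure ⟨f, hf, x, hx, rfl⟩

namespace Crit

variable {E : Subgroup U} {M : (U → U) → Prop} (h : Crit E M) {f : U → U} {X Y W : Subgroup U}
include h

theorem map_one (hf : M f) : f 1 = 1 := by
  have := h.mul hf 1 (one_mem _) 1 (one_mem _)
  rw [mul_one] at this
  exact mul_eq_left.1 this.symm

theorem map_inv (hf : M f) {x : U} (hx : x ∈ E) : f x⁻¹ = (f x)⁻¹ :=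
  eq_inv_of_mul_eq_one_left (by rw [← h.mul hf _ (inv_mem hx) _ hx, inv_mul_cancel, h.map_one hf])

theorem map_comm (hf : M f) {x y : U} (hx : x ∈ E) (hy : y ∈ E) : f ⁅x, y⁆ = ⁅f x, f y⁆ := by
  rw [commutatorElement_def, commutatorElement_def, h.mul hf _ (mul_mem (mul_mem hx hy) (inv_mem hx)) _ (inv_mem hy),
    h.mul hf _ (mul_mem hx hy) _ (inv_mem hx), h.mul hf _ hx _ hy, h.map_inv hf hx, h.map_inv hf hy]

theorem map_sq (hf : M f) {x : U} (hx : x ∈ E) (h2 : x * x = 1) : f x * f x = 1 := by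
  rw [← h.mul hf _ hx _ hx, h2, h.map_one hf]

theorem inj (hf : M f) {x y : U} (hx : x ∈ E) (hy : y ∈ E) (e : f x = f y) : x = y := by
  obtain ⟨g, -, hg⟩ := h.inv hf
  rw [← (hg x hx).1, e, (hg y hy).1]

theorem surj (hf : M f) {y : U} (hy : y ∈ E) : ∃ x ∈ E, f x = y := by
  obtain ⟨g, hg, hg'⟩ := h.inv hf
  exact ⟨g y, h.mem hg y hy, (hg' y hy).2⟩

/-- invariance is checked on generators -/
theorem inv_closure {s : Set U} (hs : s ⊆ E) (hi : ∀ f, M f → ∀ x ∈ s, f x ∈ Subgroup.closure s) :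
    Inv E M (Subgroup.closure s) := by
  have hE := (Subgroup.closure_le E).2 hs
  refine ⟨hE, fun f hf x hx => ?_⟩
  induction hx using Subgroup.closure_induction with
  | mem x hx => exact hi f hf x hx
  | one => rw [h.map_one hf]; exact one_mem _
  | mul x y hx hy h1 h2 => rw [h.mul hf _ (hE hx) _ (hE hy)]; exact mul_mem h1 h2
  | inv x hx h1 => rw [h.map_inv hf (hE hx)]; exact inv_mem h1

theorem inv_top : Inv E M E := ⟨le_rfl, fun _ hf => h.mem hf⟩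

theorem inv_bot : Inv E M ⊥ := ⟨bot_le, fun _ hf x hx => by rw [Subgroup.mem_bot.1 hx, h.map_one hf]; exact one_mem _⟩

theorem le_cl : X ≤ cl M X := fun _ hx => mem_cl h.id hx

theorem inv_cl (hX : X ≤ E) : Inv E M (cl M X) :=
  h.inv_closure (by rintro _ ⟨f, hf, x, hx, rfl⟩; exact h.mem hf x (hX hx))
    (by rintro g hg _ ⟨f, hf, x, hx, rfl⟩; exact mem_cl (h.comp hg hf) hx)

theorem inv_Om (hX : Inv E M X) : Inv E M (Om X) :=
  h.inv_closure (fun _ hy => hX.1 hy.1) fun f hf x hx => mem_Om (hX.2 f hf x hx.1) (h.map_sq hf (hX.1 hx.1) hx.2)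

/-- commutators of images -/
theorem comm_map (hf : M f) (hY : Inv E M Y) (hW : Inv E M W) {x : U} (hx : x ∈ E) (hc : ∀ y ∈ Y, ⁅y, x⁆ ∈ W) :
    ∀ y ∈ Y, ⁅y, f x⁆ ∈ W := fun y hy => by
  obtain ⟨g, hg, hg'⟩ := h.inv hf
  rw [← (hg' y (hY.1 hy)).2, ← h.map_comm hf (h.mem hg y (hY.1 hy)) hx]
  exact hW.2 f hf _ (hc _ (hY.2 g hg y hy))

theorem inv_cz (hY : Inv E M Y) (hX : Inv E M X) : Inv E M (cz Y X) :=
  ⟨inf_le_left.trans hY.1, fun f hf y hy => mem_cz.2 ⟨hY.2 f hf y hy.1, fun x hx =>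
    commutatorElement_eq_one_iff_mul_comm.1 (Subgroup.mem_bot.1 (h.comm_map hf hX h.inv_bot (hY.1 hy.1)
      (fun x hx => Subgroup.mem_bot.2 (commutatorElement_eq_one_iff_mul_comm.2 (hy.2 x hx))) x hx))⟩⟩

theorem inv_czm [W.Normal] (hY : Inv E M Y) (hX : Inv E M X) (hW : Inv E M W) : Inv E M (czm Y X W) :=
  ⟨inf_le_left.trans hY.1, fun f hf y hy => mem_czm.2 ⟨hY.2 f hf y hy.1,
    h.comm_map hf hX hW (hY.1 hy.1) (mem_czm.1 hy).2⟩⟩

omit h in
theorem inv_inf (hX : Inv E M X) (hY : Inv E M Y) : Inv E M (X ⊓ Y) :=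
  ⟨inf_le_left.trans hX.1, fun f hf x hx => ⟨hX.2 f hf x hx.1, hY.2 f hf x hx.2⟩⟩

theorem inv_sup (hX : Inv E M X) (hY : Inv E M Y) : Inv E M (X ⊔ Y) := by
  rw [Subgroup.sup_eq_closure]
  refine h.inv_closure (Set.union_subset hX.1 hY.1) fun f hf x hx => Subgroup.subset_closure ?_
  exact hx.elim (fun hx => .inl (hX.2 f hf x hx)) fun hx => .inr (hY.2 f hf x hx)

theorem inv_comm (hX : Inv E M X) (hY : Inv E M Y) : Inv E M ⁅X, Y⁆ := by
  rw [Subgroup.commutator_def]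
  refine h.inv_closure ?_ ?_
  · rintro _ ⟨x, hx, y, hy, rfl⟩
    exact mul_mem (mul_mem (mul_mem (hX.1 hx) (hY.1 hy)) (inv_mem (hX.1 hx))) (inv_mem (hY.1 hy))
  · rintro f hf _ ⟨x, hx, y, hy, rfl⟩
    exact Subgroup.subset_closure ⟨_, hX.2 f hf x hx, _, hY.2 f hf y hy, (h.map_comm hf (hX.1 hx) (hY.1 hy)).symm⟩

/-- the two step chain `E ≥ X ≥ 1` -/
theorem mem1 {x : U} (hX : Inv E M X) (h1 : ∀ e ∈ E, ⁅e, x⁆ ∈ X) (h2 : ∀ e ∈ X, ⁅e, x⁆ = 1) : x ∈ E :=
  h.chain x (fun e he => hX.1 (h1 e he)) (.step (.step .bot hX h2) h.inv_top h1)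

/-- the chain `E ≥ X ≥ Y ≥ 1` -/
theorem mem2 {x : U} (hX : Inv E M X) (hY : Inv E M Y) (h1 : ∀ e ∈ E, ⁅e, x⁆ ∈ X) (h2 : ∀ e ∈ X, ⁅e, x⁆ ∈ Y)
    (h3 : ∀ e ∈ Y, ⁅e, x⁆ = 1) : x ∈ E :=
  h.chain x (fun e he => hX.1 (h1 e he)) (.step (.step (.step .bot hY h3) hX h2) h.inv_top h1)

/-- the chain `E ≥ X ≥ Y ≥ W ≥ 1` -/
theorem mem3 {x : U} (hX : Inv E M X) (hY : Inv E M Y) (hW : Inv E M W) (h1 : ∀ e ∈ E, ⁅e, x⁆ ∈ X)
    (h2 : ∀ e ∈ X, ⁅e, x⁆ ∈ Y) (h3 : ∀ e ∈ Y, ⁅e, x⁆ ∈ W) (h4 : ∀ e ∈ W, ⁅e, x⁆ = 1) : x ∈ E :=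
  h.chain x (fun e he => hX.1 (h1 e he)) (.step (.step (.step (.step .bot hW h4) hY h3) hX h2) h.inv_top h1)

/-- transport along an automorphism -/
theorem map (β : MulAut U) : Crit (E.map β.toMonoidHom) fun f => M (β.symm ∘ f ∘ β) := by
  have me : ∀ x, x ∈ E.map β.toMonoidHom ↔ β.symm x ∈ E := fun x => Subgroup.mem_map_equiv
  have tr : ∀ x X, Triv (E.map β.toMonoidHom) (fun f => M (β.symm ∘ f ∘ β)) x X →
      Triv E M (β.symm x) (X.comap β.toMonoidHom) := fun x X t => by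
    induction t with
    | bot => rw [MonoidHom.comap_bot, (MonoidHom.ker_eq_bot_iff _).2 β.injective]; exact .bot
    | step _ hX hc ih =>
      refine .step ih ⟨fun e he => by simpa using (me _).1 (hX.1 he), fun f hf e he => ?_⟩ fun e he => ?_
      · simpa using hX.2 (β ∘ f ∘ β.symm) (by simpa [Function.comp_def] using hf) _ he
      · simpa [map_commutatorElement] using hc _ he
  have nr : ∀ x, (∀ e ∈ E.map β.toMonoidHom, ⁅e, x⁆ ∈ E.map β.toMonoidHom) → ∀ e ∈ E, ⁅e, β.symm x⁆ ∈ E :=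
    fun x hx e he => by simpa [map_commutatorElement] using (me _).1 (hx (β e) ⟨e, he, rfl⟩)
  refine ⟨fun e => h.ne (top_le_iff.1 fun x _ => by simpa using (me (β x)).1 (e ▸ Subgroup.mem_top _)),
    fun hf x hx => (me _).2 (by simpa using h.mem hf _ ((me _).1 hx)), fun hf x hx y hy => β.symm.injective ?_,
    fun {f} hf => ?_, fun hf hg => by simpa [Function.comp_def] using h.comp hf hg,
    by rw [show β.symm ∘ _root_.id ∘ β = _root_.id from funext β.symm_apply_apply]; exact h.id, fun x hx => (me _).2 (h.cen _ fun e he => ?_),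
    fun x hx t => (me _).2 (h.chain _ (nr x hx) ?_), fun x y hx hy h1 h2 h3 h4 => ?_⟩
  · simpa using h.mul hf _ ((me _).1 hx) _ ((me _).1 hy)
  · obtain ⟨g, hg, hg'⟩ := h.inv hf
    refine ⟨β ∘ g ∘ β.symm, by simpa [Function.comp_def] using hg, fun x hx => ⟨?_, β.symm.injective ?_⟩⟩
    · simpa using congrArg β (hg' _ ((me _).1 hx)).1
    · simpa using (hg' _ ((me _).1 hx)).2
  · simpa using (hx (β e) ⟨e, he, rfl⟩).map β.symm
  · have := tr x _ t
    rwa [Subgroup.comap_map_eq_self_of_injective (f := β.toMonoidHom) β.injective E] at this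
  · obtain ⟨e, he, e2⟩ := h.coset _ _ (nr x hx) (nr y hy) (mt (me _).2 h1) (mt (me _).2 h2)
      (by rw [← map_mul, h3, _root_.map_one]) (by rw [← map_mul]; exact (me _).1 h4)
    exact ⟨β e, ⟨e, he, rfl⟩, by simpa using congrArg β e2⟩

/-- a normal subgroup whose elements normalizing `E` lie in `E` lies in `E` -/
theorem le_of_norm [Finite U] (hU : IsPGroup 2 U) {N : Subgroup U} [N.Normal]
    (hN : ∀ x ∈ N, (∀ e ∈ E, ⁅e, x⁆ ∈ E) → x ∈ E) : N ≤ E := by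
  have := Fact.mk Nat.prime_two
  refine CL.Fus.le_of_inf_normalizer_le_of_normalizes (S := ⊤) (hU.to_subgroup _) le_top le_top
    (by rw [Subgroup.normalizer_eq_top]; exact le_top) fun a ha hn => hN a ha fun e he => ?_
  rw [commutatorElement_def, mul_assoc, mul_assoc, ← mul_assoc a]
  exact mul_mem he ((Subgroup.mem_normalizer_iff.1 hn _).1 (inv_mem he))

end Crit

/-- `a` is the restriction of `α` -/
def Res {Q : Subgroup U} (α : MulAut U) (a : MulAut Q) : Prop := ∀ x : Q, (a x : U) = α x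

/-- The automizers `A0` of `U` and `A` of an essential normal subgroup `Q`. -/
structure Rk1 (Q : Subgroup U) (A0 : Subgroup (MulAut U)) (A : Subgroup (MulAut Q)) : Prop where
  inn : ∀ s, MulAut.conj s ∈ A0
  odd : ¬ 2 ∣ (MulAut.conj : U →* MulAut U).range.relIndex A0
  res : ∀ α ∈ A0, ∃ a ∈ A, Res α a
  syl : ¬ 2 ∣ (autInducedBy ⊤ Q).relIndex A
  ext : ∀ a ∈ A, a ∈ Subgroup.normalizer (autInducedBy ⊤ Q : Set (MulAut Q)) → ∃ α ∈ A0, Res α a
  ne : ∃ a ∈ A, ¬ ∃ α ∈ A0, Res α a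

end Gen

variable {K : Type*} [Field K] [CharP K 2] [Finite K] {P : Par K}

theorem comm_σ (P : Par K) (γ : K ≃+* K) (t : K) : γ (P.σ t) = P.σ (γ t) := by
  have := Fact.mk Nat.prime_two
  let _ := ZMod.algebra K 2
  let f : (K ≃+* K) → (K ≃ₐ[ZMod 2] K) := fun e =>
    AlgEquiv.ofRingEquiv (f := e) fun x => DFunLike.congr_fun (Subsingleton.elim ((e : K →+* K).comp (algebraMap _ K)) _) x
  have hc : IsCyclic (K ≃ₐ[ZMod 2] K) := inferInstance
  exact DFunLike.congr_fun (hc.isMulCommutative.is_comm.comm (f γ) (f (RingEquiv.ofBijective P.σ (σ_bij P)))) t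

/-- a field automorphism applied to the coordinates -/
def fldF (P : Par K) (γ : K ≃+* K) (x : UO P) : UO P :=
  ⟨γ x.a1, γ x.b2, γ x.a2, γ x.a3, γ x.b4, γ x.a4, γ x.a5, γ x.b6, γ x.a6, γ x.a7, γ x.b8, γ x.a8⟩

/-- the field automorphisms -/
def fld (P : Par K) : RingAut K →* MulAut (UO P) where
  toFun γ :=
    { toFun := fldF P γ
      invFun := fldF P γ.symm
      left_inv := fun x => by ext <;> simp [fldF]
      right_inv := fun x => by ext <;> simp [fldF]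
      map_mul' := fun x y => by
        ext <;> simp only [fldF, mul_a1, mul_b2, mul_a2, mul_a3, mul_b4, mul_a4, mul_a5, mul_b6, mul_a6, mul_a7, mul_b8,
          mul_a8, map_add, map_mul, map_pow, comm_σ] }
  map_one' := MulEquiv.ext fun _ => rfl
  map_mul' _ _ := MulEquiv.ext fun _ => rfl

theorem fld_apply (γ : RingAut K) (x : UO P) : fld P γ x =
    ⟨γ x.a1, γ x.b2, γ x.a2, γ x.a3, γ x.b4, γ x.a4, γ x.a5, γ x.b6, γ x.a6, γ x.a7, γ x.b8, γ x.a8⟩ := rfl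

/-- `A0` is the product of the inner automorphisms with a group of diagonal and field automorphisms -/
def Std0 (A0 : Subgroup (MulAut (UO P))) : Prop :=
  ∀ α ∈ A0, ∃ s p γ, α = MulAut.conj s * dg P p * fld P γ ∧ dg P p * fld P γ ∈ A0

end CL.FZ
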