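/-
Fusion systems on a Sylow 2-subgroup of a large Ree group: points, reflections.
-/
import Cfsg.Agent.FZ.Defs

set_option autoImplicit false
set_option linter.unusedSectionVars false

namespace CL.FZ

open CL.Oct CL.Oct.UO Cfsg CL.Fus
open scoped Pointwise

/-- A split pair of rank one modulo `I`: `T` fixes `p0` and `T / I` is regular on the other points of the orbit. -/
structure Pts {Γ X : Type*} [Group Γ] [MulAction Γ X] (A T I : Subgroup Γ) (p0 p1 : X) : Prop where
  le : T ≤ A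
  leI : I ≤ T
  nI : A ≤ Subgroup.normalizer (I : Set Γ)
  two : IsPGroup 2 T
  syl : ¬ 2 ∣ T.relIndex A
  ne : p0 ≠ p1
  fix : ∀ t ∈ T, t • p0 = p0
  stab : ∀ t ∈ T, t • p1 = p1 ↔ t ∈ I
  dich : ∀ a ∈ A, a • p0 = p0 ∨ ∃ t ∈ T, (t * a) • p0 = p1
  norm : ∀ a ∈ A, a • p0 = p0 → a ∈ Subgroup.normalizer (T : Set Γ)
  mv : ∃ a ∈ A, a • p0 ≠ p0

/-- the automorphisms of the whole group in a fusion system -/
def aut0 {U : Type*} [Group U] (F : FusionSystem (⊤ : Subgroup U)) : Subgroup (MulAut U) where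
  carrier := {α | Mor F ⊤ α}
  one_mem' := mor_id F le_rfl
  mul_mem' := fun h1 h2 => Mor.comp h2 h1 fun _ _ => trivial
  inv_mem' := fun {α} h => by
    have := Mor.inv (g := α.symm) h fun x _ => α.symm_apply_apply x
    exact this.mono fun y _ => α.apply_symm_apply y ▸ mem_img_of_mem α (Subgroup.mem_top _)

theorem mem_aut0 {U : Type*} [Group U] {F : FusionSystem (⊤ : Subgroup U)} {α : MulAut U} :
    α ∈ aut0 F ↔ Mor F ⊤ α := Iff.rfl

theorem exists_res {U : Type*} [Group U] {Q : Subgroup U} (β : MulAut U) (hQ : ∀ x, β x ∈ Q ↔ x ∈ Q) :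
    ∃ b : MulAut Q, Res β b :=
  ⟨{ toFun := fun x => ⟨β x, (hQ x).2 x.2⟩
     invFun := fun x => ⟨β.symm x, (hQ _).1 (by simp)⟩
     left_inv := fun x => by simp
     right_inv := fun x => by simp
     map_mul' := fun x y => by simp }, fun _ => rfl⟩

variable {K : Type*} [Field K] [CharP K 2] [Finite K]

/-- the reflection on `Qs` -/
def rnA (P : Par K) : MulAut (Qs P) where
  toFun x := ⟨rn x, rn_mem x.2⟩
  invFun x := ⟨rn x, rn_mem x.2⟩
  left_inv x := Subtype.ext (rn_rn x.2)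
  right_inv x := Subtype.ext (rn_rn x.2)
  map_mul' x y := Subtype.ext (rn_mul x.2 y.2)

/-- the reflection on `Qp` -/
def rpA (P : Par K) : MulAut (Qp P) where
  toFun x := ⟨rp x, rp_mem x.2⟩
  invFun x := ⟨rp x, rp_mem x.2⟩
  left_inv x := Subtype.ext (rp_rp x.2)
  right_inv x := Subtype.ext (rp_rp x.2)
  map_mul' x y := Subtype.ext (rp_mul x.2 y.2)

@[simp] theorem rnA_apply {P : Par K} (x : Qs P) : (rnA P x : UO P) = rn x := rfl
@[simp] theorem rpA_apply {P : Par K} (x : Qp P) : (rpA P x : UO P) = rp x := rfl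

/-- the conclusion of `Pts` for `Qp`: the points are lines of `Vs` -/
abbrev Pts1 {P : Par K} (A : Subgroup (MulAut (Qp P))) : Prop :=
  Pts A (autInducedBy ⊤ (Qp P)) (Inn (Qp P)) ((Zs P).subgroupOf (Qp P)) ((V6 P).subgroupOf (Qp P))

/-- the conclusion of `Pts` for `Qs`: the points are the conjugates of `Vs` -/
abbrev Pts2 {P : Par K} (A : Subgroup (MulAut (Qs P))) : Prop :=
  Pts A (autInducedBy ⊤ (Qs P)) (Inn (Qs P)) ((Vs P).subgroupOf (Qs P)) ((V2 P).subgroupOf (Qs P))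

end CL.FZ
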