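/-
Fusion systems on a Sylow 2-subgroup of a large Ree group: automorphisms of the coordinate group.
-/
import Cfsg.Agent.FZ.Defs2
import Cfsg.Agent.Grp.SZConj
import Cfsg.Agent.Grp.Hall

set_option autoImplicit false
set_option linter.unusedSectionVars false
set_option linter.unusedVariables false

namespace CL.FZ

open CL.Oct CL.Oct.UO Cfsg CL.Fus
open scoped commutatorElement Pointwise

variable {K : Type*} [Field K] [CharP K 2] [Finite K] {P : Par K}

theorem au_fin : Finite (RingAut K) := Finite.of_injective (fun γ : K ≃+* K => (γ : K → K)) DFunLike.coe_injective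

theorem au_gen (P : Par K) : ∃ s : RingAut K, ∀ γ : RingAut K, ∃ n : ℕ, (s ^ 2) ^ n = γ := by
  have := Fact.mk Nat.prime_two
  let _ := ZMod.algebra K 2
  refine ⟨RingEquiv.ofBijective P.σ (σ_bij P), fun γ => ?_⟩
  obtain ⟨n, hn⟩ := (FiniteField.bijective_frobeniusAlgEquivOfAlgebraic_pow (ZMod 2) K).2
    (AlgEquiv.ofRingEquiv (f := γ) fun x =>
      DFunLike.congr_fun (Subsingleton.elim ((γ : K →+* K).comp (algebraMap _ K)) _) x)
  refine ⟨n, RingEquiv.ext fun x => Eq.trans ?_ (DFunLike.congr_fun hn x)⟩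
  beta_reduce
  induction n.1 with
  | zero => rfl
  | succ m ih =>
    rw [pow_succ', pow_succ' (FiniteField.frobeniusAlgEquivOfAlgebraic _ _), AlgEquiv.mul_apply, ← ih, pow_two]
    exact P.sq _

theorem odd_aut (P : Par K) : Odd (Nat.card (RingAut K)) := by
  have := Fact.mk Nat.prime_two
  obtain ⟨s, hs⟩ := au_gen P
  have := au_fin (K := K)
  refine Nat.not_even_iff_odd.1 fun h => ?_
  obtain ⟨γ, hγ⟩ := exists_prime_orderOf_dvd_card' 2 h.two_dvd
  have h1 : Function.Injective fun a : RingAut K => a ^ 2 := Finite.injective_iff_surjective.2 fun a =>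
    (hs a).elim fun n e => ⟨s ^ n, (pow_right_comm s n 2).trans e⟩
  simp [h1 (a₁ := γ) (a₂ := 1) (by rw [← hγ]; simp)] at hγ

theorem aut_sl (α : MulAut (UO P)) : ∃ (γ : RingAut K) (p : Kˣ × Kˣ), Acts (α * (fld P γ)⁻¹) p := by
  have h0 : ∀ r, α (x4 r) = x4 (α (x4 r)).a4 := fun r => by
    obtain ⟨a, e⟩ := mem_Zs_iff_x4.1 ((aut_mem α (x4 r)).1.2 (by simp))
    rw [e]; rfl
  have h1 : ∀ s t, (α (x4 (s * t))).a4 = (α (x1 s)).a1 * (α (x6 t)).a6 := fun s t => by
    have := congrArg α (ua_comm_V (g := x1 s) (v := x6 t) (by simp))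
    rw [map_commutatorElement, ua_comm_V ((aut_mem α _).2.1.2 (by simp))] at this
    exact (congrArg UO.a4 this).symm
  have h2 : (α (x4 1)).a4 ≠ 0 := fun e =>
    one_ne_zero (ua_x4.1 (α.injective ((h0 1).trans (by rw [e, map_one, ua_x4]))))
  let γ : K →+* K :=
    { toFun := fun r => (α (x4 r)).a4 / (α (x4 1)).a4
      map_one' := div_self h2
      map_zero' := by rw [ua_x4.2 rfl, map_one]; exact zero_div _
      map_add' := fun a b => by
        rw [show (x4 (a + b) : UO P) = x4 a * x4 b by ext <;> simp, map_mul, h0 a, h0 b, ← add_div]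
        simp
      map_mul' := fun a b => by
        have e1 := h1 a 1
        have e2 := h1 1 b
        have e3 := h1 1 1
        rw [mul_one] at e1 e3
        rw [one_mul] at e2
        rw [div_mul_div_comm, div_eq_div_iff h2 (mul_ne_zero h2 h2), h1, e1, e2, e3]
        ring }
  let γ' := RingEquiv.ofBijective γ (Finite.injective_iff_bijective.1 γ.injective)
  refine ⟨γ', (aut2 _ (κ := (α (x4 1)).a4) (γ'.surjective.forall.2 fun t => ?_)).imp fun _ h => h.1⟩
  rw [show (x4 (γ' t) : UO P) = fld P γ' (x4 t) by ext <;> simp [fld_apply], MulAut.mul_apply, MulAut.inv_apply_self, h0]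
  exact congrArg x4 (mul_div_cancel₀ _ h2).symm

theorem au_acts {α : MulAut (UO P)} : Acts α 1 ↔ ∀ x, x⁻¹ * α x ∈ Ph P := by
  simp [Acts, c1, d8, CharTwo.add_eq_zero, eq_comm (a := α _ |>.a1), eq_comm (a := α _ |>.b8)]

/-- the automorphisms that are trivial modulo `Ph` -/
def auO (P : Par K) : Subgroup (MulAut (UO P)) where
  carrier := {α | Acts α 1}
  one_mem' := fun x => by simp [c1, d8]
  mul_mem' := fun {α β} h1 h2 x => by simp [(h1 _).1, (h1 _).2, (h2 _).1, (h2 _).2, c1, d8]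
  inv_mem' := fun {α} h x => by simpa [c1, d8, eq_comm] using h (α⁻¹ x)

instance : (auO P).Normal := ⟨fun α h β => au_acts.2 fun x => by
  have := au_acts.1 h (β⁻¹ x)
  have := And.intro ((aut_mem β _).2.2.2.1.2 this.1) ((aut_mem β _).2.2.2.2.2 this.2)
  rwa [map_mul, map_inv, MulAut.apply_inv_self] at this⟩

theorem auO_two : IsPGroup 2 (auO P) := fun α => (pow_eq_one_of_acts α.2).imp fun _ => Subtype.ext

theorem au_conj (s : UO P) : MulAut.conj s ∈ auO P := fun x => by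
  simp [c1, d8, add_comm _ x.a1, add_comm _ x.b8, add_assoc, CharTwo.add_self_eq_zero]

theorem au_norm : (fld P).range ≤ Subgroup.normalizer ((dg P).range : Set (MulAut (UO P))) := by
  rintro _ ⟨γ, rfl⟩
  refine Subgroup.mem_normalizer_fintype ?_
  rintro _ ⟨p, rfl⟩
  refine ⟨(Units.map (γ : K →* K) p.1, Units.map (γ : K →* K) p.2), MulEquiv.ext fun x => ?_⟩
  obtain ⟨x, rfl⟩ := (fld P γ).surjective x
  rw [MulAut.mul_apply, MulAut.inv_apply_self, MulAut.mul_apply]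
  ext <;> simp [fld_apply, c1, d2, c2, c3, d4, c4, c5, d6, c6, c7, d8, c8, comm_σ]

theorem au_odd : Odd (Nat.card ((fld P).range ⊔ (dg P).range : Subgroup _)) := by
  refine Odd.of_dvd_nat ((odd_aut P).mul ((odd_units K).mul (odd_units K)))
    ((Dvd.intro _ (CL.Grp.card_sup_mul_card_inf au_norm)).trans ?_)
  rw [← Nat.card_prod Kˣ]
  exact Nat.mul_dvd_mul (Subgroup.card_range_dvd _) (Subgroup.card_range_dvd _)

theorem au_sup : auO P ⊔ ((fld P).range ⊔ (dg P).range) = ⊤ := eq_top_iff.2 fun α _ => by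
  obtain ⟨γ, p, h⟩ := aut_sl α
  rw [show α = α * (fld P γ)⁻¹ * dg P p⁻¹ * (dg P p * fld P γ) by simp [mul_assoc]]
  refine Subgroup.mul_mem_sup (fun x => ?_)
    (mul_mem (Subgroup.mem_sup_right ⟨p, rfl⟩) (Subgroup.mem_sup_left ⟨γ, rfl⟩))
  rw [MulAut.mul_apply, (h _).1, (h _).2]
  simp [-map_inv, c1, d8]

theorem au_inn : IsPGroup 2 (MulAut.conj : UO P →* MulAut (UO P)).range :=
  auO_two.to_le (by rintro _ ⟨s, rfl⟩; exact au_conj s)

theorem exists_std0 {A0 : Subgroup (MulAut (UO P))} (inn : ∀ s, MulAut.conj s ∈ A0)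
    (odd : ¬ 2 ∣ (MulAut.conj : UO P →* MulAut (UO P)).range.relIndex A0) :
    ∃ β : MulAut (UO P), Std0 (A0.map (MulAut.conj β).toMonoidHom) := by
  have := Fact.mk Nat.prime_two
  have hN : (MulAut.conj : UO P →* MulAut (UO P)).range.Normal := ⟨by
    rintro _ ⟨s, rfl⟩ β
    exact ⟨β s, MulEquiv.ext fun x => by simp⟩⟩
  have cop : ∀ {X : Subgroup (MulAut (UO P))} {n : ℕ}, IsPGroup 2 X → ¬ 2 ∣ n → (Nat.card X).Coprime n := fun h hn => by
    obtain ⟨k, e⟩ := IsPGroup.iff_card.1 h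
    exact e ▸ ((Nat.prime_two.coprime_iff_not_dvd).2 hn).pow_left k
  obtain ⟨H, -, h1, h2⟩ := CL.Grp.hall_exists_compl_in (L := A0) (by rintro _ ⟨s, rfl⟩; exact inn s) (cop au_inn odd)
  obtain ⟨β, -, e⟩ := CL.Grp.schurZassenhaus_conj_of_sup_eq (N := auO P) (H := H)
    (K := ((fld P).range ⊔ (dg P).range) ⊓ (auO P ⊔ H)) Subgroup.le_normalizer_of_normal (cop auO_two (h1 ▸ odd))
    (cop auO_two (Odd.of_dvd_nat au_odd (Subgroup.card_dvd_of_le inf_le_left)).not_two_dvd_nat)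
    (CL.Grp.sup_inf_eq_of_normal_le au_sup le_sup_left).symm
    (.inl (have := auO_two (P := P) |>.isNilpotent; inferInstance))
  refine ⟨β, ?_⟩
  rintro _ ⟨a, ha, rfl⟩
  obtain ⟨_, ⟨s, rfl⟩, h, hh, rfl⟩ := (CL.Grp.mem_sup_iff_of_le_normalizer Subgroup.le_normalizer_of_normal).1
    (((sup_comm _ _).trans h2).ge ha)
  have h3 : β * h * β⁻¹ ∈ (fld P).range ⊔ (dg P).range := (e.le (Subgroup.smul_mem_pointwise_smul _ _ _ hh)).1
  obtain ⟨_, ⟨p, rfl⟩, _, ⟨γ, rfl⟩, e2⟩ := (CL.Grp.mem_sup_iff_of_le_normalizer au_norm).1 (sup_comm (fld P).range _ ▸ h3)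
  refine ⟨β s, p, γ, ?_, h, h2.le (Subgroup.mem_sup_left hh), e2⟩
  rw [mul_assoc, ← e2]
  exact MulEquiv.ext fun x => by simp

theorem inner_of_two (hq : Nat.card K = 2) {A0 : Subgroup (MulAut (UO P))} (inn : ∀ s, MulAut.conj s ∈ A0)
    (odd : ¬ 2 ∣ (MulAut.conj : UO P →* MulAut (UO P)).range.relIndex A0) {α : MulAut (UO P)} (hα : α ∈ A0) :
    ∃ s, α = MulAut.conj s := by
  have := Fact.mk Nat.prime_two
  have h1 : ∀ t : K, t ≠ 0 → t = 1 := fun t h =>
    ((Nat.card_eq_two_iff' 0).1 hq).unique h one_ne_zero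
  have h2 : auO P = ⊤ := by
    rw [← au_sup, left_eq_sup]
    refine sup_le ?_ ?_
    · rintro _ ⟨γ, rfl⟩
      rw [show γ = 1 from RingEquiv.ext fun t => by
        rcases eq_or_ne t 0 with rfl | h
        exacts [map_zero γ, by rw [h1 t h]; exact map_one γ], map_one]
      exact one_mem _
    · rintro _ ⟨p, rfl⟩
      rw [show p = 1 from Prod.ext (Units.ext (h1 _ p.1.ne_zero)) (Units.ext (h1 _ p.2.ne_zero)), map_one]
      exact one_mem _
  obtain ⟨n, hn⟩ := (auO_two.to_le (le_top.trans h2.ge : A0 ≤ _)).index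
    ((MulAut.conj : UO P →* MulAut (UO P)).range.subgroupOf A0)
  rcases n with _ | n
  · exact (Subgroup.relIndex_eq_one.1 hn hα).imp fun _ => Eq.symm
  · exact absurd ((dvd_pow_self 2 n.succ_ne_zero).trans hn.symm.dvd) odd

theorem std0_iff {A0 : Subgroup (MulAut (UO P))} (h0 : Std0 A0) (inn : ∀ s, MulAut.conj s ∈ A0) (hd : ∀ p, dg P p ∈ A0) :
    ∃ γ : RingAut K, ∀ α, α ∈ A0 ↔ ∃ (s : UO P) (p : Kˣ × Kˣ) (k : ℕ), α = MulAut.conj s * dg P p * fld P γ ^ k := by
  obtain ⟨s, hs⟩ := au_gen P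
  have := au_fin (K := K)
  have : IsCyclic (RingAut K) := ⟨s ^ 2, fun γ => (hs γ).elim fun n e => ⟨n, (zpow_natCast _ _).trans e⟩⟩
  obtain ⟨γ, hγ⟩ := IsCyclic.exists_monoid_generator (α := A0.comap (fld P))
  refine ⟨γ, fun α => ⟨fun h => ?_, ?_⟩⟩
  · obtain ⟨s, p, δ, e, h1⟩ := h0 α h
    obtain ⟨k, hk⟩ := hγ ⟨δ, (mul_mem_cancel_left (hd p)).1 h1⟩
    exact ⟨s, p, k, by rw [e, ← map_pow]; exact congrArg (fun x : A0.comap (fld P) => _ * fld P x.1) hk.symm⟩
  · rintro ⟨s, p, k, rfl⟩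
    exact mul_mem (mul_mem (inn s) (hd p)) (pow_mem (Subgroup.mem_comap.1 γ.2) k)

end CL.FZ
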