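/-
Fusion systems on a Sylow 2-subgroup of a large Ree group: conjugation automorphisms of a normal subgroup.
-/
import Cfsg.Agent.FZ.Defs2

set_option autoImplicit false

namespace CL.FZ

open Cfsg CL.Fus
open scoped Pointwise

variable {U : Type*} [Group U] {Q : Subgroup U} [Q.Normal]

theorem res_conj (s : U) : Res (MulAut.conj s) (MulAut.conjNormal s : MulAut Q) := fun _ => rfl

omit [Q.Normal] in
theorem Res.eq {α : MulAut U} {a b : MulAut Q} (ha : Res α a) (hb : Res α b) : a = b :=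
  MulEquiv.ext fun x => Subtype.ext ((ha x).trans (hb x).symm)

omit [Q.Normal] in
theorem Res.mul {α β : MulAut U} {a b : MulAut Q} (ha : Res α a) (hb : Res β b) : Res (α * β) (a * b) := fun x =>
  (ha (b x)).trans (congrArg α (hb x))

omit [Q.Normal] in
theorem Res.inv {α : MulAut U} {a : MulAut Q} (ha : Res α a) : Res α⁻¹ a⁻¹ := fun x =>
  α.injective (by rw [← ha, MulAut.apply_inv_self, MulAut.apply_inv_self])

theorem mem_T {a : MulAut Q} : a ∈ autInducedBy ⊤ Q ↔ ∃ s, a = MulAut.conjNormal s := by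
  refine ⟨fun h => ?_, by rintro ⟨s, rfl⟩; exact Subgroup.subset_closure ⟨s, trivial, fun _ => rfl⟩⟩
  refine (Subgroup.closure_le (MulAut.conjNormal : U →* MulAut Q).range).2 ?_ h |>.imp fun _ e => e.symm
  rintro a ⟨s, -, hs⟩
  exact ⟨s, MulEquiv.ext fun x => Subtype.ext (hs x).symm⟩

theorem mem_I {a : MulAut Q} : a ∈ Inn Q ↔ ∃ s ∈ Q, a = MulAut.conjNormal s := by
  rw [mem_Inn_iff]
  refine exists_congr fun s => and_congr_right fun _ => ⟨fun h => MulEquiv.ext fun x => Subtype.ext ?_, ?_⟩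
  · rw [← autFun_coe, h x x.2]; rfl
  · rintro rfl x hx
    exact autFun_coe _ ⟨x, hx⟩

theorem conj_conjNormal {α : MulAut U} {a : MulAut Q} (h : Res α a) (s : U) :
    a * MulAut.conjNormal s * a⁻¹ = MulAut.conjNormal (α s) :=
  ((h.mul (res_conj s)).mul h.inv).eq fun x => by simp

omit [Q.Normal] in
theorem smul_subgroupOf_eq {a : MulAut Q} {X Y : Subgroup U} :
    a • X.subgroupOf Q = Y.subgroupOf Q ↔ ∀ x : Q, (a x : U) ∈ Y ↔ (x : U) ∈ X := by
  rw [Subgroup.ext_iff, a.surjective.forall]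
  refine forall_congr' fun x => ?_
  exact iff_comm.trans (iff_congr .rfl (Subgroup.smul_mem_pointwise_smul_iff (a := a) (x := x) (S := X.subgroupOf Q)))

end CL.FZ
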