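/-
Project FZ: commutators in coordinates, and normal coordinate subgroups.
-/
import Cfsg.Agent.FZ.Defs2

set_option autoImplicit false
set_option linter.unusedSectionVars false
set_option linter.unusedVariables false
set_option linter.unusedSimpArgs false
set_option linter.unusedTactic false
set_option linter.unreachableTactic false
set_option linter.unnecessarySeqFocus false
set_option maxRecDepth 20000

namespace CL.FZ

open CL.Oct CL.Oct.UO Cfsg CL.Fus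
open scoped commutatorElement Pointwise

variable {K : Type*} [Field K] [CharP K 2] [Finite K] {P : Par K}

section
variable {x g : UO P}

theorem c_top (x g : UO P) : ⁅x, g⁆ ∈ Ph P := by
  refine ⟨?_, ?_⟩ <;> simp [commutatorElement_def, *, P.sq] <;> grind

theorem c_Ph (hx : x ∈ Ph P) (g : UO P) : ⁅x, g⁆ ∈ Z6 P := by
  obtain ⟨h0, h1⟩ := hx
  refine ⟨?_, ?_, ?_, ?_⟩ <;> simp [commutatorElement_def, *, P.sq] <;> grind

theorem c_Z6 (hx : x ∈ Z6 P) (g : UO P) : ⁅x, g⁆ ∈ Z5 P := by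
  obtain ⟨h0, h1, h2, h3⟩ := hx
  refine ⟨?_, ?_, ?_, ?_, ?_, ?_⟩ <;> simp [commutatorElement_def, *, P.sq] <;> grind

theorem c_Z5 (hx : x ∈ Z5 P) (g : UO P) : ⁅x, g⁆ ∈ Z4 P := by
  obtain ⟨h0, h1, h2, h3, h4, h5⟩ := hx
  refine ⟨?_, ?_, ?_, ?_, ?_, ?_, ?_, ?_⟩ <;> simp [commutatorElement_def, *, P.sq] <;> grind

theorem c_Z4 (hx : x ∈ Z4 P) (g : UO P) : ⁅x, g⁆ ∈ Z3 P := by
  obtain ⟨h0, h1, h2, h3, h4, h5, h6, h7⟩ := hx
  refine ⟨?_, ?_, ?_, ?_, ?_, ?_, ?_, ?_, ?_⟩ <;> simp [commutatorElement_def, *, P.sq] <;> grind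

theorem c_Z3 (hx : x ∈ Z3 P) (g : UO P) : ⁅x, g⁆ ∈ Vs P :=
  ua_comm_Vs hx g

theorem c_Vs (hx : x ∈ Vs P) (g : UO P) : ⁅x, g⁆ ∈ Zs P :=
  mem_Vs_iff.1 hx g

theorem c_Zs (hx : x ∈ Zs P) (g : UO P) : ⁅x, g⁆ = 1 :=
  commutatorElement_eq_one_iff_commute.2 (ua_Zs hx g).symm

theorem c_Rs (hx : x ∈ Rs P) (g : UO P) : ⁅x, g⁆ ∈ Ws P := by
  obtain ⟨h0, h1, h2, h3, h4, h5⟩ := hx
  refine ⟨?_, ?_, ?_, ?_, ?_, ?_, ?_⟩ <;> simp [commutatorElement_def, *, P.sq] <;> grind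

theorem c_Qp_Qp (hx : x ∈ Qp P) (hg : g ∈ Qp P) : ⁅x, g⁆ ∈ C3 P := by
  simp only [mem_Qp] at hx
  simp only [mem_Qp] at hg
  refine ⟨?_, ?_, ?_⟩ <;> simp [commutatorElement_def, *, P.sq] <;> grind

theorem c_C3_Qp (hx : x ∈ C3 P) (hg : g ∈ Qp P) : ⁅x, g⁆ ∈ R5 P := by
  obtain ⟨h0, h1, h2⟩ := hx
  simp only [mem_Qp] at hg
  refine ⟨?_, ?_, ?_, ?_, ?_, ?_, ?_⟩ <;> simp [commutatorElement_def, *, P.sq] <;> grind

theorem c_R5_Qp (hx : x ∈ R5 P) (hg : g ∈ Qp P) : ⁅x, g⁆ ∈ Z3 P := by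
  obtain ⟨h0, h1, h2, h3, h4, h5, h6⟩ := hx
  simp only [mem_Qp] at hg
  refine ⟨?_, ?_, ?_, ?_, ?_, ?_, ?_, ?_, ?_⟩ <;> simp [commutatorElement_def, *, P.sq] <;> grind

theorem c_Ws_Js (hx : x ∈ Ws P) (hg : g ∈ Js P) : ⁅x, g⁆ ∈ Z3 P := by
  obtain ⟨h0, h1, h2, h3, h4, h5, h6⟩ := hx
  simp only [mem_Js] at hg
  refine ⟨?_, ?_, ?_, ?_, ?_, ?_, ?_, ?_, ?_⟩ <;> simp [commutatorElement_def, *, P.sq] <;> grind

theorem c_Z4_Js (hx : x ∈ Z4 P) (hg : g ∈ Js P) : ⁅x, g⁆ ∈ Vs P := by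
  obtain ⟨h0, h1, h2, h3, h4, h5, h6, h7⟩ := hx
  simp only [mem_Js] at hg
  refine ⟨?_, ?_, ?_, ?_, ?_, ?_, ?_, ?_, ?_, ?_⟩ <;> simp [commutatorElement_def, *, P.sq] <;> grind

theorem c_Z3_Js (hx : x ∈ Z3 P) (hg : g ∈ Js P) : ⁅x, g⁆ ∈ Zs P := by
  obtain ⟨h0, h1, h2, h3, h4, h5, h6, h7, h8⟩ := hx
  simp only [mem_Js] at hg
  refine ⟨?_, ?_, ?_, ?_, ?_, ?_, ?_, ?_, ?_, ?_, ?_⟩ <;> simp [commutatorElement_def, *, P.sq] <;> grind

theorem c_Z5_Ph (hx : x ∈ Z5 P) (hg : g ∈ Ph P) : ⁅x, g⁆ ∈ Z3 P := by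
  obtain ⟨h0, h1, h2, h3, h4, h5⟩ := hx
  obtain ⟨k0, k1⟩ := hg
  refine ⟨?_, ?_, ?_, ?_, ?_, ?_, ?_, ?_, ?_⟩ <;> simp [commutatorElement_def, *, P.sq] <;> grind

theorem c_Qs_Qs (hx : x ∈ Qs P) (hg : g ∈ Qs P) : ⁅x, g⁆ ∈ Ws P := by
  obtain ⟨h0, h1⟩ := hx
  obtain ⟨k0, k1⟩ := hg
  refine ⟨?_, ?_, ?_, ?_, ?_, ?_, ?_⟩ <;> simp [commutatorElement_def, *, P.sq] <;> grind

theorem c_Vs_Qp (hx : x ∈ Vs P) (hg : g ∈ Qp P) : ⁅x, g⁆ = 1 :=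
  commutatorElement_eq_one_iff_commute.2 (mem_Qp_iff.1 hg x hx).symm

theorem k_b2 (x g : UO P) : ⁅x, g⁆.b2 = x.b8 * g.a1 + g.b8 * x.a1 := by
  simp [commutatorElement_def, *, P.sq] <;> grind

theorem k_b4 (hx : x ∈ Js P) (hg : g ∈ Js P) : ⁅x, g⁆.b4 = x.a8 * P.σ g.a1 + g.a8 * P.σ x.a1 := by
  simp only [mem_Js] at hx
  simp only [mem_Js] at hg
  simp [commutatorElement_def, *, P.sq] <;> grind

theorem k_b4' (hx : x ∈ C3 P) (g : UO P) : ⁅x, g⁆.b4 = x.a8 * P.σ g.a1 := by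
  obtain ⟨h0, h1, h2⟩ := hx
  simp [commutatorElement_def, *, P.sq] <;> grind

theorem k_a3 (hx : x ∈ Z5 P) (g : UO P) : ⁅x, g⁆.a3 = x.a7 * P.σ g.a1 + x.a2 * g.b8 := by
  obtain ⟨h0, h1, h2, h3, h4, h5⟩ := hx
  simp [commutatorElement_def, *, P.sq] <;> grind

theorem k_Z4 (hx : x ∈ Z4 P) (g : UO P) : ⁅x, g⁆.a5 = x.a3 * P.σ g.b8 := by
  obtain ⟨h0, h1, h2, h3, h4, h5, h6, h7⟩ := hx
  simp [commutatorElement_def, *, P.sq] <;> grind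

theorem k_R5_Qp (hx : x ∈ R5 P) (hg : g ∈ Qp P) : ⁅x, g⁆.a5 = x.a7 * P.σ g.b2 + x.a3 * P.σ g.b8 := by
  obtain ⟨h0, h1, h2, h3, h4, h5, h6⟩ := hx
  simp only [mem_Qp] at hg
  simp [commutatorElement_def, *, P.sq] <;> grind

theorem k_Ws_Js (hx : x ∈ Ws P) (hg : g ∈ Js P) : ⁅x, g⁆.a5 = x.a2 * g.a8 := by
  obtain ⟨h0, h1, h2, h3, h4, h5, h6⟩ := hx
  simp only [mem_Js] at hg
  simp [commutatorElement_def, *, P.sq] <;> grind

theorem k_Z4_Js (hx : x ∈ Z4 P) (hg : g ∈ Js P) : ⁅x, g⁆.a6 = x.a3 * g.a8 := by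
  obtain ⟨h0, h1, h2, h3, h4, h5, h6, h7⟩ := hx
  simp only [mem_Js] at hg
  simp [commutatorElement_def, *, P.sq] <;> grind

theorem fa_normal {N : Subgroup (UO P)} (h : ∀ x ∈ N, ∀ g, ⁅x, g⁆ ∈ N) : N.Normal := ⟨fun x hx g => by
  have := mul_mem (inv_mem (h x hx g)) hx
  rwa [commutatorElement_inv, commutatorElement_def, inv_mul_cancel_right] at this⟩

instance nZs : (Zs P).Normal := (normal_all P).1

instance nVs : (Vs P).Normal := (normal_all P).2.1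

instance nZ3 : (Z3 P).Normal := (normal_all P).2.2.1

instance nZ4 : (Z4 P).Normal := fa_normal fun x hx g => by have := c_Z4 hx g; simp_all only [mem_Z3, mem_Z4, and_self]

instance nZ5 : (Z5 P).Normal := fa_normal fun x hx g => by have := c_Z5 hx g; simp_all only [mem_Z5, mem_Z4, and_self]

instance nZ6 : (Z6 P).Normal := fa_normal fun x hx g => by have := c_Z6 hx g; simp_all only [mem_Z5, mem_Z6, and_self]

instance nWs : (Ws P).Normal := (normal_all P).2.2.2.1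

instance nRs : (Rs P).Normal := fa_normal fun x hx g => by have := c_Rs hx g; simp_all only [mem_Ws, mem_Rs, and_self]

instance nR5 : (R5 P).Normal := fa_normal fun x hx g => by
  have := c_Z5 (x := x) (by simp_all only [mem_Z5, mem_R5, and_self]) g
  simp_all only [mem_Z4, mem_R5, and_self]

instance nC4 : (C4 P).Normal := fa_normal fun x hx g => by
  have := c_Z6 (x := x) (by simp_all only [mem_Z6, mem_C4, and_self]) g
  simp_all only [mem_Z5, mem_C4, and_self]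

instance nC3 : (C3 P).Normal := fa_normal fun x hx g => by
  have := c_Ph (x := x) (by simp_all only [mem_Ph, mem_C3, and_self]) g
  simp_all only [mem_Z6, mem_C3, and_self]

instance nPh : (Ph P).Normal := (normal_all P).2.2.2.2.2.2.2

instance nQs : (Qs P).Normal := (normal_all P).2.2.2.2.1

instance nQp : (Qp P).Normal := (normal_all P).2.2.2.2.2.1

instance nJs : (Js P).Normal := (normal_all P).2.2.2.2.2.2.1

end

end CL.FZ
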