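/-
Fusion systems on a Sylow 2-subgroup of a large Ree group: commutators and squares in coordinates, II.
-/
import Cfsg.Agent.FZ.Defs2

set_option autoImplicit false
set_option linter.unusedSectionVars false
set_option linter.unusedVariables false
set_option linter.unusedSimpArgs false
set_option linter.unusedTactic false
set_option linter.unreachableTactic false
set_option linter.unnecessarySeqFocus false
set_option maxRecDepth 20000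

namespace CL.FZ

open CL.Oct CL.Oct.UO Cfsg CL.Fus
open scoped commutatorElement Pointwise

variable {K : Type*} [Field K] [CharP K 2] [Finite K] {P : Par K}

section
variable {x g : UO P}

theorem c_C3_C3 (hx : x ∈ C3 P) (hg : g ∈ C3 P) : ⁅x, g⁆ ∈ Z3 P := by
  obtain ⟨h0, h1, h2⟩ := hx
  obtain ⟨k0, k1, k2⟩ := hg
  refine ⟨?_, ?_, ?_, ?_, ?_, ?_, ?_, ?_, ?_⟩ <;> simp [commutatorElement_def, *, P.sq] <;> grind

theorem k_C3 (hx : x ∈ C3 P) (hg : g ∈ C3 P) :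
    ⁅x, g⁆.a5 = x.b4 * g.b6 + x.b6 * g.b4 + x.a2 * g.a8 + x.a8 * g.a2 := by
  obtain ⟨h0, h1, h2⟩ := hx
  obtain ⟨k0, k1, k2⟩ := hg
  simp [commutatorElement_def, *, P.sq] <;> grind

theorem c_Z3_C3 (hx : x ∈ Z3 P) (hg : g ∈ C3 P) : ⁅x, g⁆ = 1 := by
  obtain ⟨h0, h1, h2, h3, h4, h5, h6, h7, h8⟩ := hx
  obtain ⟨k0, k1, k2⟩ := hg
  ext <;> simp [commutatorElement_def, *, P.sq] <;> grind

theorem k_R5_C3 (hx : x ∈ R5 P) (hg : g ∈ C3 P) :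
    ⁅x, g⁆ = x4 (x.a3 * g.b6 + x.a7 * g.a2) * x6 (x.a3 * g.a8 + x.a7 * g.b4) := by
  obtain ⟨h0, h1, h2, h3, h4, h5, h6⟩ := hx
  obtain ⟨k0, k1, k2⟩ := hg
  ext <;> simp [commutatorElement_def, *, P.sq] <;> grind

theorem k_Z5 (hx : x ∈ Z5 P) (hg : g ∈ Z5 P) : ⁅x, g⁆ = x4 (x.a2 * g.a7 + x.a7 * g.a2) := by
  obtain ⟨h0, h1, h2, h3, h4, h5⟩ := hx
  obtain ⟨k0, k1, k2, k3, k4, k5⟩ := hg
  ext <;> simp [commutatorElement_def, *, P.sq] <;> grind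

theorem k_Ws_Qs (hx : x ∈ Ws P) (hg : g ∈ Qs P) :
    ⁅x, g⁆ = x4 (x.a2 * g.a7 + x.a3 * g.b6 + x.a5 * g.b2 + x.a6 * g.a1) := by
  obtain ⟨h0, h1, h2, h3, h4, h5, h6⟩ := hx
  obtain ⟨k0, k1⟩ := hg
  ext <;> simp [commutatorElement_def, *, P.sq] <;> grind

theorem k_Rs_Qs (hx : x ∈ Rs P) (hg : g ∈ Qs P) : ⁅x, g⁆.a2 = x.b4 * g.a1 ∧ ⁅x, g⁆.a3 = x.b4 * g.b2 ∧
    ⁅x, g⁆.a5 = x.b4 * g.b6 ∧ ⁅x, g⁆.a6 = x.b4 * g.a7 := by
  obtain ⟨h0, h1, h2, h3, h4, h5⟩ := hx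
  obtain ⟨k0, k1⟩ := hg
  refine ⟨?_, ?_, ?_, ?_⟩ <;> simp [commutatorElement_def, *, P.sq] <;> grind

theorem c_Z5_Z6 (hx : x ∈ Z5 P) (hg : g ∈ Z6 P) : ⁅x, g⁆ ∈ Vs P := by
  obtain ⟨h0, h1, h2, h3, h4, h5⟩ := hx
  obtain ⟨k0, k1, k2, k3⟩ := hg
  refine ⟨?_, ?_, ?_, ?_, ?_, ?_, ?_, ?_, ?_, ?_⟩ <;> simp [commutatorElement_def, *, P.sq] <;> grind

theorem c_Td_Td (hx : x ∈ Td P) (hg : g ∈ Td P) : ⁅x, g⁆ ∈ A5 P := by
  obtain ⟨h0, h1, h2, h3⟩ := hx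
  obtain ⟨k0, k1, k2, k3⟩ := hg
  refine ⟨?_, ?_, ?_, ?_, ?_, ?_, ?_⟩ <;> simp [commutatorElement_def, *, P.sq] <;> grind

theorem k_A5_Td (hx : x ∈ A5 P) (hg : g ∈ Td P) : ⁅x, g⁆ = x6 (x.a5 * g.b8 + x.a7 * g.b4) := by
  obtain ⟨h0, h1, h2, h3, h4, h5, h6⟩ := hx
  obtain ⟨k0, k1, k2, k3⟩ := hg
  ext <;> simp [commutatorElement_def, *, P.sq] <;> grind

theorem c_Tc_y4 (hx : x ∈ Tc P) (t : K) : ⁅x, y4 t⁆ ∈ Z3 P := by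
  obtain ⟨h0, h1, h2, h3⟩ := hx
  refine ⟨?_, ?_, ?_, ?_, ?_, ?_, ?_, ?_, ?_⟩ <;> simp [commutatorElement_def, *, P.sq] <;> grind

theorem sq_Td (hx : x ∈ Td P) : x * x ∈ A5 P := by
  obtain ⟨h0, h1, h2, h3⟩ := hx
  refine ⟨?_, ?_, ?_, ?_, ?_, ?_, ?_⟩ <;> simp [*, P.sq] <;> grind

theorem sq_Rs (hx : x ∈ Rs P) : x * x = x4 (x.b4 * P.σ x.b4) := by
  obtain ⟨h0, h1, h2, h3, h4, h5⟩ := hx
  ext <;> simp [*, P.sq] <;> grind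

theorem sq_Qs (hx : x ∈ Qs P) : x * x ∈ Ws P := by
  obtain ⟨h0, h1⟩ := hx
  refine ⟨?_, ?_, ?_, ?_, ?_, ?_, ?_⟩ <;> simp [*, P.sq] <;> grind

theorem sq_x (t : K) : (x1 t * x1 t : UO P) = 1 ∧ (x2 t * x2 t : UO P) = 1 ∧ (x3 t * x3 t : UO P) = 1 ∧
    (x7 t * x7 t : UO P) = 1 ∧ (x8 t * x8 t : UO P) = 1 := by
  refine ⟨?_, ?_, ?_, ?_, ?_⟩ <;> ext <;> simp [CharTwo.add_self_eq_zero]

theorem sq_Ws (hx : x ∈ Ws P) : x * x = 1 := by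
  obtain ⟨h0, h1, h2, h3, h4, h5, h6⟩ := hx
  ext <;> simp [*, CharTwo.add_self_eq_zero]

theorem sq_R5 (hx : x ∈ R5 P) : x * x = 1 := by
  obtain ⟨h0, h1, h2, h3, h4, h5, h6⟩ := hx
  ext <;> simp [*, CharTwo.add_self_eq_zero]

theorem sq_A5 (hx : x ∈ A5 P) : x * x = 1 := by
  obtain ⟨h0, h1, h2, h3, h4, h5, h6⟩ := hx
  ext <;> simp [*, CharTwo.add_self_eq_zero]

theorem inv_b8 (h : x * x = 1) : x.b8 = 0 ∧ x.a1 * x.a8 = 0 := by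
  have e := congrArg UO.a8 h
  simp [CharTwo.add_self_eq_zero] at e
  have e' := congrArg UO.b6 h
  simp [CharTwo.add_self_eq_zero, e] at e'
  exact ⟨e, mul_eq_zero.2 e'.symm⟩

theorem inv_C3 (h : x * x = 1) (h1 : x.a1 = 0) : x ∈ C3 P := by
  have e := congrArg UO.a2 h
  simp [CharTwo.add_self_eq_zero, h1, (inv_b8 h).1] at e
  exact ⟨h1, e, (inv_b8 h).1⟩

theorem inv_Z5 (h : x * x = 1) (hx : x ∈ Z6 P) : x ∈ Z5 P ∧ x.a2 * x.a7 = 0 := by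
  obtain ⟨h1, e2, k8, h8⟩ := hx
  have e5 := congrArg UO.a5 h
  have e6 := congrArg UO.a6 h
  have e4 := congrArg UO.a4 h
  simp only [mul_a5, mul_a6, h1, k8, h8, e2, CharTwo.add_self_eq_zero, map_zero, mul_zero, zero_mul, add_zero, zero_add,
    one_a5, one_a6] at e5 e6
  have k6 : x.b6 = 0 := by_contra fun k6 => by
    rw [(mul_eq_zero.1 e5).resolve_left k6] at e6
    simp [k6] at e6
  simp [k6] at e6
  by_cases h7 : x.a7 = 0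
  · simp [h1, k8, h8, CharTwo.add_self_eq_zero, e2, k6, h7] at e4
    exact ⟨⟨h1, e2, e4, k6, k8, h8⟩, by rw [h7, mul_zero]⟩
  · have k4 := e6.resolve_left h7
    simp [h1, k8, h8, CharTwo.add_self_eq_zero, e2, k6, h7, k4] at e4
    exact ⟨⟨h1, e2, k4, k6, k8, h8⟩, by rw [e4, zero_mul]⟩

theorem inv_b4 (h : x * x = 1) (hx : x ∈ C3 P) (h2 : x.a2 = 0) : x.b4 = 0 := by
  obtain ⟨h1, e2, k8⟩ := hx
  have e5 := congrArg UO.a5 h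
  have e4 := congrArg UO.a4 h
  simp [h1, e2, k8, h2, CharTwo.add_self_eq_zero] at e5
  rcases e5 with e | e
  · simpa [h1, e2, k8, h2, e, CharTwo.add_self_eq_zero] using e4
  · exact e

theorem inv_A5 (h : x * x = 1) (hx : x ∈ Td P) : x ∈ A5 P := by
  obtain ⟨h1, e2, h2, h3⟩ := hx
  have k8 := (inv_b8 h).1
  have k4 := inv_b4 h ⟨h1, e2, k8⟩ h2
  have e6 := congrArg UO.a6 h
  simp [h1, e2, k8, h2, h3, k4, CharTwo.add_self_eq_zero] at e6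
  exact ⟨h1, e2, h2, h3, k4, e6, k8⟩

theorem mem_C3_iff : x ∈ C3 P ↔ ∀ v ∈ Z3 P, v * x = x * v := by
  refine ⟨fun hx v hv => (commutatorElement_eq_one_iff_mul_comm.1 (c_Z3_C3 hv hx)), fun h => ?_⟩
  have e1 := congrArg UO.a4 (h (x6 1) (by simp))
  have e2 := congrArg UO.a6 (h (x5 1) (by simp))
  have e3 := congrArg UO.a4 (h (x5 1) (by simp))
  simp at e1 e2 e3
  refine ⟨?_, ?_, ?_⟩ <;> grind

theorem in_Qs (hx : x ∈ Ws P) (h : x.a2 ≠ 0 ∨ x.a3 ≠ 0) (hc : ⁅x, g⁆ ∈ Zs P) : g ∈ Qs P := by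
  obtain ⟨h0, h1, h2, h3, h4, h5, h6⟩ := hx
  obtain ⟨-, -, -, e3, -, e5, -, e6, -⟩ := hc
  have f3 : ⁅x, g⁆.a3 = x.a2 * g.b8 := by simp [commutatorElement_def, h0, h1, h2, h3, h4, h5, h6, P.sq] <;> grind
  by_cases a2 : x.a2 = 0
  · have a3 := h.resolve_left (not_not.2 a2)
    have f5 : ⁅x, g⁆.a5 = x.a3 * P.σ g.b8 := by
      simp [commutatorElement_def, h0, h1, h2, h3, h4, h5, h6, a2, P.sq] <;> grind
    have b8 : g.b8 = 0 := by simpa [e5, a3] using f5.symm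
    have f6 : ⁅x, g⁆.a6 = x.a3 * g.a8 := by
      simp [commutatorElement_def, h0, h1, h2, h3, h4, h5, h6, a2, b8, P.sq] <;> grind
    exact ⟨b8, by simpa [e6, a3] using f6.symm⟩
  · have b8 : g.b8 = 0 := by simpa [e3, a2] using f3.symm
    have f5 : ⁅x, g⁆.a5 = x.a2 * g.a8 := by
      simp [commutatorElement_def, h0, h1, h2, h3, h4, h5, h6, b8, P.sq] <;> grind
    exact ⟨b8, by simpa [e5, a2] using f5.symm⟩

theorem in_Js (hx : x ∈ Z3 P) (h : x.a5 ≠ 0) (hc : ⁅x, g⁆ ∈ Zs P) : g ∈ Js P := by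
  obtain ⟨h0, h1, h2, h3, h4, h5, h6, h7, h8⟩ := hx
  obtain ⟨-, -, -, -, -, -, -, e6, -⟩ := hc
  have f6 : ⁅x, g⁆.a6 = x.a5 * g.b8 := by
    simp [commutatorElement_def, h0, h1, h2, h3, h4, h5, h6, h7, h8, P.sq] <;> grind
  simpa [e6, h] using f6.symm

theorem a1_eq_zero (hx : x ∈ Qs P) (hg : g ∉ Qs P) (hc : ⁅x, g⁆ ∈ Ws P) : x.a1 = 0 := by
  obtain ⟨h0, h1⟩ := hx
  obtain ⟨-, e2, e4, -⟩ := hc
  have f2 : ⁅x, g⁆.b2 = x.a1 * g.b8 := by simp [commutatorElement_def, h0, h1, P.sq] <;> grind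
  by_cases b8 : g.b8 = 0
  · have a8 : g.a8 ≠ 0 := fun e => hg ⟨b8, e⟩
    have f4 : ⁅x, g⁆.b4 = g.a8 * P.σ x.a1 := by simp [commutatorElement_def, h0, h1, b8, P.sq] <;> grind
    simpa [e4, a8] using f4.symm
  · simpa [e2, b8] using f2.symm

theorem cen_a1 (h : x * x = 1) (h1 : x.a1 ≠ 0) (hc : ⁅x, g⁆ = 1) : g ∈ Qs P := by_contra fun hg =>
  h1 (a1_eq_zero ⟨(inv_b8 h).1, (mul_eq_zero.1 (inv_b8 h).2).resolve_left h1⟩ hg (hc ▸ one_mem _))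

end

end CL.FZ
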