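/-
Fusion systems on a Sylow 2-subgroup of a large Ree group: characteristic subgroups and standard involutions.
-/
import Cfsg.Agent.FZ.Defs2
import Cfsg.Agent.FZ.FA
import Cfsg.Agent.FZ.FB

set_option autoImplicit false
set_option linter.unusedSectionVars false
set_option maxRecDepth 20000

namespace CL.FZ

open CL.Oct CL.Oct.UO Cfsg CL.Fus
open scoped commutatorElement Pointwise

variable {K : Type*} [Field K] [CharP K 2] [Finite K] {P : Par K}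

theorem ch_forall {U : Type*} [Group U] {Q : Subgroup U} {p : U → Prop} : (∀ g ∈ Q, p g) ↔ ∀ g : Q, p g :=
  ⟨fun h g => h g g.2, fun h g hg => h ⟨g, hg⟩⟩

theorem ch_coe {U : Type*} [Group U] {Q : Subgroup U} (x g : Q) : ⁅(x : U), (g : U)⁆ = (⁅x, g⁆ : Q) := rfl

theorem ch_Rs {x : UO P} (hx : x ∈ Qs P) : x ∈ Rs P ↔ ∀ g ∈ Qs P, ∀ h ∈ Qs P, ⁅⁅g, h⁆, x⁆ = 1 := by
  refine ⟨fun h g hg k hk => ?_, fun h => ?_⟩
  · obtain ⟨h0, h1, h2, h3, -, -⟩ := h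
    rw [k_Ws_Qs (c_Qs_Qs hg hk) hx, ua_x4]
    simp [*]
  · have hy : (y4 1 : UO P) ∈ Rs P := by simp
    have hq : (y4 1 : UO P) ∈ Qs P := by simp
    have key : ∀ g ∈ Qs P, g.a1 * x.a7 + g.b2 * x.b6 + g.b6 * x.b2 + g.a7 * x.a1 = 0 := fun g hg => by
      have e := h _ hq g hg
      obtain ⟨e2, e3, e5, e6⟩ := k_Rs_Qs hy hg
      rw [k_Ws_Qs (c_Qs_Qs hq hg) hx, ua_x4, e2, e3, e5, e6] at e
      simpa using e
    exact ⟨by simpa using key (x7 1) (by simp), by simpa using key (y6 1) (by simp), by simpa using key (y2 1) (by simp),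
      by simpa using key (x1 1) (by simp), hx.1, hx.2⟩

theorem ch_Ws {x : UO P} : x ∈ Ws P ↔ x ∈ Rs P ∧ x * x = 1 := by
  refine ⟨fun h => ⟨?_, sq_Ws h⟩, fun ⟨h, e⟩ => ?_⟩
  · obtain ⟨h0, h1, h2, h3, h4, h5, h6⟩ := h
    exact ⟨h0, h1, h3, h4, h5, h6⟩
  · rw [sq_Rs h, ua_x4] at e
    obtain ⟨h0, h1, h3, h4, h5, h6⟩ := h
    exact ⟨h0, h1, by simpa using e, h3, h4, h5, h6⟩

theorem aut_Qs_mem (a : MulAut (Qs P)) (x : Qs P) : ((a x : UO P) ∈ Zs P ↔ (x : UO P) ∈ Zs P) ∧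
    ((a x : UO P) ∈ Ws P ↔ (x : UO P) ∈ Ws P) ∧ ((a x : UO P) ∈ Rs P ↔ (x : UO P) ∈ Rs P) := by
  have hR : (a x : UO P) ∈ Rs P ↔ (x : UO P) ∈ Rs P := by
    rw [ch_Rs (a x).2, ch_Rs x.2]
    simp only [ch_forall]
    rw [a.surjective.forall₂]
    simp only [ch_coe, ← map_commutatorElement, OneMemClass.coe_eq_one, EmbeddingLike.map_eq_one_iff]
  refine ⟨?_, ?_, hR⟩
  · rw [← cent_Qs, ← cent_Qs, ch_forall, ch_forall, a.surjective.forall]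
    simp only [Commute, SemiconjBy, ← Subgroup.coe_mul, ← map_mul, Subtype.coe_inj, a.injective.eq_iff]
  · rw [ch_Ws, ch_Ws, hR, ← Subgroup.coe_mul, ← Subgroup.coe_mul, ← map_mul, OneMemClass.coe_eq_one,
      OneMemClass.coe_eq_one, EmbeddingLike.map_eq_one_iff]

theorem ch_C3 {x : UO P} : x ∈ C3 P ↔ ∀ v ∈ Qp P, v ∈ Z3 P → v * x = x * v :=
  mem_C3_iff.trans ⟨fun h v _ => h v, fun h v hv => h v hv.1 hv⟩

theorem ch_R5 {x : UO P} : x ∈ R5 P ↔ x ∈ C3 P ∧ ∀ g ∈ Qp P, g ∈ C3 P → ⁅x, g⁆ ∈ Vs P := by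
  refine ⟨fun h => ⟨⟨h.1, h.2.1, h.2.2.2.2.2.1⟩, fun g _ hg => ?_⟩, fun ⟨h, e⟩ => ?_⟩
  · rw [k_R5_C3 h hg]
    exact mul_mem (by simp) (by simp)
  · have key : ∀ g ∈ C3 P, x.b4 * g.b6 + x.b6 * g.b4 + x.a2 * g.a8 + x.a8 * g.a2 = 0 := fun g hg => by
      rw [← k_C3 h hg]; exact (e g hg.1 hg).2.2.2.2.2.1
    exact ⟨h.1, h.2.1, by simpa using key (x8 1) (by simp), by simpa using key (y6 1) (by simp),
      by simpa using key (y4 1) (by simp), h.2.2, by simpa using key (x2 1) (by simp)⟩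

theorem aut_Qp_mem (a : MulAut (Qp P)) (x : Qp P) : ((a x : UO P) ∈ Vs P ↔ (x : UO P) ∈ Vs P) ∧
    ((a x : UO P) ∈ Z3 P ↔ (x : UO P) ∈ Z3 P) ∧ ((a x : UO P) ∈ C3 P ↔ (x : UO P) ∈ C3 P) ∧
    ((a x : UO P) ∈ R5 P ↔ (x : UO P) ∈ R5 P) := by
  have h1 : ∀ x : Qp P, (a x : UO P) ∈ Vs P ↔ (x : UO P) ∈ Vs P := fun x => by
    rw [← center_Qp (a x).2, ← center_Qp x.2, ch_forall, ch_forall, a.surjective.forall]
    simp only [Commute, SemiconjBy, ← Subgroup.coe_mul, ← map_mul, Subtype.coe_inj, a.injective.eq_iff]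
  have h2 : ∀ x : Qp P, (a x : UO P) ∈ Z3 P ↔ (x : UO P) ∈ Z3 P := fun x => by
    rw [← center2_Qp (a x).2, ← center2_Qp x.2, ch_forall, ch_forall, a.surjective.forall]
    simp only [ch_coe, ← map_commutatorElement, h1]
  have h3 : ∀ x : Qp P, (a x : UO P) ∈ C3 P ↔ (x : UO P) ∈ C3 P := fun x => by
    rw [ch_C3, ch_C3, ch_forall, ch_forall, a.surjective.forall]
    simp only [h2, ← Subgroup.coe_mul, ← map_mul, Subtype.coe_inj, a.injective.eq_iff]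
  refine ⟨h1 x, h2 x, h3 x, ?_⟩
  rw [ch_R5, ch_R5, ch_forall, ch_forall, a.surjective.forall, h3]
  simp only [ch_coe, ← map_commutatorElement, h1, h3]

theorem ch_Z4 {y : UO P} : y ∈ Z4 P ↔ ∀ g, ⁅y, g⁆ ∈ Z3 P := by
  refine ⟨c_Z4, fun h => ?_⟩
  have h8 : y.b8 = 0 := by simpa [k_b2] using (h (x1 1)).2.1
  have h1 : y.a1 = 0 := by simpa [k_b2] using (h (y8 1)).2.1
  have k8 : y.a8 = 0 := by simpa [k_b4 (x := y) (g := x1 1) h8 (by simp)] using (h (x1 1)).2.2.2.2.1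
  have h2 : y.b2 = 0 := by
    simpa [commutatorElement_def, h1, h8, k8, CharTwo.add_self_eq_zero] using (h (y8 1)).2.2.2.2.1
  have h6 : y.b6 = 0 := by
    have := (h (y8 1)).2.2.2.2.2.2.1
    simp [commutatorElement_def, h1, h8, k8, h2] at this
    grind
  have h4 : y.b4 = 0 := by
    have := (h (y2 1)).2.2.2.1
    simp [commutatorElement_def, h1, h8, k8, h2, h6] at this
    grind
  have h5 : y ∈ Z5 P := ⟨h1, h2, h4, h6, h8, k8⟩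
  exact ⟨h1, h2, by simpa [k_a3 h5] using (h (y8 1)).2.2.2.1, h4, h6, by simpa [k_a3 h5] using (h (x1 1)).2.2.2.1, h8, k8⟩

theorem ch_Qs {x : UO P} : x ∈ Qs P ↔ x ∈ Js P ∧ ∀ y ∈ Z4 P, ⁅y, x⁆ ∈ Zs P := by
  refine ⟨fun h => ⟨h.1, fun y hy => ?_⟩, fun ⟨h, e⟩ => ⟨h, ?_⟩⟩
  · rw [k_Ws_Qs ⟨hy.1, hy.2.1, hy.2.2.2.1, hy.2.2.2.2.1, hy.2.2.2.2.2⟩ h]
    simp
  · have hy : (x3 1 : UO P) ∈ Z4 P := by simp
    simpa [k_Z4_Js hy h] using (e _ hy).2.2.2.2.2.2.2.1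

theorem aut_Qs (α : MulAut (UO P)) (x : UO P) : α x ∈ Qs P ↔ x ∈ Qs P := by
  have h4 : ∀ x, α x ∈ Z4 P ↔ x ∈ Z4 P := fun x => by
    rw [ch_Z4, ch_Z4, α.surjective.forall]
    simp only [← map_commutatorElement, fun x => (aut_mem α x).2.2.1]
  rw [ch_Qs, ch_Qs, α.surjective.forall, (aut_mem α x).2.2.2.2]
  simp only [← map_commutatorElement, fun x => (aut_mem α x).1, h4]

theorem ch_mv {w b : UO P} (hw : w ∈ Qs P) (h : Mv w b) : ∃ a : MulAut (Qs P), (a ⟨w, hw⟩ : UO P) = b := by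
  induction h with
  | refl => exact ⟨1, rfl⟩
  | conj g _ ih =>
    obtain ⟨a, ha⟩ := ih
    obtain ⟨c, hc⟩ := exists_res (MulAut.conj g) (aut_Qs _)
    exact ⟨c * a, by rw [MulAut.mul_apply, hc, ha]; rfl⟩
  | rn _ _ ih =>
    obtain ⟨a, ha⟩ := ih
    exact ⟨rnA P * a, by rw [MulAut.mul_apply, rnA_apply, ha]⟩

theorem exists_x7 {w : UO P} (hw : w ∈ Qs P) (h2 : w * w = 1) (hR : w ∉ Rs P) :
    ∃ (a : MulAut (Qs P)) (t : K), t ≠ 0 ∧ (a ⟨w, hw⟩ : UO P) = x7 t := by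
  obtain ⟨b, hb, hm⟩ := exists_std h2 fun h => hR (ch_Ws.1 ⟨h.1, h.2.1, h.2.2.2.2.1, h.2.2.2.2.2.2.1, h.2.2.2.2.2.2.2.2⟩).1
  obtain ⟨a, rfl⟩ := ch_mv hw hm
  have hR' := mt (aut_Qs_mem a ⟨w, hw⟩).2.2.1 hR
  have hQ := (a ⟨w, hw⟩).2
  obtain ⟨h, -⟩ | ⟨t, -, h⟩ | ⟨t, ht, h⟩ | ⟨t, s, ht, h⟩ := hb
  · exact (hR' ⟨h.1, h.2.1, h.2.2.2.2.2.2⟩).elim
  · exact (hR' (by rw [h]; simp)).elim
  · exact ⟨a, t, ht, h⟩
  · rw [h] at hQ
    exact (ht (by simpa using hQ.2)).elim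

theorem ch_mv' {w b : UO P} (hw : w ∉ Qs P) (h : Mv w b) : ∃ g : UO P, g * w * g⁻¹ = b := by
  induction h with
  | refl => exact ⟨1, by simp⟩
  | conj g _ ih =>
    obtain ⟨k, rfl⟩ := ih
    exact ⟨g * k, by group⟩
  | rn _ hb ih =>
    obtain ⟨k, rfl⟩ := ih
    exact (hw ((aut_Qs (MulAut.conj k) w).1 hb)).elim

theorem exists_x8 {w : UO P} (h2 : w * w = 1) (h8 : w.a8 ≠ 0) : ∃ (g : UO P) (s t : K), t ≠ 0 ∧ g * w * g⁻¹ = x4 s * x8 t := by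
  have hw : w ∉ Qs P := fun h => h8 h.2
  obtain ⟨b, hb, hm⟩ := exists_std h2 fun h => h8 h.2.2.2.2.2.2.2.2.2.2
  obtain ⟨g, rfl⟩ := ch_mv' hw hm
  have hQ : g * w * g⁻¹ ∉ Qs P := mt (aut_Qs (MulAut.conj g) w).1 hw
  obtain ⟨h, -⟩ | ⟨t, -, h⟩ | ⟨t, -, h⟩ | ⟨t, s, ht, h⟩ := hb
  · exact (hQ h.2.2.2.2.2.2.2.2).elim
  · exact (hQ (by rw [h]; simp)).elim
  · exact (hQ (by rw [h]; simp)).elim
  · exact ⟨g, s, t, ht, h⟩

section Gen

variable {U : Type*} [Group U] {Q : Subgroup U}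

theorem Res.ch_inv {β : MulAut U} {b : MulAut Q} (hb : Res β b) : Res β⁻¹ b⁻¹ := fun x => by
  rw [MulAut.inv_def, MulAut.inv_def, MulEquiv.eq_symm_apply, ← hb, MulEquiv.apply_symm_apply]

theorem Res.ch_mul {β γ : MulAut U} {b c : MulAut Q} (hb : Res β b) (hc : Res γ c) : Res (β * γ) (b * c) := fun x => by
  rw [MulAut.mul_apply, MulAut.mul_apply, hb, hc]

theorem Res.ch_conj {β α : MulAut U} {b a : MulAut Q} (hb : Res β b) (ha : Res α a) :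
    Res (MulAut.conj β α) (MulAut.conj b a) := (hb.ch_mul ha).ch_mul hb.ch_inv

theorem ch_cc (β : MulAut U) (s : U) : MulAut.conj β (MulAut.conj s) = MulAut.conj (β s) := by
  ext x; simp

theorem Res.ch_mem {β : MulAut U} {b a : MulAut Q} (hb : Res β b) (ha : a ∈ autInducedBy ⊤ Q) :
    MulAut.conj b a ∈ autInducedBy ⊤ Q := by
  induction ha using Subgroup.closure_induction with
  | mem a ha =>
    obtain ⟨g, -, hg⟩ := ha
    have := hb.ch_conj (show Res (MulAut.conj g) a from hg)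
    rw [ch_cc] at this
    exact Subgroup.subset_closure ⟨β g, trivial, this⟩
  | one => rw [map_one]; exact one_mem _
  | mul x y _ _ h1 h2 => rw [map_mul]; exact mul_mem h1 h2
  | inv x _ h1 => rw [map_inv]; exact inv_mem h1

theorem Res.ch_map {β : MulAut U} {b : MulAut Q} (hb : Res β b) :
    (autInducedBy ⊤ Q).map (MulAut.conj b).toMonoidHom = autInducedBy ⊤ Q := by
  refine le_antisymm ?_ fun a ha => ⟨_, hb.ch_inv.ch_mem ha, by simp [mul_assoc]⟩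
  rintro _ ⟨a, ha, rfl⟩
  exact hb.ch_mem ha

end Gen

theorem Rk1.map {U : Type*} [Group U] {Q : Subgroup U} {A0 : Subgroup (MulAut U)} {A : Subgroup (MulAut Q)}
    (h : Rk1 Q A0 A) {β : MulAut U} {b : MulAut Q} (hb : Res β b) :
    Rk1 Q (A0.map (MulAut.conj β).toMonoidHom) (A.map (MulAut.conj b).toMonoidHom) := by
  have hr : (MulAut.conj : U →* MulAut U).range.map (MulAut.conj β).toMonoidHom = (MulAut.conj : U →* MulAut U).range := by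
    refine le_antisymm ?_ ?_
    · rintro _ ⟨_, ⟨s, rfl⟩, rfl⟩
      exact ⟨β s, (ch_cc β s).symm⟩
    · rintro _ ⟨s, rfl⟩
      exact ⟨_, ⟨β.symm s, rfl⟩, (ch_cc β _).trans (by rw [MulEquiv.apply_symm_apply])⟩
  refine ⟨fun s => ⟨_, h.inn (β.symm s), (ch_cc β _).trans (by rw [MulEquiv.apply_symm_apply])⟩, ?_, ?_, ?_, ?_, ?_⟩
  · rw [← hr, Subgroup.relIndex_map_map_of_injective _ _ (MulAut.conj β).injective]
    exact h.odd
  · rintro _ ⟨α, hα, rfl⟩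
    obtain ⟨a, ha, e⟩ := h.res α hα
    exact ⟨_, ⟨a, ha, rfl⟩, hb.ch_conj e⟩
  · rw [← hb.ch_map, Subgroup.relIndex_map_map_of_injective _ _ (MulAut.conj b).injective]
    exact h.syl
  · rintro _ ⟨a, ha, rfl⟩ hn
    have hb' : b ∈ Subgroup.normalizer (autInducedBy ⊤ Q : Set (MulAut Q)) :=
      Subgroup.mem_normalizer_iff.2 fun c => ⟨hb.ch_mem, fun hc => by simpa [mul_assoc] using hb.ch_inv.ch_mem hc⟩
    obtain ⟨α, hα, e⟩ := h.ext a ha (by simpa [mul_assoc] using mul_mem (mul_mem (inv_mem hb') hn) hb')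
    exact ⟨_, ⟨α, hα, rfl⟩, hb.ch_conj e⟩
  · obtain ⟨a, ha, hn⟩ := h.ne
    refine ⟨_, ⟨a, ha, rfl⟩, ?_⟩
    rintro ⟨_, ⟨α, hα, rfl⟩, e⟩
    exact hn ⟨α, hα, by simpa [mul_assoc] using hb.ch_inv.ch_conj e⟩

end CL.FZ
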