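/-
Project FZ: five excluded configurations for a critical subgroup.
-/
import Cfsg.Agent.FZ.Defs2
import Cfsg.Agent.FZ.CH

set_option autoImplicit false
set_option linter.unusedSectionVars false
set_option linter.unusedVariables false
set_option linter.unusedSimpArgs false
set_option linter.unnecessarySeqFocus false
set_option maxRecDepth 20000

namespace CL.FZ

open CL.Oct CL.Oct.UO Cfsg CL.Fus
open scoped commutatorElement Pointwise

variable {K : Type*} [Field K] [CharP K 2] [Finite K] {P : Par K}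

section Gen
variable {U : Type*} [Group U] {E : Subgroup U} {M : (U → U) → Prop}

theorem ea_conj {N : Subgroup U} (hN : N.Normal) (h : N ≤ E) (g : U) : N ≤ E.map (MulAut.conj g).toMonoidHom :=
  fun v hv => ⟨g⁻¹ * v * g, h (hN.conj_mem' v hv g), by simp [mul_assoc]⟩

theorem ea_cen {w : U} (hc : ∀ e ∈ E, Commute w e) (g : U) :
    E.map (MulAut.conj g).toMonoidHom ≤ Subgroup.centralizer {g * w * g⁻¹} := by
  rintro _ ⟨e, he, rfl⟩
  exact Subgroup.mem_centralizer_singleton_iff.2 ((hc e he).map (MulAut.conj g)).symm.eq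

/-- transport along an automorphism of an overgroup -/
theorem ea_tr (h : Crit E M) {Q : Subgroup U} (hE : E ≤ Q) (a : MulAut Q) : ∃ F : Subgroup U,
    (∀ x : Q, (a x : U) ∈ F ↔ (x : U) ∈ E) ∧ (∀ e ∈ F, ∃ x : Q, (x : U) ∈ E ∧ e = a x) ∧
    (∀ x ∈ Q, (∀ e ∈ F, Commute x e) → x ∈ F) ∧
    ∀ x ∈ Q, ∀ y ∈ Q, (∀ e ∈ F, ⁅e, x⁆ ∈ F) → (∀ e ∈ F, ⁅e, y⁆ ∈ F) → x ∉ F → y ∉ F → x * x = 1 → y * y ∈ F →
      ∃ e ∈ F, y * e * (y * e) = 1 := by
  let φ : Q →* U := Q.subtype.comp a.toMonoidHom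
  have hφ : Function.Injective φ := Subtype.val_injective.comp a.injective
  have me : ∀ x : Q, φ x ∈ (E.subgroupOf Q).map φ ↔ (x : U) ∈ E := fun x => Subgroup.mem_map_iff_mem hφ
  have su : ∀ x ∈ Q, ∃ x' : Q, x = φ x' := fun x hx =>
    ⟨a.symm ⟨x, hx⟩, (congrArg Subtype.val (a.apply_symm_apply ⟨x, hx⟩)).symm⟩
  have nr : ∀ x : Q, (∀ e ∈ (E.subgroupOf Q).map φ, ⁅e, φ x⁆ ∈ (E.subgroupOf Q).map φ) → ∀ e ∈ E, ⁅e, (x : U)⁆ ∈ E :=
    fun x hx e he => by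
      have := hx _ ((me ⟨e, hE he⟩).2 he)
      rw [← map_commutatorElement] at this
      exact (me _).1 this
  refine ⟨(E.subgroupOf Q).map φ, me, ?_, fun x hx hc => ?_, fun x hx y hy h1 h2 h3 h4 h5 h6 => ?_⟩
  · rintro _ ⟨x, hx, rfl⟩
    exact ⟨x, hx, rfl⟩
  · obtain ⟨x, rfl⟩ := su x hx
    exact (me x).2 (h.cen _ fun e he => ((hc _ ((me ⟨e, hE he⟩).2 he)).of_map hφ).map Q.subtype)
  · obtain ⟨x, rfl⟩ := su x hx
    obtain ⟨y, rfl⟩ := su y hy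
    rw [← map_mul] at h5 h6
    obtain ⟨e, he, e2⟩ := h.coset x y (nr x h1) (nr y h2) (mt (me x).2 h3) (mt (me y).2 h4)
      (congrArg Subtype.val (hφ (h5.trans φ.map_one.symm))) ((me _).1 h6)
    refine ⟨φ ⟨e, hE he⟩, (me _).2 he, ?_⟩
    rw [← map_mul, ← map_mul, show y * ⟨e, hE he⟩ * (y * ⟨e, hE he⟩) = 1 from Subtype.ext e2, map_one]

end Gen

/-- conjugate to a nontrivial `x7 t` -/
def EaOk (a : UO P) : Prop := ∃ (g : UO P) (t : K), t ≠ 0 ∧ g * a * g⁻¹ = x7 t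

theorem EaOk.conj {a : UO P} (g : UO P) (h : EaOk (g * a * g⁻¹)) : EaOk a :=
  let ⟨k, t, h1, h2⟩ := h; ⟨k * g, t, h1, by rw [← h2]; group⟩

section
variable {a : UO P}

theorem ea_ok0 (h : a ∈ R5 P) (h3 : a.a3 = 0) (h5 : a.a5 = 0) (h6 : a.a6 = 0) (h7 : a.a7 ≠ 0) : EaOk a := by
  obtain ⟨s, hs⟩ := UD.ex h7 a.a4
  obtain ⟨k0, k1, k2, k3, k4, k5, k6⟩ := h
  refine ⟨x2 s, a.a7, h7, ?_⟩
  ext <;> simp [*] <;> grind

theorem ea_ok1 (h : a ∈ R5 P) (h3 : a.a3 = 0) (h5 : a.a5 = 0) (h7 : a.a7 ≠ 0) : EaOk a := by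
  obtain ⟨s, hs⟩ := UD.ex h7 a.a6
  refine .conj (y4 s) (ea_ok0 (nR5.conj_mem _ h _) ?_ ?_ ?_ ?_) <;> obtain ⟨k0, k1, k2, k3, k4, k5, k6⟩ := h <;>
    simp [*] <;> grind

theorem ea_ok2 (h : a ∈ R5 P) (h3 : a.a3 = 0) (h7 : a.a7 ≠ 0) : EaOk a := by
  obtain ⟨s, hs⟩ := UD.exσ (P := P) h7 a.a5
  refine .conj (y2 s) (ea_ok1 (nR5.conj_mem _ h _) ?_ ?_ ?_) <;> obtain ⟨k0, k1, k2, k3, k4, k5, k6⟩ := h <;>
    simp [*] <;> grind

theorem ea_ok3 (h : a ∈ R5 P) (h7 : a.a7 ≠ 0) : EaOk a := by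
  obtain ⟨s, hs⟩ := UD.exσ (P := P) h7 a.a3
  refine .conj (x1 s) (ea_ok2 (nR5.conj_mem _ h _) ?_ ?_) <;> obtain ⟨k0, k1, k2, k3, k4, k5, k6⟩ := h <;>
    simp [*] <;> grind

theorem ea_y4 (h : a ∈ Z6 P) (h4 : a.b4 = 0) : y4 1 * a * (y4 1 * a) ≠ 1 := fun e => by
  have := (inv_Z5 e (mul_mem (by simp) h)).1
  obtain ⟨k0, k1, k2, k3⟩ := h
  simp [k0, k1, k2, k3, h4] at this

theorem ea_A5 (h : a ∈ A5 P) : a = x4 a.a4 * x5 a.a5 * x6 a.a6 * x7 a.a7 * x8 a.a8 := by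
  obtain ⟨k0, k1, k2, k3, k4, k5, k6⟩ := h
  ext <;> simp [*]

theorem ea_x3 (h : a ∈ A5 P) : ⁅a, (x3 1 : UO P)⁆ = ⁅(x5 a.a8 : UO P), (y8 1 : UO P)⁆ := by
  obtain ⟨k0, k1, k2, k3, k4, k5, k6⟩ := h
  ext <;> simp [commutatorElement_def, *, P.sq] <;> grind

theorem ea_x60 : (x6 0 : UO P) = 1 := rfl

end

namespace Crit
variable {E : Subgroup (UO P)} {M : (UO P → UO P) → Prop} (h : Crit E M)
include h

theorem no_Td (h3 : Z3 P ≤ E) (hE : E ≤ Td P) : False := by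
  have h8 : ∀ t, x8 t ∈ E := fun t => h.cen _ fun e he =>
    commutatorElement_eq_one_iff_commute.1 (by rw [k_A5_Td (by simp) (hE he)]; simp [ea_x60])
  have hO : Om E ≤ A5 P := Om_le_of fun y hy h2 => inv_A5 h2 (hE hy)
  have iO := h.inv_Om h.inv_top
  have h7 : ∀ t, x7 t ∈ E := fun t => h.mem1 iO
    (fun e he => comm_symm (by rw [k_A5_Td (by simp) (hE he)]; exact mem_Om (h3 (by simp)) (sq_A5 (by simp))))
    fun e he => by rw [k_A5_Td (hO he) (by simp)]; simp [ea_x60]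
  have hA : A5 P ≤ E := fun x hx => by
    rw [ea_A5 hx]; exact mul_mem (mul_mem (h3 (by simp)) (h7 _)) (h8 _)
  have iA : Inv E M (A5 P) := by
    rwa [le_antisymm hO fun x hx => mem_Om (hA hx) (sq_A5 hx)] at iO
  have n3 : x3 1 ∉ E := fun h' => by simpa using hE h'
  have c3 : ∀ e : UO P, ⁅e, x3 1⁆ ∈ Z3 P := fun e => comm_symm (c_Z4 (by simp) e)
  have hT : Td P ≤ E := fun y hy => by
    by_contra hn
    obtain ⟨e, he, e2⟩ := h.coset (x3 1) y (fun e _ => h3 (c3 e)) (fun e he => hA (c_Td_Td (hE he) hy)) n3 hn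
      (sq_x 1).2.2.1 (hA (sq_Td hy))
    exact hn ((mul_mem_cancel_right he).1 (hA (inv_A5 e2 (mul_mem hy (hE he)))))
  have hV : ⁅A5 P, E⁆ ≤ Vs P := Subgroup.commutator_le.2 fun a ha g hg => by rw [k_A5_Td ha (hE hg)]; simp
  refine n3 (h.mem2 iA (h.inv_comm iA h.inv_top) (fun e _ => ?_) (fun a ha => ?_) fun e he => c_Vs_Qp (hV he) (by simp))
  · have := c3 e
    simp_all
  · rw [ea_x3 ha]
    exact Subgroup.commutator_mem_commutator (by simp) (hT (by simp))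

theorem no_a8 (h3 : Z3 P ≤ E) {w : UO P} (h2 : w * w = 1) (hc : ∀ e ∈ E, Commute w e) : w.a8 = 0 := by
  by_contra h8
  obtain ⟨g, s, t, ht, hg⟩ := exists_x8 h2 h8
  exact (h.map (MulAut.conj g)).no_Td (ea_conj nZ3 h3 g) ((ea_cen hc g).trans (cent_stdD ⟨t, s, ht, hg⟩).le)

theorem ea_no_Tc (h5 : R5 P ≤ E) (hE : E ≤ Tc P) : False := by
  have z4 : Z4 P ≤ E := fun x hx => h5 (by simp_all)
  obtain ⟨e, he, e2⟩ := h.coset (x2 1) (y4 1) (fun e _ => z4 (comm_symm (c_Z5 (by simp) e)))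
    (fun e he => z4 (by have := c_Tc_y4 (hE he) 1; simp_all)) (fun h' => by simpa using hE h')
    (fun h' => by simpa using hE h') (sq_x 1).2.1 (by rw [sq_Rs (by simp)]; exact z4 (by simp))
  obtain ⟨k0, k1, k2, k3⟩ := hE he
  have := inv_b4 e2 (inv_C3 e2 (by simp [k0])) (by simp [k0, k1, k2])
  simp [k0, k1, k3] at this

theorem no_a7 (h5 : R5 P ≤ E) (hE : E ≤ Qp P) {w : UO P} (hw : w ∈ R5 P) (hc : ∀ e ∈ E, Commute w e) : w.a7 = 0 := by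
  by_contra h7
  obtain ⟨g, t, ht, hg⟩ := ea_ok3 hw h7
  exact (h.map (MulAut.conj g)).ea_no_Tc (ea_conj nR5 h5 g) ((ea_cen hc g).trans (cent_stdC ⟨t, ht, hg⟩).le)

theorem no_cen (hE : E ≤ Qs P) {w : UO P} (hw : w ∈ Qs P) (h2 : w * w = 1) (hc : ∀ e ∈ E, Commute w e) : w ∈ Rs P := by
  by_contra hR
  obtain ⟨a, t, ht, ha⟩ := exists_x7 hw h2 hR
  obtain ⟨F, me, su, ce, co⟩ := ea_tr h hE a
  have hQ : F ≤ Qs P := fun e he => by obtain ⟨x, -, rfl⟩ := su e he; exact (a x).2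
  have hT : F ≤ Tc P := fun e he => by
    obtain ⟨x, hx, rfl⟩ := su e he
    rw [← cent_stdC ⟨t, ht, ha⟩, Subgroup.mem_centralizer_singleton_iff]
    have : Commute (⟨w, hw⟩ : Qs P) x := Subtype.ext (hc x hx).eq
    exact ((this.map a).map (Qs P).subtype).symm.eq
  have h3 : Z3 P ≤ F := fun v hv => ce v (by simp_all) fun e he =>
    commutatorElement_eq_one_iff_commute.1 (c_Z3_C3 hv (by have := hQ he; have := hT he; simp_all))
  obtain ⟨e, he, e2⟩ := co (x2 1) (by simp) (y4 1) (by simp)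
    (fun e he => comm_symm (by rw [k_Ws_Qs (by simp) (hQ he)]; exact h3 (by simp))) (fun e he => h3 (c_Tc_y4 (hT he) 1))
    (fun h' => by simpa using hT h') (fun h' => by simpa using hT h') (sq_x 1).2.1
    (by rw [sq_Rs (by simp)]; exact h3 (by simp))
  exact ea_y4 ⟨(hT he).1, (hT he).2.1, (hQ he).1, (hQ he).2⟩ (hT he).2.2.2 e2

theorem no_cen2 (hW : Ws P ≤ E) (hE : E ≤ Qs P) {w : UO P} (hw : w ∈ Qs P) (h2 : w * w = 1)
    (hc : ∀ e ∈ E, ⁅w, e⁆ ∈ Zs P) : w ∈ Rs P := by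
  by_contra hR
  obtain ⟨a, t, ht, ha⟩ := exists_x7 hw h2 hR
  obtain ⟨F, me, su, -, co⟩ := ea_tr h hE a
  have hQ : F ≤ Qs P := fun e he => by obtain ⟨x, -, rfl⟩ := su e he; exact (a x).2
  have hWF : Ws P ≤ F := fun v hv => by
    have e : (a (a.symm ⟨v, by simp_all⟩) : UO P) = v := congrArg Subtype.val (a.apply_symm_apply _)
    rw [← e] at hv ⊢
    exact (me _).2 (hW ((aut_Qs_mem a _).2.1.1 hv))
  have hZ : ∀ e ∈ F, ⁅(x7 t : UO P), e⁆ ∈ Zs P := fun e he => by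
    obtain ⟨x, hx, rfl⟩ := su e he
    have := (aut_Qs_mem a ⁅(⟨w, hw⟩ : Qs P), x⁆).1.2 (hc x hx)
    rw [map_commutatorElement] at this
    rw [← ha]
    exact this
  have hT : ∀ e ∈ F, e ∈ Z6 P ∧ e.b4 = 0 := fun e he => by
    obtain ⟨-, -, -, k3, -, k5, -, k6, -⟩ := hZ e he
    rw [k_a3 (by simp)] at k3
    have a1 : e.a1 = 0 := by simpa [ht, σ_eq_zero] using k3
    rw [k_R5_Qp (by simp) a1] at k5
    have b2 : e.b2 = 0 := by simpa [ht, σ_eq_zero] using k5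
    rw [k_R5_C3 (by simp) ⟨a1, b2, (hQ he).1⟩] at k6
    exact ⟨⟨a1, b2, (hQ he).1, (hQ he).2⟩, by simpa [ht] using k6⟩
  obtain ⟨e, he, e2⟩ := co (x1 1) (by simp) (y4 1) (by simp) (fun e he => hWF (c_Qs_Qs (hQ he) (by simp)))
    (fun e he => hWF (c_Qs_Qs (hQ he) (by simp))) (fun h' => by simpa using (hT _ h').1)
    (fun h' => by simpa using (hT _ h').2) (sq_x 1).1 (hWF (sq_Qs (by simp)))
  exact ea_y4 (hT e he).1 (hT e he).2 e2

end Crit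

end CL.FZ
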