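/-
Project FZ: essential subgroups with `Vs` invariant.
-/
import Cfsg.Agent.FZ.FA
import Cfsg.Agent.FZ.FB

set_option autoImplicit false
set_option linter.unusedSectionVars false
set_option linter.unusedVariables false
set_option maxRecDepth 20000

namespace CL.FZ

open CL.Oct CL.Oct.UO Cfsg CL.Fus
open scoped commutatorElement Pointwise

variable {K : Type*} [Field K] [CharP K 2] [Finite K] {P : Par K}

theorem eb_congr {U : Type*} [Group U] {E X Y : Subgroup U} {M : (U → U) → Prop} (hX : Inv E M X)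
    (e : ∀ y, y ∈ X ↔ y ∈ Y) : Inv E M Y := Subgroup.ext e ▸ hX

theorem eb_cl {U : Type*} [Group U] {E X Y : Subgroup U} {M : (U → U) → Prop} (hY : Inv E M Y) (h : X ≤ Y) :
    cl M X ≤ Y := cl_le_of fun f hf x hx => hY.2 f hf x (h hx)

theorem eb_czV {Y : Subgroup (UO P)} {y : UO P} : y ∈ cz Y (Vs P) ↔ y ∈ Y ∧ y ∈ Qp P :=
  and_congr_right fun _ => ⟨fun h => mem_Qp_iff.2 fun v hv => (h v hv).symm, fun h v hv => (mem_Qp_iff.1 h v hv).symm⟩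

theorem eb_cz3 {Y : Subgroup (UO P)} {y : UO P} : y ∈ cz Y (Z3 P) ↔ y ∈ Y ∧ y ∈ C3 P :=
  and_congr_right fun _ => mem_C3_iff.symm

theorem eb_a5 {x : UO P} (h : x ∈ Vs P) : x.a5 = 0 := h.2.2.2.2.2.1

theorem eb_R5 (y : UO P) : y ∈ czm (C3 P) (C3 P) (Vs P) ↔ y ∈ R5 P := by
  refine mem_czm.trans ⟨fun ⟨hy, h⟩ => ?_, fun hy => ⟨by simp_all, fun x hx => comm_symm ?_⟩⟩
  · have a := (k_C3 (by simp) hy).symm.trans (eb_a5 (h (y6 1) (by simp)))
    have b := (k_C3 (by simp) hy).symm.trans (eb_a5 (h (y4 1) (by simp)))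
    have c := (k_C3 (by simp) hy).symm.trans (eb_a5 (h (x8 1) (by simp)))
    have d := (k_C3 (by simp) hy).symm.trans (eb_a5 (h (x2 1) (by simp)))
    clear h
    simp_all
  · rw [k_R5_C3 hy hx]; simp

theorem eb_one {a b : K} (h : (x4 a * x6 b : UO P) = 1) : a = 0 ∧ b = 0 :=
  ⟨by simpa using congrArg UO.a4 h, by simpa using congrArg UO.a6 h⟩

namespace Crit
variable {E : Subgroup (UO P)} {M : (UO P → UO P) → Prop} (h : Crit E M)
include h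

theorem top (hV : Inv E M (Vs P)) (h3 : Inv E M (Z3 P)) : Qp P ≤ E := by
  have i3 := h.inv_cz h.inv_top h3
  have hC : C3 P ≤ E := h.le_of_norm (isPGroup P) fun x hx hn => h.mem2 i3 h3
    (fun e he => eb_cz3.2 ⟨hn e he, by
      have := comm_symm (c_Ph (x := x) (by simp_all) e)
      exact ⟨this.1, this.2.1, this.2.2.1⟩⟩)
    (fun e he => c_C3_C3 (eb_cz3.1 he).2 hx) fun e he => c_Z3_C3 he hx
  have iC : Inv E M (C3 P) := eb_congr i3 fun y => eb_cz3.trans ⟨And.right, fun k => ⟨hC k, k⟩⟩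
  have iR := eb_congr (h.inv_czm iC iC hV) eb_R5
  exact h.le_of_norm (isPGroup P) fun x hx hn => h.chain x hn
    (.step (.step (.step (.step (.step (.step .bot hV fun e he => c_Vs_Qp he hx) h3 fun e he => c_Z3 he x)
      iR fun e he => c_R5_Qp he hx) iC fun e he => c_C3_Qp he hx) (h.inv_cz h.inv_top hV)
      fun e he => c_Qp_Qp (eb_czV.1 he).2 hx) h.inv_top fun e he => eb_czV.2 ⟨hn e he, (c_top e x).1⟩)

theorem big (hQ : Qp P ≤ E) (hZ : Inv E M (Zs P)) (hV : Inv E M (Vs P)) : False := by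
  have iQ : Inv E M (Qp P) := eb_congr (h.inv_cz h.inv_top hV) fun y => eb_czV.trans ⟨And.right, fun k => ⟨hQ k, k⟩⟩
  have i3 : Inv E M (Z3 P) := eb_congr (h.inv_czm iQ iQ hV) fun y => mem_czm.trans
    ⟨fun ⟨a, b⟩ => (center2_Qp a).1 fun g hg => comm_symm (b g hg), fun a => ⟨a.1, fun g _ => comm_symm (c_Z3 a g)⟩⟩
  have iC : Inv E M (C3 P) := eb_congr (h.inv_cz iQ i3) fun y => eb_cz3.trans ⟨And.right, fun k => ⟨k.1, k⟩⟩
  have iP : Inv E M (Ph P) := eb_congr (h.inv_czm iQ i3 hZ) fun y => mem_czm.trans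
    ⟨fun ⟨a, b⟩ => ⟨a, mem_Js_iff.2 fun v hv => comm_symm (b v hv)⟩,
      fun a => ⟨a.1, fun v hv => comm_symm (mem_Js_iff.1 a.2 v hv)⟩⟩
  have iR := eb_congr (h.inv_czm iC iC hV) eb_R5
  have i4 : Inv E M (Z4 P) := eb_congr (h.inv_czm iR iP hV) fun y => mem_czm.trans
    ⟨fun ⟨a, b⟩ => by
      have := (k_R5_Qp a (by simp)).symm.trans (eb_a5 (comm_symm (b (y2 1) (by simp))))
      clear b
      simp_all, fun a => ⟨by simp_all, fun g hg => comm_symm (c_Z4_Js a hg.2)⟩⟩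
  have i6 : Inv E M (Z6 P) := eb_congr (h.inv_czm iC i4 hZ) fun y => mem_czm.trans
    ⟨fun ⟨a, b⟩ => by
      have := (k_Z4_Js (by simp) a.2.2).symm.trans (b (x3 1) (by simp)).2.2.2.2.2.2.2.1
      clear b
      simp_all, fun a => ⟨by simp_all, fun g hg => by
        rw [k_Ws_Qs (by simp_all) (by simp_all)]; simp⟩⟩
  have i5 : Inv E M (Z5 P) := eb_congr (h.inv_czm i6 i6 hV) fun y => mem_czm.trans
    ⟨fun ⟨a, b⟩ => by
      have hy : y ∈ C3 P := by simp_all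
      have c := (k_C3 (by simp) hy).symm.trans (eb_a5 (b (y6 1) (by simp)))
      have d := (k_C3 (by simp) hy).symm.trans (eb_a5 (b (y4 1) (by simp)))
      clear b
      simp_all, fun a => ⟨by simp_all, fun g hg => comm_symm (c_Z5_Z6 a hg)⟩⟩
  exact h.ne (top_le_iff.1 fun x _ => h.chain x (fun e _ => hQ (c_top e x).1)
    (.step (.step (.step (.step (.step (.step (.step (.step .bot hZ fun e he => c_Zs he x) hV fun e he => c_Vs he x)
      i3 fun e he => c_Z3 he x) i4 fun e he => c_Z4 he x) i5 fun e he => c_Z5 he x) i6 fun e he => c_Z6 he x)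
      iP fun e he => c_Ph he x) h.inv_top fun e _ => c_top e x))

theorem two (hZ : Inv E M (Zs P)) (hV : Inv E M (Vs P)) : Inv E M (Z3 P) := by
  have cm : ∀ {a b : UO P}, a * b = b * a → ⁅a, b⁆ = 1 := commutatorElement_eq_one_iff_mul_comm.2
  have h3 : Z3 P ≤ E := fun x hx => h.mem1 hV (fun e _ => comm_symm (c_Z3 hx e)) fun e he => c_Vs_Qp he hx.1
  have iW := h.inv_cl h3
  have i1 := h.inv_cz h.inv_top hV
  have iO := h.inv_Om i1
  have OC : Om (cz E (Vs P)) ≤ C3 P := Om_le_of fun y hy h2 => inv_C3 h2 (eb_czV.1 hy).2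
  have O3 : Z3 P ≤ Om (cz E (Vs P)) := fun x hx => mem_Om (eb_czV.2 ⟨h3 hx, hx.1⟩) (sq_Ws (by simp_all))
  have WO := eb_cl (h.inv_cz iO iO) (X := Z3 P) fun x hx =>
    mem_cz.2 ⟨O3 hx, fun o ho => (mem_C3_iff.1 (OC ho) x hx).symm⟩
  have WV := eb_cl (h.inv_czm h.inv_top h.inv_top hV) (X := Z3 P) fun x hx =>
    mem_czm.2 ⟨h3 hx, fun e _ => comm_symm (c_Z3 hx e)⟩
  have WC : cl M (Z3 P) ≤ C3 P := fun w hw => OC (WO hw).1
  have h4 : Z4 P ≤ E := fun x hx => h.mem2 iW hV (fun e _ => h.le_cl (comm_symm (c_Z4 hx e)))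
    (fun w hw => comm_symm (by rw [k_R5_C3 (by simp_all) (WC hw)]; simp)) fun e he => c_Vs_Qp he hx.1
  have O4 : Z4 P ≤ Om (cz E (Vs P)) := fun x hx => mem_Om (eb_czV.2 ⟨h4 hx, hx.1⟩) (sq_Ws (by simp_all))
  have W5 : cl M (Z3 P) ≤ Z5 P := cl_le_of fun f hf x hx => by
    have hw := mem_cl hf hx
    have c := WC hw
    have k := eb_one ((k_R5_C3 (by simp) c).symm.trans (cm ((mem_cz.1 (WO hw)).2 (x3 1) (O4 (by simp)))))
    exact (inv_Z5 (h.map_sq hf (h3 hx) (sq_Ws (by simp_all))) ⟨c.1, c.2.1, c.2.2, by simpa using k.2⟩).1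
  have h5 : Z5 P ≤ E := fun x hx => h.mem3 iO iW hV (fun e _ => O4 (comm_symm (c_Z5 hx e)))
    (fun o ho => h.le_cl (c_C3_C3 (OC ho) (by simp_all))) (fun w hw => by rw [k_Z5 (W5 hw) hx]; simp)
    fun e he => c_Vs_Qp he hx.1
  have O2 : ∀ t, x2 t ∈ Om (cz E (Vs P)) := fun t => mem_Om (eb_czV.2 ⟨h5 (by simp), by simp⟩) (sq_x t).2.1
  have O7 : ∀ t, x7 t ∈ Om (cz E (Vs P)) := fun t => mem_Om (eb_czV.2 ⟨h5 (by simp), by simp⟩) (sq_x t).2.2.2.1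
  refine ⟨h3, fun f hf y hy => by_contra fun hn => ?_⟩
  have hw := mem_cl hf hy
  have w5 := W5 hw
  have w4 : f y ∈ Z4 P := by
    have a := ua_x4.1 ((k_Z5 (by simp) w5).symm.trans (cm ((mem_cz.1 (WO hw)).2 _ (O2 1))))
    have b := ua_x4.1 ((k_Z5 (by simp) w5).symm.trans (cm ((mem_cz.1 (WO hw)).2 _ (O7 1))))
    exact ⟨w5.1, w5.2.1, by simpa using b, w5.2.2.1, w5.2.2.2.1, by simpa using a, w5.2.2.2.2⟩
  have wR : f y ∈ R5 P := ⟨w4.1, w4.2.1, w4.2.2.1, w4.2.2.2.1, w4.2.2.2.2.1, w4.2.2.2.2.2.2⟩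
  have w7 : (f y).a7 = 0 := w4.2.2.2.2.2.1
  have w3 : (f y).a3 ≠ 0 := fun e => hn ⟨w4.1, w4.2.1, w4.2.2.1, e, w4.2.2.2⟩
  have EJ : E ≤ Js P := fun e he => by
    have := (k_Z4 w4 e).symm.trans (eb_a5 (comm_symm ((mem_czm.1 (WV hw)).2 e he)))
    exact σ_eq_zero.1 ((mul_eq_zero.1 this).resolve_left w3)
  have i5 : Inv E M (Z5 P) := by
    refine eb_congr iO fun x => ⟨fun hx => Om_le_of (Y := Z5 P) (fun o ho h2 => ?_) hx, fun hx => ?_⟩
    · have c := OC (mem_Om ho h2)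
      have k := (eb_one ((k_R5_C3 wR c).symm.trans (cm ((mem_cz.1 (WO hw)).2 o (mem_Om ho h2)).symm))).2
      rw [w7, zero_mul, add_zero] at k
      exact (inv_Z5 h2 ⟨c.1, c.2.1, c.2.2, (mul_eq_zero.1 k).resolve_left w3⟩).1
    · refine (mul_mem_cancel_left (O2 x.a2)).1 ((mul_mem_cancel_right (O7 x.a7)).1 (O4 ?_))
      obtain ⟨a, b, c, d, e, g⟩ := hx
      simp [*, CharTwo.add_self_eq_zero]
  have h6 : Z6 P ≤ E := fun x hx => h.mem2 i5 hV (fun e _ => comm_symm (c_Z6 hx e)) (fun e he => c_Z5_Z6 he hx)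
    fun e he => c_Vs_Qp he hx.1
  have ny : ¬ ∀ e ∈ cz E (Vs P), e * y = y * e := fun k => by
    have a := (mem_cz.1 ((h.inv_cz i1 i1).2 f hf y (mem_cz.2 ⟨eb_czV.2 ⟨h3 hy, hy.1⟩, k⟩))).2 (y6 1)
      (eb_czV.2 ⟨h6 (by simp), by simp⟩)
    have b := (eb_one ((k_R5_C3 wR (by simp)).symm.trans (cm a.symm))).1
    exact w3 (by simpa using b)
  push Not at ny
  obtain ⟨e, he, ne⟩ := ny
  have eP : e ∈ Ph P := ⟨(eb_czV.1 he).2, EJ (eb_czV.1 he).1⟩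
  have e2 : P.σ e.b2 ≠ 0 := fun k => ne (commutatorElement_eq_one_iff_mul_comm.1 (by
    rw [ua_comm hy, eP.1, eP.2, σ_eq_zero.1 k]; ext <;> simp))
  refine hn ((sup_le (Subgroup.commutator_le.2 fun a ha b hb => c_Z5_Ph ha ⟨(eb_czV.1 hb).2, EJ (eb_czV.1 hb).1⟩)
    ua_VZ : ⁅Z5 P, cz E (Vs P)⁆ ⊔ Vs P ≤ Z3 P) ((h.inv_sup (h.inv_comm i5 i1) hV).2 f hf y ?_))
  have c3 := c_Z5_Ph (x := x7 (y.a5 / P.σ e.b2)) (by simp) eP
  have c5 : ⁅(x7 (y.a5 / P.σ e.b2) : UO P), e⁆.a5 = y.a5 := by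
    rw [k_R5_Qp (by simp) eP.1]; simp [div_mul_cancel₀ _ e2]
  refine (mul_mem_cancel_left (Subgroup.mem_sup_left (Subgroup.commutator_mem_commutator
    (show x7 (y.a5 / P.σ e.b2) ∈ Z5 P by simp) he))).1 (Subgroup.mem_sup_right ?_)
  generalize ⁅(x7 (y.a5 / P.σ e.b2) : UO P), e⁆ = c at c3 c5
  obtain ⟨a1, a2, a3, a4, a5, a6, a7, a8, a9⟩ := c3
  obtain ⟨b1, b2, b3, b4, b5, b6, b7, b8, b9⟩ := hy
  simp [*, CharTwo.add_self_eq_zero]

end Crit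

end CL.FZ
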