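/-
Project FZ: a critical subgroup leaving `Z` but not `V` invariant is `Qs`.
-/
import Cfsg.Agent.FZ.Defs2
import Cfsg.Agent.FZ.EA

set_option autoImplicit false
set_option linter.unusedSectionVars false
set_option linter.unusedVariables false

namespace CL.FZ

open CL.Oct CL.Oct.UO Cfsg CL.Fus
open scoped commutatorElement Pointwise

variable {K : Type*} [Field K] [CharP K 2] [Finite K] {P : Par K}

theorem ec_Ws_Qs {x g : UO P} (hx : x ∈ Ws P) (hg : g ∈ Qs P) : ⁅x, g⁆ ∈ Zs P := by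
  rw [k_Ws_Qs hx hg]; simp

theorem ec_R5_C3 {x g : UO P} (hx : x ∈ R5 P) (hg : g ∈ C3 P) : ⁅x, g⁆ ∈ Vs P := by
  rw [k_R5_C3 hx hg]; simp

theorem ec_a6 {x g : UO P} (hx : x ∈ R5 P) (hg : g ∈ C3 P) : ⁅x, g⁆.a6 = x.a3 * g.a8 + x.a7 * g.b4 := by
  rw [k_R5_C3 hx hg]; simp

theorem ec_k {x g : UO P} (hx : x ∈ Ws P) (hg : g ∈ Qs P) (e : x * g = g * x) :
    x.a2 * g.a7 + x.a3 * g.b6 + x.a5 * g.b2 + x.a6 * g.a1 = 0 :=
  ua_x4.1 ((k_Ws_Qs hx hg).symm.trans (commutatorElement_eq_one_iff_mul_comm.2 e))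

theorem ec_VW : Vs P ≤ Ws P := fun _ h => by simp_all
theorem ec_3W : Z3 P ≤ Ws P := fun _ h => by simp_all
theorem ec_4W : Z4 P ≤ Ws P := fun _ h => by simp_all
theorem ec_W5 : Ws P ≤ Z5 P := fun _ h => by simp_all
theorem ec_R5 : R5 P ≤ Z5 P := fun _ h => by simp_all
theorem ec_56 : Z5 P ≤ Z6 P := fun _ h => by simp_all
theorem ec_6C : Z6 P ≤ C3 P := fun _ h => by simp_all
theorem ec_6Q : Z6 P ≤ Qs P := fun _ h => by simp_all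

namespace Crit
variable {E : Subgroup (UO P)} {M : (UO P → UO P) → Prop} (h : Crit E M)
include h

theorem ec_Om {X : Subgroup (UO P)} (hX : X ≤ E) (hW : X ≤ Ws P) : cl M X ≤ Om E :=
  cl_le_of fun _ hf x hx => mem_Om (h.mem hf x (hX hx)) (h.map_sq hf (hX hx) (sq_Ws (hW hx)))

omit h in
theorem ec_Js : Om E ≤ Js P := Om_le_of fun _ _ h2 => (inv_b8 h2).1

theorem ec_V (hZ : Inv E M (Zs P)) : Vs P ≤ E := fun x hx =>
  h.mem1 hZ (fun e _ => comm_symm (c_Vs hx e)) fun _ he => c_Zs he x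

theorem ec_EW (hZ : Inv E M (Zs P)) {w : UO P} (hw : w ∈ cl M (Vs P)) : ∀ e ∈ E, ⁅w, e⁆ ∈ Zs P := fun e he => by
  have : cl M (Vs P) ≤ czm E E (Zs P) := cl_le_of fun f hf x hx =>
    (h.inv_czm h.inv_top h.inv_top hZ).2 f hf x (mem_czm.2 ⟨h.ec_V hZ hx, fun e _ => comm_symm (c_Vs hx e)⟩)
  exact comm_symm ((mem_czm.1 (this hw)).2 e he)

theorem ec_Z3 (hZ : Inv E M (Zs P)) : Z3 P ≤ E := fun x hx =>
  h.mem2 (h.inv_cl (h.ec_V hZ)) hZ (fun e _ => h.le_cl (comm_symm (c_Z3 hx e)))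
    (fun _ he => comm_symm (c_Z3_Js hx (ec_Js (h.ec_Om (h.ec_V hZ) ec_VW he)))) fun _ he => c_Zs he x

theorem ec_cen (hZ : Inv E M (Zs P)) (hE : E ≤ Qp P) {f : UO P → UO P} (hf : M f) {v : UO P} (hv : v ∈ Vs P) :
    ∀ e ∈ E, Commute (f v) e := fun e he =>
  (commutatorElement_eq_one_iff_commute.1 (Subgroup.mem_bot.1 (h.comm_map hf h.inv_top h.inv_bot (h.ec_V hZ hv)
    (fun _ hy => comm_symm (Subgroup.mem_bot.2 (c_Vs_Qp hv (hE hy)))) e he))).symm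

theorem ec_WQ (hZ : Inv E M (Zs P)) : cl M (Vs P) ≤ Qs P := cl_le_of fun f hf v hv => by
  have h2 := h.map_sq hf (h.ec_V hZ hv) (sq_Ws (ec_VW hv))
  obtain ⟨h8, h18⟩ := inv_b8 h2
  refine ⟨h8, ?_⟩
  by_contra hne
  have hC := inv_C3 h2 ((mul_eq_zero.1 h18).resolve_right hne)
  refine hne (h.no_a8 (h.ec_Z3 hZ) h2 (h.ec_cen hZ (fun e he => ?_) hf hv))
  have := (k_b4' hC e).symm.trans (h.ec_EW hZ (mem_cl hf hv) e he).2.2.2.2.1
  exact σ_eq_zero.1 ((mul_eq_zero.1 this).resolve_left hne)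

theorem ec_Z4 (hZ : Inv E M (Zs P)) : Z4 P ≤ E := fun x hx =>
  h.mem3 (h.inv_cl (h.ec_Z3 hZ)) (h.inv_cl (h.ec_V hZ)) hZ (fun e _ => h.le_cl (comm_symm (c_Z4 hx e)))
    (fun _ he => h.le_cl (comm_symm (c_Z4_Js hx (ec_Js (h.ec_Om (h.ec_Z3 hZ) ec_3W he)))))
    (fun _ he => comm_symm (ec_Ws_Qs (ec_4W hx) (h.ec_WQ hZ he))) fun _ he => c_Zs he x

theorem ec_XQ (hZ : Inv E M (Zs P)) : cl M (Z3 P) ≤ Qs P := cl_le_of fun f hf y hy => by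
  have hJ : f y ∈ Js P := ec_Js (h.ec_Om (h.ec_Z3 hZ) ec_3W (mem_cl hf hy))
  have h3 : (x3 1 : UO P) ∈ Z4 P := by simp
  have := h.comm_map hf (h.inv_Om h.inv_top) hZ (h.ec_Z3 hZ hy)
    (fun _ ho => comm_symm (c_Z3_Js hy (ec_Js ho))) _ (mem_Om (h.ec_Z4 hZ h3) (sq_Ws (ec_4W h3)))
  exact ⟨hJ, by simpa using (k_Z4_Js h3 hJ).symm.trans this.2.2.2.2.2.2.2.1⟩

theorem ec_Ws (hZ : Inv E M (Zs P)) : Ws P ≤ E := fun x hx =>
  h.mem3 (h.inv_Om h.inv_top) (h.inv_cl (h.ec_Z3 hZ)) hZ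
    (fun e _ => have := comm_symm (c_Z5 (ec_W5 hx) e); mem_Om (h.ec_Z4 hZ this) (sq_Ws (ec_4W this)))
    (fun _ he => h.le_cl (comm_symm (c_Ws_Js hx (ec_Js he))))
    (fun _ he => comm_symm (ec_Ws_Qs hx (h.ec_XQ hZ he))) fun _ he => c_Zs he x

theorem ec_W3 (hZ : Inv E M (Zs P)) {e0 : UO P} (he0 : e0 ∈ E) (hn : e0 ∉ Qs P) : cl M (Vs P) ≤ Z3 P :=
  cl_le_of fun f hf v hv => by
  have h2 := h.map_sq hf (h.ec_V hZ hv) (sq_Ws (ec_VW hv))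
  have hQ := h.ec_WQ hZ (mem_cl hf hv)
  have hc := h.ec_EW hZ (mem_cl hf hv)
  have h1 := a1_eq_zero hQ hn (ec_VW (ua_ZV (hc e0 he0)))
  have hC := inv_C3 h2 h1
  obtain ⟨h5, h27⟩ := inv_Z5 h2 ⟨h1, hC.2.1, hQ.1, hQ.2⟩
  have h7 : (f v).a7 = 0 := by
    by_cases hE : E ≤ Qp P
    · have h2' : (x2 1 : UO P) ∈ Ws P := by simp
      have := ec_k h2' hQ (h.ec_cen hZ hE hf hv _ (h.ec_Ws hZ h2')).symm.eq
      simpa using this
    · obtain ⟨e, he, hne⟩ := SetLike.not_le_iff_exists.1 hE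
      by_contra h7
      have := (k_a3 h5 e).symm.trans (hc e he).2.2.2.1
      rw [(mul_eq_zero.1 h27).resolve_right h7, zero_mul, add_zero] at this
      exact hne (σ_eq_zero.1 ((mul_eq_zero.1 this).resolve_left h7))
  have hW : f v ∈ Ws P := by simp_all
  have : ¬ ((f v).a2 ≠ 0 ∨ (f v).a3 ≠ 0) := fun e => hn (in_Qs hW e (hc e0 he0))
  simp_all

theorem ec_inv (hZ : Inv E M (Zs P)) (hW3 : cl M (Vs P) ≤ Z3 P) {w : UO P} (hw : w ∈ cl M (Vs P)) (hn : w ∉ Vs P) :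
    Inv E M (Z3 P) ∧ Inv E M (C3 P) := by
  have hw3 := hW3 hw
  have h5 : w.a5 ≠ 0 := fun e => hn (by simp_all)
  have hJ : E ≤ Js P := fun e he => in_Js hw3 h5 (h.ec_EW hZ hw e he)
  have hW := h.inv_cl (h.ec_V hZ)
  have hX := h.inv_cl (h.ec_Z3 hZ)
  have hE3 := h.inv_cz h.inv_top hW
  have up : ∀ y ∈ E, y ∈ C3 P → y ∈ cz E (cl M (Vs P)) := fun y hy hC =>
    mem_cz.2 ⟨hy, fun x hx => commutatorElement_eq_one_iff_mul_comm.1 (c_Z3_C3 (hW3 hx) hC)⟩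
  have dn : cz E (cl M (Vs P)) ≤ C3 P := fun y hy => by
    have h6 : (x6 1 : UO P) ∈ Vs P := by simp
    have e1 := (ua_comm_V (g := y) h6).symm.trans
      (commutatorElement_eq_one_iff_mul_comm.2 (hy.2 _ (h.le_cl h6)).symm)
    have e1' : y.a1 = 0 := by simpa using ua_x4.1 e1
    have e2 := congrArg UO.a4 ((ua_comm (g := y) hw3).symm.trans
      (commutatorElement_eq_one_iff_mul_comm.2 (hy.2 _ hw).symm))
    exact ⟨e1', by simpa [e1', h5] using e2, hJ hy.1⟩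
  have hXc : cl M (Z3 P) ≤ cz (cz E (cl M (Vs P))) (cz E (cl M (Vs P))) := cl_le_of fun f hf x hx =>
    (h.inv_cz hE3 hE3).2 f hf x (mem_cz.2 ⟨up x (h.ec_Z3 hZ hx) (ec_6C (ec_56 (ec_W5 (ec_3W hx)))),
      fun y hy => (commutatorElement_eq_one_iff_mul_comm.1 (c_Z3_C3 hx (dn hy))).symm⟩)
  have cm : ∀ x ∈ cl M (Z3 P), ∀ y ∈ E, y ∈ C3 P → y * x = x * y := fun x hx y hy hC => (hXc hx).2 y (up y hy hC)
  have hXW : cl M (Z3 P) ≤ Ws P := cl_le_of fun f hf x hx => by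
    have hm := mem_cl (M := M) hf hx
    have hQ := h.ec_XQ hZ hm
    have hC := dn (hXc hm).1
    have h2 : (x2 1 : UO P) ∈ Ws P := by simp
    have e := ec_k h2 hQ (cm _ hm _ (h.ec_Ws hZ h2) (by simp))
    have := (inv_Z5 (h.map_sq hf (h.ec_Z3 hZ hx) (sq_Ws (ec_3W hx))) ⟨hC.1, hC.2.1, hQ.1, hQ.2⟩).1
    simp_all
  have hR : R5 P ≤ E := fun r hr =>
    h.mem2 hE3 hW (fun e _ => have := comm_symm (c_Z5 (ec_R5 hr) e)
      up _ (h.ec_Z4 hZ this) (ec_6C (ec_56 (ec_W5 (ec_4W this)))))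
      (fun _ he => h.le_cl (comm_symm (ec_R5_C3 hr (dn he)))) fun _ he => c_Z3_C3 (hW3 he) (ec_6C (ec_56 (ec_R5 hr)))
  have hZ5 : Z5 P ≤ E := fun x hx => by
    have h2 : (x2 x.a2 : UO P) ∈ Ws P := by simp
    have : (x2 x.a2)⁻¹ * x ∈ R5 P := by
      obtain ⟨h0, h1, h2, h3, h4, h5⟩ := hx
      simp [*, CharTwo.add_self_eq_zero]
    simpa using mul_mem (h.ec_Ws hZ h2) (hR this)
  have hZ6 : Z6 P ≤ E := fun x hx =>
    h.mem3 hE3 hX hZ (fun e _ => have := comm_symm (c_Z6 hx e); up _ (hZ5 this) (ec_6C (ec_56 this)))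
      (fun _ he => h.le_cl (c_C3_C3 (dn he) (ec_6C hx))) (fun _ he => ec_Ws_Qs (hXW he) (ec_6Q hx)) fun _ he => c_Zs he x
  have hX3 : cl M (Z3 P) ≤ Z3 P := fun x hx => by
    have h7 : (x7 1 : UO P) ∈ Z6 P := by simp
    have h6 : (y6 1 : UO P) ∈ Z6 P := by simp
    have e7 := ec_k (hXW hx) (ec_6Q h7) (cm x hx _ (hZ6 h7) (ec_6C h7)).symm
    have e6 := ec_k (hXW hx) (ec_6Q h6) (cm x hx _ (hZ6 h6) (ec_6C h6)).symm
    have := hXW hx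
    simp_all
  have hi3 : Inv E M (Z3 P) := ⟨h.ec_Z3 hZ, fun f hf x hx => hX3 (mem_cl hf hx)⟩
  have hC : C3 P ≤ E := fun x hx =>
    h.mem2 hE3 hi3 (fun e _ => have := comm_symm (c_Ph (x := x) ⟨hx.1, hx.2.2⟩ e); up _ (hZ6 this) (ec_6C this))
      (fun _ he => c_C3_C3 (dn he) hx) fun _ he => c_Z3_C3 he hx
  exact ⟨hi3, hC, fun f hf x hx => dn (hE3.2 f hf x (up x (hC hx) hx))⟩

theorem ec_false (hZ : Inv E M (Zs P)) (h3 : Inv E M (Z3 P)) (hC : Inv E M (C3 P)) {f : UO P → UO P} (hf : M f)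
    {v : UO P} (hv : v ∈ Vs P) (hn : f v ∉ Vs P) : False := by
  obtain ⟨g, hg, hgf⟩ := h.inv hf
  have hVE := h.ec_V hZ
  have hRC : R5 P ≤ C3 P := ec_R5.trans (ec_56.trans ec_6C)
  have key : ¬ ∀ t : K, ∃ u ∈ Vs P, u.a6 = t ∧ g u ∈ Vs P := fun hk => by
    have hgV : ∀ x ∈ Vs P, g x ∈ Vs P := fun x hx => by
      obtain ⟨u, hu, hu6, hgu⟩ := hk x.a6
      have hz : x * u⁻¹ ∈ Zs P := by
        obtain ⟨h0, h1, h2, h3, h4, h5, h6, h7, h8, h9⟩ := hx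
        obtain ⟨k0, k1, k2, k3, k4, k5, k6, k7, k8, k9⟩ := hu
        simp [*, CharTwo.add_self_eq_zero]
      have := h.mul hg _ (hZ.1 hz) _ (hVE hu)
      rw [inv_mul_cancel_right] at this
      exact this ▸ mul_mem (ua_ZV (hZ.2 g hg _ hz)) hgu
    have hinj : Function.Injective fun x : Vs P => (⟨g x, hgV x x.2⟩ : Vs P) := fun x y e =>
      Subtype.ext (h.inj hg (hVE x.2) (hVE y.2) (congrArg Subtype.val e))
    obtain ⟨x, hx⟩ := Finite.injective_iff_surjective.1 hinj ⟨v, hv⟩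
    have e : g x = v := congrArg Subtype.val hx
    exact hn (e ▸ (hgf x (hVE x.2)).2.symm ▸ x.2)
  have cm : ∀ r ∈ R5 P, ∀ c ∈ C3 P, g ⁅f r, c⁆ ∈ Vs P ∧ g ⁅c, f r⁆ ∈ Vs P := fun r hr c hc => by
    have hrE := hC.1 (hRC hr)
    rw [h.map_comm hg (h.mem hf r hrE) (hC.1 hc), h.map_comm hg (hC.1 hc) (h.mem hf r hrE), (hgf r hrE).1]
    exact ⟨ec_R5_C3 hr (hC.2 g hg c hc), comm_symm (ec_R5_C3 hr (hC.2 g hg c hc))⟩
  have s1 : ∀ r ∈ R5 P, f r ∈ R5 P → f r ∈ Z3 P := fun r hr hx => by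
    have e3 : (f r).a3 = 0 := by
      by_contra hne
      refine key fun t => ?_
      have hc : (x8 (t / (f r).a3) : UO P) ∈ C3 P := by simp
      exact ⟨_, ec_R5_C3 hx hc, by rw [ec_a6 hx hc]; simp; field_simp, (cm r hr _ hc).1⟩
    have e7 : (f r).a7 = 0 := by
      by_contra hne
      refine key fun t => ?_
      have hc : (y4 (t / (f r).a7) : UO P) ∈ C3 P := by simp
      exact ⟨_, ec_R5_C3 hx hc, by rw [ec_a6 hx hc]; simp; field_simp, (cm r hr _ hc).1⟩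
    simp_all
  have s2 : ∀ r ∈ R5 P, f r ∈ Ws P := fun r hr => by
    have hx := hC.2 f hf r (hRC hr)
    have e8 : (f r).a8 = 0 := by
      by_contra hne
      refine key fun t => ?_
      have hc : (x3 (t / (f r).a8) : UO P) ∈ R5 P := by simp
      exact ⟨_, ec_R5_C3 hc hx, by rw [ec_a6 hc hx]; simp; field_simp, (cm r hr _ (hRC hc)).2⟩
    obtain ⟨h5, h27⟩ := inv_Z5 (h.map_sq hf (hC.1 (hRC hr)) (sq_R5 hr)) ⟨hx.1, hx.2.1, hx.2.2, e8⟩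
    have e7 : (f r).a7 = 0 := by
      by_contra hne
      have e2 := (mul_eq_zero.1 h27).resolve_right hne
      exact hne (s1 r hr ⟨h5.1, h5.2.1, e2, h5.2.2⟩).2.2.2.2.2.2.1
    exact ⟨h5.1, h5.2.1, h5.2.2.1, h5.2.2.2.1, e7, h5.2.2.2.2⟩
  have := Fintype.ofFinite K
  obtain ⟨p, q, hne, e⟩ := Fintype.exists_ne_map_eq_of_card_lt (fun p : K × K => (f (x3 p.1 * x7 p.2)).a2)
    (by rw [Fintype.card_prod]; have := Fintype.one_lt_card (α := K); nlinarith)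
  have hp : (x3 p.1 * x7 p.2 : UO P) ∈ R5 P := by simp
  have hq : (x3 q.1 * x7 q.2 : UO P) ∈ R5 P := by simp
  have hr := mul_mem hp hq
  have hx : f (x3 p.1 * x7 p.2 * (x3 q.1 * x7 q.2)) ∈ R5 P := by
    rw [h.mul hf _ (hC.1 (hRC hp)) _ (hC.1 (hRC hq))]
    obtain ⟨h0, h1, h2, h3, h4, h5, h6⟩ := s2 _ hp
    obtain ⟨k0, k1, k2, k3, k4, k5, k6⟩ := s2 _ hq
    simp [*, CharTwo.add_self_eq_zero]
  have hz := h3.2 g hg _ (s1 _ hr hx)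
  rw [(hgf _ (hC.1 (hRC hr))).1] at hz
  have e3 : p.1 + q.1 = 0 := by simpa using hz.2.2.2.1
  have e7 : p.2 + q.2 = 0 := by simpa using hz.2.2.2.2.2.2.1
  exact hne (Prod.ext (CharTwo.add_eq_zero.1 e3) (CharTwo.add_eq_zero.1 e7))

theorem one (hZ : Inv E M (Zs P)) (hV : ¬ Inv E M (Vs P)) : E = Qs P := by
  have hE : E ≤ Qs P := fun e he => by
    by_contra hn
    refine hV ⟨h.ec_V hZ, fun f hf v hv => ?_⟩
    by_contra hn'
    obtain ⟨h3, hC⟩ := h.ec_inv hZ (h.ec_W3 hZ he hn) (mem_cl hf hv) hn'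
    exact h.ec_false hZ h3 hC hf hv hn'
  have hW : Inv E M (Ws P) := ⟨h.ec_Ws hZ, fun f hf w hw => by
    have h2 := h.map_sq hf (h.ec_Ws hZ hw) (sq_Ws hw)
    have hR := h.no_cen2 (h.ec_Ws hZ) hE (hE (h.mem hf w (h.ec_Ws hZ hw))) h2 fun e he =>
      comm_symm (h.comm_map hf h.inv_top hZ (h.ec_Ws hZ hw) (fun _ hy => comm_symm (ec_Ws_Qs hw (hE hy))) e he)
    have e := ua_x4.1 ((sq_Rs hR).symm.trans h2)
    have e4 : (f w).b4 = 0 := (mul_eq_zero.1 e).elim _root_.id σ_eq_zero.1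
    exact ⟨hR.1, hR.2.1, e4, hR.2.2⟩⟩
  exact le_antisymm hE fun t ht =>
    h.mem2 hW hZ (fun _ he => c_Qs_Qs (hE he) ht) (fun _ he => ec_Ws_Qs he ht) fun _ he => c_Zs he t

end Crit

end CL.FZ
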