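/-
Project FZ: when the centre is invariant under the automizer of a critical subgroup.
-/
import Cfsg.Agent.FZ.FA
import Cfsg.Agent.FZ.FB
import Cfsg.Agent.FZ.EA

set_option autoImplicit false
set_option linter.unusedSectionVars false
set_option linter.unusedVariables false
set_option linter.unusedSimpArgs false
set_option maxRecDepth 20000

namespace CL.FZ

open CL.Oct CL.Oct.UO Cfsg CL.Fus
open scoped commutatorElement Pointwise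

variable {K : Type*} [Field K] [CharP K 2] [Finite K] {P : Par K}

theorem ed_swap {U : Type*} [Group U] {x y : U} (h : ⁅x, y⁆ = 1) : ⁅y, x⁆ = 1 := by
  rw [← commutatorElement_inv, h, inv_one]

theorem ed_fin {U : Type*} [Group U] [Finite U] {E X : Subgroup U} {f g : U → U} (hX : X ≤ E)
    (e : ∀ x ∈ E, f (g x) = x) (hg : ∀ x ∈ X, g x ∈ X) : ∀ x ∈ X, f x ∈ X := fun x hx => by
  have : Set.BijOn g X X := ((Set.toFinite _).injOn_iff_bijOn_of_mapsTo hg).1 fun a ha b hb c => by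
    rw [← e a (hX ha), c, e b (hX hb)]
  obtain ⟨y, hy, rfl⟩ := this.surjOn hx
  rwa [e y (hX hy)]

theorem ed_ZW : Zs P ≤ Ws P := fun _ h => by simp_all
theorem ed_VW : Vs P ≤ Ws P := fun _ h => by simp_all
theorem ed_4W : Z4 P ≤ Ws P := fun _ h => by simp_all
theorem ed_W5 : Ws P ≤ Z5 P := fun _ h => by simp_all
theorem ed_35 : Z3 P ≤ Z5 P := fun _ h => by simp_all
theorem ed_WR : Ws P ≤ Rs P := fun _ h => by simp_all
theorem ed_RQ : Rs P ≤ Qs P := fun _ h => by simp_all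

theorem ed_WQ {x g : UO P} (hx : x ∈ Ws P) (hg : g ∈ Qs P) : ⁅g, x⁆ ∈ Zs P := by
  refine comm_symm ?_
  rw [k_Ws_Qs hx hg]; simp

theorem ed_Wc {x g : UO P} (hx : x ∈ Ws P) (hg : g ∈ Rs P) : ⁅x, g⁆ = 1 := by
  rw [k_Ws_Qs hx (ed_RQ hg), ua_x4]
  obtain ⟨h0, h1, h2, h3, -⟩ := hg
  simp [h0, h1, h2, h3]

theorem ed_onto {x : UO P} (hx : x ∈ Qs P) (hR : x ∉ Rs P) (t : K) : ∃ w ∈ Ws P, ⁅w, x⁆ = x4 t := by
  by_cases h7 : x.a7 = 0
  · by_cases h6 : x.b6 = 0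
    · by_cases h2 : x.b2 = 0
      · have h1 : x.a1 ≠ 0 := fun h1 => hR ⟨h1, h2, h6, h7, hx.1, hx.2⟩
        exact ⟨x6 (t / x.a1), by simp, by rw [k_Ws_Qs (by simp) hx]; simp [h1]⟩
      · exact ⟨x5 (t / x.b2), by simp, by rw [k_Ws_Qs (by simp) hx]; simp [h2]⟩
    · exact ⟨x3 (t / x.b6), by simp, by rw [k_Ws_Qs (by simp) hx]; simp [h6]⟩
  · exact ⟨x2 (t / x.a7), by simp, by rw [k_Ws_Qs (by simp) hx]; simp [h7]⟩

theorem ed_VZ {g v : UO P} (hv : v ∈ Vs P) (hg : g.a1 ≠ 0) (h : ⁅g, v⁆ = 1) : v ∈ Zs P := by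
  rw [ua_comm_V hv, ua_x4, mul_eq_zero] at h
  have := h.resolve_left hg
  simp_all

theorem ed_x4 {g : UO P} (hg : g.a1 ≠ 0) (t : K) : ⁅g, (x6 (t / g.a1) : UO P)⁆ = x4 t := by
  rw [ua_comm_V (by simp), x6_a6, mul_div_cancel₀ _ hg]

namespace Crit
variable {E : Subgroup (UO P)} {M : (UO P → UO P) → Prop} (h : Crit E M)
include h

theorem ed_Z : Zs P ≤ E := fun z hz => h.cen z fun e _ => (ua_Zs hz e).symm

theorem ed_W : Inv E M (cl M (Zs P)) := h.inv_cl h.ed_Z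

theorem ed_cen {f : UO P → UO P} (hf : M f) {z : UO P} (hz : z ∈ Zs P) : ∀ e ∈ E, ⁅e, f z⁆ = 1 :=
  h.comm_map hf h.inv_top h.inv_bot (h.ed_Z hz) fun y _ => commutatorElement_eq_one_iff_commute.2 (ua_Zs hz y)

theorem ed_sq {f : UO P → UO P} (hf : M f) {z : UO P} (hz : z ∈ Zs P) : f z * f z = 1 :=
  h.map_sq hf (h.ed_Z hz) (sq_Ws (ed_ZW hz))

theorem zi (hW : cl M (Zs P) ≤ Ws P) (hE : E ≤ Qs P) : Inv E M (Zs P) := by
  have WE : Ws P ≤ E := fun x hx =>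
    h.mem1 h.ed_W (fun e he => h.le_cl (ed_WQ hx (hE he))) fun e he => ed_Wc (hW he) (ed_WR hx)
  have A : ∀ f, M f → ∀ w ∈ Ws P, f w ∉ Ws P → ∀ z ∈ Zs P, f z ∈ Zs P ∧ ∃ z' ∈ Zs P, f z' = z :=
    fun f hf w hw hn => by
      obtain ⟨g, hg, e⟩ := h.inv hf
      have hR : f w ∉ Rs P := fun hR => by
        have := h.map_sq hf (WE hw) (sq_Ws hw)
        rw [sq_Rs hR, ua_x4, mul_eq_zero, σ_eq_zero, or_self] at this
        exact hn ⟨hR.1, hR.2.1, this, hR.2.2⟩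
      have k : ∀ z ∈ Zs P, g z ∈ Zs P := fun z hz => by
        obtain ⟨t, rfl⟩ := mem_Zs_iff_x4.1 hz
        obtain ⟨w', hw', e'⟩ := ed_onto (hE (h.mem hf w (WE hw))) hR t
        rw [← e', h.map_comm hg (WE hw') (h.mem hf w (WE hw)), (e w (WE hw)).1]
        exact ed_WQ hw (hE (h.mem hg w' (WE hw')))
      exact fun z hz => ⟨ed_fin h.ed_Z (fun x hx => (e x hx).2) k z hz, g z, k z hz, (e z (h.ed_Z hz)).2⟩
  refine ⟨h.ed_Z, fun f0 hf0 z0 hz0 => by_contra fun hn => ?_⟩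
  obtain ⟨g0, hg0, e0⟩ := h.inv hf0
  have k0 : ∀ w ∈ Ws P, g0 w ∈ Ws P :=
    ed_fin WE (fun x hx => (e0 x hx).1) fun w hw => by_contra fun c => hn (A f0 hf0 w hw c z0 hz0).1
  have WI : Inv E M (Ws P) := ⟨WE, fun f1 hf1 w hw => by_contra fun c => by
    obtain ⟨z1, hz1, rfl⟩ := (A f1 hf1 w hw c z0 hz0).2
    refine hn (A _ (h.comp hf0 hf1) w hw (fun c' => c ?_) z1 hz1).1
    rw [← (e0 _ (h.mem hf1 w (WE hw))).1]
    exact k0 _ c'⟩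
  have RE : Rs P ≤ E := fun x hx => h.mem1 WI (fun e _ => comm_symm (c_Rs hx e)) fun e he => ed_Wc he hx
  obtain ⟨t, rfl⟩ := mem_Zs_iff_x4.1 hz0
  obtain ⟨s, rfl⟩ := exists_mul_σ P t
  have hy : (y4 s : UO P) ∈ Rs P := by simp
  have hR : f0 (y4 s) ∈ Rs P := by_contra fun c => by
    obtain ⟨w, hw, e⟩ := ed_onto (hE (h.mem hf0 _ (RE hy))) c 1
    have : ⁅w, f0 (y4 s)⁆ = 1 := h.comm_map hf0 WI h.inv_bot (RE hy) (fun y hy' => ed_Wc hy' hy) w hw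
    rw [e, ua_x4] at this
    exact one_ne_zero this
  have e := sq_Rs hy
  rw [y4_b4] at e
  rw [← e, h.mul hf0 _ (RE hy) _ (RE hy), sq_Rs hR] at hn
  exact hn (by simp)

theorem zii (hW : cl M (Zs P) ≤ Z3 P) (hV : Vs P ≤ E) (hJ : E ≤ Js P) (h1 : ¬ E ≤ Qp P) (h2 : ¬ E ≤ Qs P) :
    Inv E M (Zs P) := by
  obtain ⟨e1, he1, n1⟩ := SetLike.not_le_iff_exists.1 h1
  obtain ⟨e2, he2, n2⟩ := SetLike.not_le_iff_exists.1 h2
  have n1 : e1.a1 ≠ 0 := n1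
  have n2 : e2.a8 ≠ 0 := fun c => n2 ⟨hJ he2, c⟩
  have LK : ∀ x ∈ E, x * x = 1 → (∀ e ∈ E, ⁅e, x⁆ ∈ Ws P) → x ∈ Z5 P := fun x hx x2 k => by
    have k1 := (comm_symm (k e1 he1)).2.2.1
    have k2 := (comm_symm (k e2 he2)).2.2.1
    rw [k_b4 (hJ hx) (hJ he1)] at k1
    rw [k_b4 (hJ hx) (hJ he2)] at k2
    have a1 : x.a1 = 0 := by_contra fun c => by
      rw [(mul_eq_zero.1 (inv_b8 x2).2).resolve_left c, zero_mul, zero_add, mul_eq_zero, σ_eq_zero] at k2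
      exact k2.elim n2 c
    rw [a1, _root_.map_zero, mul_zero, add_zero, mul_eq_zero, σ_eq_zero] at k1
    have c3 := inv_C3 x2 a1
    exact (inv_Z5 x2 ⟨c3.1, c3.2.1, c3.2.2, k1.resolve_right n1⟩).1
  have fV : ∀ f, M f → ∀ v ∈ Vs P, f v ∈ Ws P := fun f hf v hv => by
    have k := h.comm_map hf h.inv_top h.ed_W (hV hv) fun y _ => h.le_cl (comm_symm (c_Vs hv y))
    have k5 := LK _ (h.mem hf v (hV hv)) (h.map_sq hf (hV hv) (sq_Ws (ed_VW hv))) fun e he => by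
      have := hW (k e he)
      simp_all
    have k3 := (hW (comm_symm (k e1 he1))).2.2.2.1
    rw [k_a3 k5, show e1.b8 = 0 from hJ he1, mul_zero, add_zero, mul_eq_zero, σ_eq_zero] at k3
    exact ⟨k5.1, k5.2.1, k5.2.2.1, k5.2.2.2.1, k3.resolve_right n1, k5.2.2.2.2⟩
  have XV : cl M (Vs P) ≤ Ws P := cl_le_of fV
  have E4 : Z4 P ≤ E := fun x hx => h.mem1 (h.inv_cl hV) (fun e he => h.le_cl (comm_symm (c_Z4_Js hx (hJ he))))
    fun e he => ed_Wc (XV he) (ed_WR (ed_4W hx))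
  have X4 : cl M (Z4 P) ≤ Z5 P := cl_le_of fun f hf y hy =>
    LK _ (h.mem hf y (E4 hy)) (h.map_sq hf (E4 hy) (sq_Ws (ed_4W hy))) fun e he => XV
      (h.comm_map hf h.inv_top (h.inv_cl hV) (E4 hy) (fun e he => h.le_cl (comm_symm (c_Z4_Js hy (hJ he)))) e he)
  have h7 : (x7 1 : UO P) ∈ Z5 P := by simp
  have E7 : (x7 1 : UO P) ∈ E := h.mem2 (h.inv_cl E4) h.ed_W (fun e _ => h.le_cl (comm_symm (c_Z5 h7 e)))
    (fun e he => h.le_cl (by rw [k_Z5 (X4 he) h7]; simp)) fun e he => c_Z3_C3 (hW he) (by simp)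
  refine ⟨h.ed_Z, fun f hf z hz => ?_⟩
  obtain ⟨t, rfl⟩ := mem_Zs_iff_x4.1 hz
  obtain ⟨e, he, e7⟩ := h.surj hf E7
  by_cases c : e.a1 = 0
  · have hv : (x6 (t / e1.a1) : UO P) ∈ Vs P := by simp
    have k := h.map_comm hf he (hV hv)
    have kW := fV f hf _ hv
    rw [ua_comm_V hv, c, zero_mul, ua_x4.2 rfl, h.map_one hf, e7, k_Z5 h7 (ed_W5 kW), eq_comm, ua_x4, x7_a2, x7_a7,
      zero_mul, zero_add, one_mul] at k
    refine ed_VZ ?_ n1 (h.ed_cen hf hz e1 he1)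
    rw [← ed_x4 n1 t, h.map_comm hf he1 (hV hv)]
    exact comm_symm (c_Z4_Js ⟨kW.1, kW.2.1, k, kW.2.2⟩ (hJ (h.mem hf e1 he1)))
  · have hv : (x6 (t / e.a1) : UO P) ∈ Vs P := by simp
    rw [← ed_x4 c t, h.map_comm hf he (hV hv), e7, k_Z5 h7 (ed_W5 (fV f hf _ hv))]
    simp

theorem zA (hZ : ¬ Inv E M (Zs P)) : Z3 P ≤ E ∧ E ≤ Qp P := by
  have cm : ∀ f, M f → ∀ z ∈ Zs P, ∀ e ∈ E, Commute (f z) e := fun f hf z hz e he =>
    (commutatorElement_eq_one_iff_commute.1 (h.ed_cen hf hz e he)).symm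
  have f3 : ∀ f, M f → ∀ z ∈ Zs P, f z ∈ C3 P := fun f hf z hz => inv_C3 (h.ed_sq hf hz) (by_contra fun c => by
    have hE : E ≤ Qs P := fun e he => cen_a1 (h.ed_sq hf hz) c (ed_swap (h.ed_cen hf hz e he))
    exact c (h.no_cen hE (hE (h.mem hf z (h.ed_Z hz))) (h.ed_sq hf hz) (cm f hf z hz)).1)
  have W3 : cl M (Zs P) ≤ C3 P := cl_le_of f3
  have hV : Vs P ≤ E := fun x hx => h.mem1 h.ed_W (fun e _ => h.le_cl (comm_symm (c_Vs hx e)))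
    fun e he => ed_swap (c_Z3_C3 (ua_VZ hx) (W3 he))
  have VJ : cl M (Vs P) ≤ Js P := cl_le_of fun f hf v hv => (inv_b8 (h.map_sq hf (hV hv) (sq_Ws (ed_VW hv)))).1
  have h3 : Z3 P ≤ E := fun x hx => h.mem2 (h.inv_cl hV) h.ed_W (fun e _ => h.le_cl (comm_symm (c_Z3 hx e)))
    (fun e he => h.le_cl (comm_symm (c_Z3_Js hx (VJ he)))) fun e he => ed_swap (c_Z3_C3 hx (W3 he))
  refine ⟨h3, by_contra fun h1 => ?_⟩
  obtain ⟨e1, he1, n1⟩ := SetLike.not_le_iff_exists.1 h1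
  have n1 : e1.a1 ≠ 0 := n1
  have fW : ∀ f, M f → ∀ z ∈ Zs P, f z ∈ Ws P := fun f hf z hz => by
    have c3 := f3 f hf z hz
    obtain ⟨k5, k⟩ := inv_Z5 (h.ed_sq hf hz) ⟨c3.1, c3.2.1, c3.2.2, h.no_a8 h3 (h.ed_sq hf hz) (cm f hf z hz)⟩
    have k3 := k_a3 k5 e1
    rw [ed_swap (h.ed_cen hf hz e1 he1), one_a3] at k3
    refine ⟨k5.1, k5.2.1, k5.2.2.1, k5.2.2.2.1, by_contra fun c => ?_, k5.2.2.2.2⟩
    rw [(mul_eq_zero.1 k).resolve_right c, zero_mul, add_zero, eq_comm, mul_eq_zero, σ_eq_zero] at k3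
    exact k3.elim c n1
  have h2 : ¬ E ≤ Qs P := fun hE => hZ (h.zi (cl_le_of fW) hE)
  obtain ⟨e0, he0, n0⟩ := SetLike.not_le_iff_exists.1 h2
  have fZ : ∀ f, M f → ∀ z ∈ Zs P, f z ∈ Z3 P := fun f hf z hz => by
    have kW := fW f hf z hz
    have : ¬ ((f z).a2 ≠ 0 ∨ (f z).a3 ≠ 0) := fun c => n0 (in_Qs kW c (ua_one (cm f hf z hz e0 he0) _))
    rw [not_or, not_not, not_not] at this
    exact ⟨kW.1, kW.2.1, this.1, this.2, kW.2.2⟩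
  refine hZ ⟨h.ed_Z, fun f hf z hz => by_contra fun c => hZ (h.zii (cl_le_of fZ) hV (fun e he => ?_) h1 h2)⟩
  have k := fZ f hf z hz
  exact in_Js k (fun c5 => c (ed_VZ ⟨k.1, k.2.1, k.2.2.1, k.2.2.2.1, k.2.2.2.2.1, c5, k.2.2.2.2.2⟩ n1
    (h.ed_cen hf hz e1 he1))) (ua_one (cm f hf z hz e he) _)

end Crit

end CL.FZ
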