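/-
Fusion systems on a Sylow 2-subgroup of a large Ree group: the essential subgroups are `Qp` and `Qs`.
-/
import Cfsg.Agent.FZ.Defs2
import Cfsg.Agent.FZ.FB
import Cfsg.Agent.FZ.EA
import Cfsg.Agent.FZ.EB
import Cfsg.Agent.FZ.EC
import Cfsg.Agent.FZ.ED

set_option autoImplicit false
set_option linter.unusedSectionVars false
set_option linter.unusedVariables false
set_option maxRecDepth 20000

namespace CL.FZ

open CL.Oct CL.Oct.UO Cfsg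
open scoped commutatorElement Pointwise

variable {K : Type*} [Field K] [CharP K 2] [Finite K] {P : Par K}

/-- the central involutions -/
theorem ee_mem_Y {U : Type*} [Group U] {E : Subgroup U} {y : U} :
    y ∈ Om (cz E E) ↔ y ∈ E ∧ (∀ e ∈ E, e * y = y * e) ∧ y * y = 1 := by
  refine ⟨fun hy => ?_, fun hy => mem_Om (mem_cz.2 ⟨hy.1, hy.2.1⟩) hy.2.2⟩
  induction hy using Subgroup.closure_induction with
  | mem x hx => exact ⟨(mem_cz.1 hx.1).1, (mem_cz.1 hx.1).2, hx.2⟩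
  | one => exact ⟨one_mem _, fun e _ => by simp, mul_one 1⟩
  | mul x y _ _ h1 h2 =>
    refine ⟨mul_mem h1.1 h2.1, fun e he => by rw [← mul_assoc, h1.2.1 e he, mul_assoc, h2.2.1 e he, mul_assoc], ?_⟩
    rw [mul_assoc, ← mul_assoc y, h1.2.1 y h2.1, mul_assoc, h2.2.2, mul_one, h1.2.2]
  | inv x _ h1 => rwa [inv_eq_of_mul_eq_one_right h1.2.2]

theorem ee_one {x y : UO P} (h : x * y = y * x) : ⁅x, y⁆ = 1 := commutatorElement_eq_one_iff_mul_comm.2 h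

theorem ee_x46 {s t : K} (h : (x4 s * x6 t : UO P) = 1) : s = 0 ∧ t = 0 :=
  ⟨by simpa using congrArg UO.a4 h, by simpa using congrArg UO.a6 h⟩

theorem ee_V {x g : UO P} (hx : x ∈ R5 P) (hg : g ∈ C3 P) : ⁅x, g⁆ ∈ Vs P := by
  rw [k_R5_C3 hx hg]; simp

theorem ee_VW : Vs P ≤ Ws P := fun _ h => by simp_all
theorem ee_Z3W : Z3 P ≤ Ws P := fun _ h => by simp_all
theorem ee_Z4R : Z4 P ≤ R5 P := fun _ h => by simp_all
theorem ee_Z4W : Z4 P ≤ Ws P := fun _ h => by simp_all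
theorem ee_R5C : R5 P ≤ C3 P := fun _ h => by simp_all
theorem ee_R5Z : R5 P ≤ Z5 P := fun _ h => by simp_all
theorem ee_Z5C : Z5 P ≤ C3 P := fun _ h => by simp_all
theorem ee_Z5Q : Z5 P ≤ Qp P := fun _ h => by simp_all

namespace Crit
variable {E : Subgroup (UO P)} {M : (UO P → UO P) → Prop} (h : Crit E M)
include h

theorem ee_invY : Inv E M (Om (cz E E)) := h.inv_Om (h.inv_cz h.inv_top h.inv_top)

omit h in
theorem ee_VY (h3 : Z3 P ≤ E) (hQ : E ≤ Qp P) : Vs P ≤ Om (cz E E) := fun _ hv =>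
  ee_mem_Y.2 ⟨h3 (ua_VZ hv), fun _ he => (commutatorElement_eq_one_iff_mul_comm.1 (c_Vs_Qp hv (hQ he))).symm,
    sq_Ws (ee_VW hv)⟩

omit h in
theorem ee_OmC (hQ : E ≤ Qp P) : Om E ≤ C3 P := Om_le_of fun _ hy h2 => inv_C3 h2 (mem_Qp.1 (hQ hy))

theorem ee_XO (h3 : Z3 P ≤ E) : cl M (Z3 P) ≤ Om E :=
  cl_le_of fun _ hf x hx => mem_Om (h.mem hf x (h3 hx)) (h.map_sq hf (h3 hx) (sq_Ws (ee_Z3W hx)))

theorem ee_Z5 (h3 : Z3 P ≤ E) (hQ : E ≤ Qp P) {y : UO P} (hy : y ∈ Om (cz E E)) : y ∈ Z5 P ∧ y.a2 * y.a7 = 0 := by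
  obtain ⟨hE, hc, h2⟩ := ee_mem_Y.1 hy
  have hC := inv_C3 h2 (mem_Qp.1 (hQ hE))
  exact inv_Z5 h2 ⟨hC.1, hC.2.1, hC.2.2, h.no_a8 h3 h2 fun e he => (hc e he).symm⟩

theorem ee_clZ (h3 : Z3 P ≤ E) (hQ : E ≤ Qp P) : cl M (Zs P) ≤ Om (cz E E) :=
  cl_le_of fun f hf x hx => h.ee_invY.2 f hf x (ee_VY h3 hQ (ua_ZV hx))

omit h in
theorem ee_Qs {y : UO P} (hy : y ∈ Om (cz E E)) (hW : y ∈ Ws P) (hn : y.a2 ≠ 0 ∨ y.a3 ≠ 0) : E ≤ Qs P := fun e he =>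
  in_Qs hW hn (by rw [ee_one ((ee_mem_Y.1 hy).2.1 e he).symm]; exact one_mem _)

theorem ee_YR (hZ : ¬ Inv E M (Zs P)) : Om (cz E E) ≤ R5 P := by
  obtain ⟨h3, hQ⟩ := h.zA hZ
  intro y hy
  obtain ⟨⟨k1, k2, k3, k4, k5, k6⟩, k⟩ := h.ee_Z5 h3 hQ hy
  refine ⟨k1, k2, ?_, k3, k4, k5, k6⟩
  by_contra n2
  have k7 : y.a7 = 0 := (mul_eq_zero.1 k).resolve_left n2
  refine hZ (h.zi (fun w hw => ?_) (ee_Qs hy ⟨k1, k2, k3, k4, k7, k5, k6⟩ (.inl n2)))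
  have hwY := h.ee_clZ h3 hQ hw
  obtain ⟨⟨l1, l2, l3, l4, l5, l6⟩, l⟩ := h.ee_Z5 h3 hQ hwY
  refine ⟨l1, l2, l3, l4, ?_, l5, l6⟩
  by_contra n7
  have l7 : w.a2 = 0 := (mul_eq_zero.1 l).resolve_right n7
  have := (h.ee_Z5 h3 hQ (mul_mem hwY hy)).2
  simp [k1, k2, k3, k4, k5, k6, k7, l1, l2, l3, l4, l5, l6, l7, n2, n7] at this

theorem ee_R5 (hZ : ¬ Inv E M (Zs P)) : R5 P ≤ E := by
  obtain ⟨h3, hQ⟩ := h.zA hZ
  intro x hx
  refine h.mem2 (h.inv_cl h3) h.ee_invY (fun e he => h.le_cl (comm_symm (c_R5_Qp hx (hQ he))))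
    (fun e he => ee_VY h3 hQ (comm_symm (ee_V hx (ee_OmC hQ (h.ee_XO h3 he))))) fun e he => ?_
  obtain ⟨k1, k2, k3, k4, k5, k6, k7⟩ := mem_R5.1 hx
  rw [k_R5_C3 (h.ee_YR hZ he) (ee_R5C hx)]
  ext <;> simp [k3, k4, k5, k7]

theorem ee_YZ3 (hZ : ¬ Inv E M (Zs P)) : Om (cz E E) ≤ Z3 P := by
  obtain ⟨h3, hQ⟩ := h.zA hZ
  have h4 : Om (cz E E) ≤ Z4 P := fun y hy => by
    have hR := h.ee_YR hZ hy
    obtain ⟨k1, k2, k3, k4, k5, k6, k7⟩ := mem_R5.1 hR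
    exact ⟨k1, k2, k3, k4, k5, h.no_a7 (h.ee_R5 hZ) hQ hR fun e he => ((ee_mem_Y.1 hy).2.1 e he).symm, k6, k7⟩
  intro y hy
  obtain ⟨k1, k2, k3, k4, k5, k6, k7, k8⟩ := mem_Z4.1 (h4 hy)
  refine ⟨k1, k2, k3, ?_, k4, k5, k6, k7, k8⟩
  by_contra n3
  exact hZ (h.zi ((h.ee_clZ h3 hQ).trans (h4.trans ee_Z4W)) (ee_Qs hy (ee_Z4W (h4 hy)) (.inr n3)))

theorem ee_invV (hZ : ¬ Inv E M (Zs P)) : Inv E M (Vs P) := by
  obtain ⟨h3, hQ⟩ := h.zA hZ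
  rw [← le_antisymm (fun y hy => ?_) (ee_VY h3 hQ)]
  · exact h.ee_invY
  have hy3 := h.ee_YZ3 hZ hy
  obtain ⟨k1, k2, k3, k4, k5, k6, k7, k8, k9⟩ := mem_Z3.1 hy3
  refine ⟨k1, k2, k3, k4, k5, ?_, k6, k7, k8, k9⟩
  by_contra n5
  have hC : E ≤ C3 P := fun e he => by
    have e1 : e.a1 = 0 := mem_Qp.1 (hQ he)
    have := ee_one ((ee_mem_Y.1 hy).2.1 e he)
    rw [ua_comm hy3] at this
    obtain ⟨t1, t2⟩ := ee_x46 this
    exact ⟨e1, by simpa [e1, n5] using t1, by simpa [n5] using t2⟩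
  have i3 : Inv E M (Z3 P) := by
    rw [← le_antisymm (h.ee_YZ3 hZ) fun v hv => ee_mem_Y.2 ⟨h3 hv,
      fun _ he => (commutatorElement_eq_one_iff_mul_comm.1 (c_Z3_C3 hv (hC he))).symm, sq_Ws (ee_Z3W hv)⟩]
    exact h.ee_invY
  have hC' : C3 P ≤ E := fun x hx => h.mem1 i3 (fun e he => c_C3_C3 (hC he) hx) fun e he => c_Z3_C3 he hx
  have nr : ∀ x : UO P, ∀ e ∈ E, ⁅e, x⁆ ∈ E := fun x e he => hC' (by
    rw [commutatorElement_def, mul_assoc, mul_assoc, ← mul_assoc x]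
    exact mul_mem (hC he) (nC3.conj_mem _ (inv_mem (hC he)) x))
  obtain ⟨e, he, e2⟩ := h.coset (x1 1) (y2 1) (nr _) (nr _) (fun k => by simpa using (hC k).1)
    (fun k => by simpa using (hC k).2.1) (sq_x 1).1 (hC' (by simp [CharTwo.add_self_eq_zero]))
  obtain ⟨e1, e3, e4⟩ := mem_C3.1 (hC he)
  simpa [e3] using (inv_C3 e2 (by simp [e1])).2.1

theorem zB (hZ : ¬ Inv E M (Zs P)) : E = Qp P := by
  obtain ⟨h3, hQ⟩ := h.zA hZ
  have iV := h.ee_invV hZ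
  refine le_antisymm hQ (h.top iV ?_)
  by_contra n3
  have iO := h.inv_Om h.inv_top
  have iX := h.inv_cl h3
  have hOC := ee_OmC hQ
  have hRO : R5 P ≤ Om E := fun x hx => mem_Om (h.ee_R5 hZ hx) (sq_R5 hx)
  have hXc : cl M (Z3 P) ≤ cz (Om E) (Om E) := cl_le_of fun f hf x hx => (h.inv_cz iO iO).2 f hf x
    (mem_cz.2 ⟨h.ee_XO h3 (h.le_cl hx),
      fun _ he => (commutatorElement_eq_one_iff_mul_comm.1 (c_Z3_C3 hx (hOC he))).symm⟩)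
  have hXR : cl M (Z3 P) ≤ R5 P := fun w hw => by
    have hC := hOC (h.ee_XO h3 hw)
    have m3 : (x3 1 : UO P) ∈ R5 P := by simp
    have m7 : (x7 1 : UO P) ∈ R5 P := by simp
    have t3 := ee_one ((mem_cz.1 (hXc hw)).2 _ (hRO m3))
    have t7 := ee_one ((mem_cz.1 (hXc hw)).2 _ (hRO m7))
    rw [k_R5_C3 m3 hC] at t3
    rw [k_R5_C3 m7 hC] at t7
    exact ⟨hC.1, hC.2.1, by simpa using (ee_x46 t7).1, by simpa using (ee_x46 t7).2, by simpa using (ee_x46 t3).1, hC.2.2,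
      by simpa using (ee_x46 t3).2⟩
  have h5 : Z5 P ≤ E := fun x hx => h.mem3 iO iX iV (fun e _ => hRO (ee_Z4R (comm_symm (c_Z5 hx e))))
    (fun e he => h.le_cl (c_C3_C3 (hOC he) (ee_Z5C hx))) (fun e he => ee_V (hXR he) (ee_Z5C hx))
    fun e he => c_Vs_Qp he (ee_Z5Q hx)
  have m2 : ∀ t, (x2 t : UO P) ∈ Z5 P := fun t => by simp
  have o2 : ∀ t, (x2 t : UO P) ∈ Om E := fun t => mem_Om (h5 (m2 t)) (sq_x t).2.1
  have h7 : ∀ w ∈ cl M (Z3 P), w.a7 = 0 := fun w hw => by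
    have t := ee_one ((mem_cz.1 (hXc hw)).2 _ (o2 1))
    rw [k_Z5 (m2 1) (ee_R5Z (hXR hw))] at t
    simpa using ua_x4.1 t
  obtain ⟨w, hw, w3⟩ : ∃ w ∈ cl M (Z3 P), w.a3 ≠ 0 := by
    by_contra! n
    refine n3 ?_
    rw [← le_antisymm (fun w hw => ?_) (h.le_cl (X := Z3 P))]
    · exact iX
    obtain ⟨k1, k2, k3, k4, k5, k6, k7⟩ := mem_R5.1 (hXR hw)
    exact ⟨k1, k2, k3, n w hw, k4, k5, h7 w hw, k6, k7⟩
  have hO5 : Om E ≤ Z5 P := Om_le_of fun y hy h2 => by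
    have hO := mem_Om hy h2
    have hC := hOC hO
    have t := ee_one ((mem_cz.1 (hXc hw)).2 _ hO).symm
    rw [k_R5_C3 (hXR hw) hC] at t
    exact (inv_Z5 h2 ⟨hC.1, hC.2.1, hC.2.2, by simpa [h7 w hw, w3] using (ee_x46 t).2⟩).1
  refine hZ ?_
  have e : ⁅Om E, Om E⁆ = Zs P := by
    refine le_antisymm (Subgroup.commutator_le.2 fun x hx y hy => ?_) fun z hz => ?_
    · rw [k_Z5 (hO5 hx) (hO5 hy)]; simp
    · have m7 : (x7 1 : UO P) ∈ R5 P := by simp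
      have := Subgroup.commutator_mem_commutator (o2 z.a4) (hRO m7)
      rw [k_Z5 (m2 _) (ee_R5Z m7)] at this
      obtain ⟨k1, k2, k3, k4, k5, k6, k7, k8, k9, k10, k11⟩ := mem_Zs.1 hz
      have e : z = x4 ((x2 z.a4 : UO P).a2 * (x7 1 : UO P).a7 + (x2 z.a4 : UO P).a7 * (x7 1 : UO P).a2) := by
        ext <;> simp [*]
      rwa [← e] at this
  exact e ▸ h.inv_comm iO iO

theorem eq : E = Qp P ∨ E = Qs P := by
  by_cases hZ : Inv E M (Zs P)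
  · by_cases hV : Inv E M (Vs P)
    · exact (h.big (h.top hV (h.two hZ hV)) hZ hV).elim
    · exact .inr (h.one hZ hV)
  · exact .inl (h.zB hZ)

end Crit

end CL.FZ
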