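/-
Fusion systems on a Sylow 2-subgroup of a large Ree group: essential subgroups satisfy `Crit` and `Rk1`.
-/
import Cfsg.Agent.FZ.Defs2
import Cfsg.Agent.Fus.NormalCrit
import Cfsg.Agent.Fus.EssExt
import Cfsg.Agent.Even.StrEmb
import Cfsg.Agent.S1225

set_option autoImplicit false
set_option linter.unusedSectionVars false
set_option linter.unusedVariables false

namespace CL.FZ

open CL.Oct CL.Oct.UO Cfsg CL.Fus
open scoped commutatorElement Pointwise

theorem gl_chain {U : Type*} [Group U] {E : Subgroup U} {M : (U → U) → Prop} {x : U} {X : Subgroup U}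
    (h : Triv E M x X) : ∃ (n : ℕ) (C : ℕ → Subgroup U), C 0 = ⊥ ∧ C n = X ∧ (∀ i, C i = ⊥ ∨ Inv E M (C i)) ∧
      ∀ i < n, ∀ e ∈ C (i + 1), ⁅e, x⁆ ∈ C i := by
  induction h with
  | bot => exact ⟨0, fun _ => ⊥, rfl, rfl, fun _ => .inl rfl, fun _ h => absurd h (Nat.not_lt_zero _)⟩
  | @step X Y _ hX hc ih =>
    obtain ⟨n, C, h0, rfl, h1, h2⟩ := ih
    refine ⟨n + 1, fun i => if i ≤ n then C i else X, by simpa using h0, by simp, fun i => ?_, fun i hi e he => ?_⟩
    · by_cases h : i ≤ n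
      · simpa only [if_pos h] using h1 i
      · simpa only [if_neg h] using .inr hX
    · simp only [if_pos (Nat.le_of_lt_succ hi)]
      rcases Nat.lt_succ_iff_lt_or_eq.1 hi with h | rfl
      · exact h2 i h e (by simpa only [if_pos (Nat.succ_le_of_lt h)] using he)
      · exact hc e (by simpa using he)

theorem gl_conj {G : Type*} [Group G] [Finite G] {Y : Subgroup G} (hY : IsStronglyPEmbedded 2 Y) {a b : G}
    (ha : orderOf a = 2) (hb : orderOf b = 2) : IsConj a b := by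
  have h := CL.Even.isStronglyEmbedded_iff_isStronglyPEmbedded_two.2 hY
  obtain ⟨w, w1, w2⟩ := CL.Inv.SE.exists_inv_notMem h
  obtain ⟨t, t1, t2⟩ := CL.Inv.SE.exists_inv h
  exact (Cfsg.Agent.S1225.result Y h w w2 w1 t t t2 t1 t2 t1).2 a b ha hb

theorem gl_norm {U : Type*} [Group U] [Finite U] {E : Subgroup U} {x : U} (h : ∀ e ∈ E, ⁅e, x⁆ ∈ E) :
    x ∈ Subgroup.normalizer (E : Set U) := mem_normalizer_of_finite fun e he => by
  have := mul_mem he (h _ (inv_mem he))
  rwa [← inv_mul_conj_eq_commutator, mul_inv_cancel_left] at this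

theorem gl_aut0 {U : Type*} [Group U] (F : FusionSystem (⊤ : Subgroup U)) :
    aut0 F = (F.autGroup ⊤).map (MulAut.congr Subgroup.topEquiv).toMonoidHom := Subgroup.ext fun α => by
  rw [Subgroup.mem_map_equiv, mem_autGroup_iff le_rfl, mem_aut0]
  exact ⟨fun h => h.congr fun x hx => by rw [autFun_apply _ hx]; rfl,
    fun h => h.congr fun x hx => (autFun_apply _ hx).trans rfl⟩

theorem gl_inn {U : Type*} [Group U] : (MulAut.conj : U →* MulAut U).range =
    (Inn (⊤ : Subgroup U)).map (MulAut.congr Subgroup.topEquiv).toMonoidHom := Subgroup.ext fun α => by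
  rw [Subgroup.mem_map_equiv, mem_Inn_iff]
  exact ⟨fun ⟨a, h⟩ => ⟨a, trivial, fun x hx => (autFun_apply _ hx).trans (h ▸ rfl)⟩,
    fun ⟨a, _, h⟩ => ⟨a, MulEquiv.ext fun x => (h x trivial).symm.trans ((autFun_apply _ (Subgroup.mem_top x)).trans rfl)⟩⟩

section
variable {U : Type*} [Group U] [Finite U] (hU : IsPGroup 2 U) {F : FusionSystem (⊤ : Subgroup U)} (hF : F.IsSaturated 2)
  {E : Subgroup U} (hE : F.IsEssential 2 E)
include hU hF hE

theorem gl_coset {x y : U} (hx : x ∈ Subgroup.normalizer (E : Set U)) (hy : y ∈ Subgroup.normalizer (E : Set U))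
    (x1 : x ∉ E) (y1 : y ∉ E) (x2 : x * x = 1) (y2 : y * y ∈ E) : ∃ e ∈ E, y * e * (y * e) = 1 := by
  have := Fact.mk Nat.prime_two
  have := finite_autGroup F E
  have hS : IsPGroup 2 (⊤ : Subgroup U) := hU.to_subgroup _
  have cm : ∀ {a b : U} (ha : a ∈ Subgroup.normalizer (E : Set U)) (hb : b ∈ Subgroup.normalizer (E : Set U)),
      conjAut E ha * conjAut E hb = conjAut E (mul_mem ha hb) := fun ha hb => aut_ext fun z hz => by
    rw [autFun_mul _ _ hz, autFun_conjAut _ hz, autFun_conjAut _ (conj_mem_of_mem_normalizer hb hz),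
      autFun_conjAut _ hz]
    group
  have k : ∀ {a : U} (ha : a ∈ Subgroup.normalizer (E : Set U)), a ∉ E → a * a ∈ E →
      orderOf (outMk F E ⟨conjAut E ha, conjAut_mem_autGroup F le_top ha trivial⟩) = 2 := fun ha a1 a2 =>
    CL.Inv.SE.inv_of_mul_self (by
      rw [← map_mul, outMk_eq_one_iff, Subgroup.coe_mul, cm]
      exact mem_Inn_iff.2 ⟨_, a2, fun z hz => autFun_conjAut _ hz⟩)
      fun e => IsEssential.conjAut_notMem_Inn hE trivial ha a1 (outMk_eq_one_iff.1 e)
  obtain ⟨Y, hY⟩ := (isEssential_iff.1 hE).2.2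
  obtain ⟨c, hc⟩ := isConj_iff.1 (gl_conj hY (k hx x1 (x2 ▸ one_mem _)) (k hy y1 y2))
  obtain ⟨β, rfl⟩ := QuotientGroup.mk'_surjective _ c
  obtain ⟨g, hg, e⟩ := (mor_autFun le_top β.2).extend' (receptive_of_centric hS hF hE.1) (img_autFun _)
    (R := Subgroup.zpowers x) (Subgroup.zpowers_le.2 (mem_extenderF_of_outMk_eq le_top β trivial hx trivial hy hc))
  have xm : x ∈ E ⊔ Subgroup.zpowers x := Subgroup.mem_sup_right (Subgroup.mem_zpowers x)
  have hw := map_mem_normalizer_of_ext hg le_sup_left (fun z hz => (e z hz).symm) xm hx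
  refine ⟨y⁻¹ * g x, by_contra fun h => IsEssential.conjAut_notMem_Inn hE trivial (mul_mem (inv_mem hy) hw) h ?_, ?_⟩
  · rw [← map_mul, ← map_inv, ← map_mul] at hc
    have h1 := QuotientGroup.eq.1 hc.symm
    have h2 : conjAut E (mul_mem (inv_mem hy) hw) = (conjAut E hy)⁻¹ * (β * conjAut E hx * (β : MulAut E)⁻¹) := by
      rw [conj_conjAut_eq hg le_sup_left (fun z hz => (e z hz).symm) xm hx hw, eq_inv_mul_iff_mul_eq, cm]
      simp only [mul_inv_cancel_left]
    exact h2 ▸ h1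
  · rw [mul_inv_cancel_left, ← hg.homOn.map_mul xm xm, x2, hg.homOn.map_one]

theorem crit_of_essential : Crit E fun f => Mor F E f ∧ img f E = E := by
  have := Fact.mk Nat.prime_two
  have hS : IsPGroup 2 (⊤ : Subgroup U) := hU.to_subgroup _
  refine ⟨(IsEssential.lt_top hS hF hE).ne, fun hf x hx => hf.2.le (mem_img_of_mem _ hx),
    fun hf x hx y hy => hf.1.homOn.map_mul hx hy, fun hf => ?_, fun {f g} hf hg => ?_, ⟨mor_id F le_top, img_id E⟩,
    fun x hx => IsCentric.centralizerIn_le hE.1 ⟨trivial, fun e he => (hx e he).eq.symm⟩, fun x hx t => ?_,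
    fun x y hx hy => gl_coset hU hF hE (gl_norm hx) (gl_norm hy)⟩
  · obtain ⟨g, h1, h2, h3, h4⟩ := hf.1.exists_inv' hf.2
    exact ⟨g, ⟨h1, h4⟩, fun x hx => ⟨h2 x hx, h3 x hx⟩⟩
  · exact ⟨hg.1.comp_img hf.1 hg.2.le, (hg.1.img_comp f).trans (by rw [hg.2, hf.2])⟩
  · obtain ⟨n, C, h0, h1, h2, h3⟩ := gl_chain t
    refine mem_of_chain_top hS hE.1 (IsEssential.isRadical hS hE) n C (fun i _ f hf e z _ hz => ?_)
      (fun z _ hz => Subgroup.mem_bot.1 (h0.le hz)) trivial (gl_norm hx) (fun z hz => ?_) fun i hi z _ hz => ?_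
    · rcases h2 i with h | h
      · rw [Subgroup.mem_bot.1 (h.le hz), hf.homOn.map_one]; exact one_mem _
      · exact h.2 f ⟨hf, e⟩ z hz
    · rw [inv_mul_conj_eq_commutator, h1]; exact hx _ (inv_mem hz)
    · rw [inv_mul_conj_eq_commutator]; exact h3 i hi _ (inv_mem hz)

theorem rk1_of_essential [E.Normal] (hc : ∀ (α : MulAut U) (x : U), α x ∈ E ↔ x ∈ E) : Rk1 E (aut0 F) (F.autGroup E) := by
  have := Fact.mk Nat.prime_two
  have hS : IsPGroup 2 (⊤ : Subgroup U) := hU.to_subgroup _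
  have := finite_autGroup F E
  have := finite_autGroup F ⊤
  refine ⟨fun s => mor_conj F le_rfl trivial, ?_, fun α hα => ?_,
    (sylIn_of_fullyNormalized hS hF hE.2.1).not_dvd_relIndex, fun a ha hn => ?_, ?_⟩
  · rw [gl_aut0, gl_inn, Subgroup.relIndex_map_map_of_injective _ _ (MulAut.congr Subgroup.topEquiv).injective]
    exact (sylIn_Inn_top hS hF).not_dvd_relIndex
  · obtain ⟨b, hb⟩ := exists_res α (hc α)
    exact ⟨b, (Mor.mono hα le_top).mem_autGroup hb, hb⟩
  · obtain ⟨g, hg, e⟩ := (mor_autFun le_top ha).extend' (receptive_of_centric hS hF hE.1) (img_autFun _) (R := ⊤)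
      fun u _ => by
        have hu : u ∈ Subgroup.normalizer (E : Set U) := Subgroup.le_normalizer_of_normal (Subgroup.mem_top u)
        obtain ⟨b, -, hb⟩ := mem_autInducedBy.1 (conj_mem_of_mem_normalizer hn (conjAut_mem_autInducedBy hu trivial))
        refine mem_extenderF.2 ⟨trivial, hu, b, trivial, fun x hx => ?_⟩
        rw [← hb _ (autFun_mem a hx), ← autFun_mul _ _ hx, inv_mul_cancel_right, autFun_mul _ _ hx,
          autFun_conjAut _ hx]
    obtain ⟨σ, hσ, e'⟩ := hg.exists_aut' le_sup_right fun _ _ => trivial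
    exact ⟨_, gl_aut0 F ▸ Subgroup.mem_map_of_mem _ hσ, fun x => (autFun_coe a x).symm.trans
      ((e x x.2).symm.trans ((e' x trivial).symm.trans ((autFun_apply σ (Subgroup.mem_top _)).trans rfl)))⟩
  · obtain ⟨γ, h1, h2⟩ := IsEssential.exists_notMem_extAut hS hF hE
    exact ⟨γ, h1, fun ⟨α, hα, e⟩ => h2 (mem_extAut (IsEssential.lt_top hS hF hE) hα fun x hx =>
      (autFun_apply γ hx).trans (e ⟨x, hx⟩))⟩

end

end CL.FZ
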