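/-
Fusion systems on a Sylow 2-subgroup of a large Ree group: the extension of the model by a field automorphism.
-/
import Cfsg.Agent.FZ.Defs2
import Cfsg.Agent.Oct.AC
import Cfsg.Agent.Oct.CA
import Mathlib.GroupTheory.SemidirectProduct
import Mathlib.FieldTheory.Finite.Extension

set_option autoImplicit false
set_option linter.unusedSectionVars false
set_option linter.unusedVariables false
set_option maxRecDepth 20000

namespace CL.FZ

open CL.Oct CL.Oct.UO Cfsg CL.Fus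
open scoped commutatorElement Pointwise

variable {K : Type*} [Field K] [CharP K 2] [Finite K] {P : Par K}

theorem md_odd (P : Par K) (γ : RingAut K) : ¬ 2 ∣ orderOf γ := by
  have := Fact.mk Nat.prime_two
  let _ := ZMod.algebra K 2
  let s : RingAut K := RingEquiv.ofBijective P.σ (σ_bij P)
  have hs : ∀ (i : ℕ) (x : K), (s ^ (2 * i)) x = x ^ 2 ^ i := fun i => by
    induction i with
    | zero => simp
    | succ i ih =>
      intro x
      rw [Nat.mul_succ, pow_add, pow_two]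
      change (s ^ (2 * i)) (P.σ (P.σ x)) = _
      rw [ih, P.sq, ← pow_mul, pow_succ']
  have k : ∀ e : RingAut K, ∃ i, e = s ^ (2 * i) := fun e => by
    obtain ⟨i, hi⟩ := FiniteField.exists_forall_apply_eq_pow (ZMod 2) 2 K (AlgEquiv.ofRingEquiv (f := e) fun x =>
      DFunLike.congr_fun (Subsingleton.elim ((e : K →+* K).comp (algebraMap _ K)) _) x)
    exact ⟨i, RingEquiv.ext fun x => by rw [hs]; exact (hi x).trans (by simp)⟩
  obtain ⟨i, hi⟩ := k γ
  obtain ⟨j, hj⟩ := k s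
  intro h
  have h1 : 2 ∣ orderOf s := h.trans (hi ▸ orderOf_pow_dvd _)
  have h2 := (pow_eq_pow_iff_modEq.1 ((pow_one s).trans hj)).of_dvd h1
  unfold Nat.ModEq at h2
  omega

/-- a field automorphism on the torus -/
def mdU (γ : RingAut K) : Kˣ × Kˣ →* Kˣ × Kˣ := (Units.map (γ : K →* K)).prodMap (Units.map (γ : K →* K))

theorem mdU_fst (γ : RingAut K) (p : Kˣ × Kˣ) : ((mdU γ p).1 : K) = γ p.1 := rfl
theorem mdU_snd (γ : RingAut K) (p : Kˣ × Kˣ) : ((mdU γ p).2 : K) = γ p.2 := rfl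

theorem mdU_mul (γ δ : RingAut K) (p : Kˣ × Kˣ) : mdU (γ * δ) p = mdU γ (mdU δ p) := rfl
theorem mdU_one (p : Kˣ × Kˣ) : mdU (1 : RingAut K) p = p := rfl

theorem md_dg (γ : RingAut K) (p : Kˣ × Kˣ) (a : UO P) : fld P γ (dg P p a) = dg P (mdU γ p) (fld P γ a) := by
  ext <;> simp [fld_apply, mdU_fst, mdU_snd, c1, d2, c2, c3, d4, c4, c5, d6, c6, c7, d8, c8, comm_σ]

theorem md_rn (γ : RingAut K) (a : UO P) : fld P γ (rn a) = rn (fld P γ a) := by
  ext <;> simp [fld_apply, comm_σ]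

theorem md_rp (γ : RingAut K) (a : UO P) : fld P γ (rp a) = rp (fld P γ a) := by
  ext <;> simp [fld_apply, comm_σ]

theorem md_c4 (γ : RingAut K) (p : Kˣ × Kˣ) : c4 P (mdU γ p) = γ (c4 P p) := by
  simp [mdU_fst, mdU_snd, c4, comm_σ]

theorem md_sn (γ : RingAut K) (p : Kˣ × Kˣ) : sn P (mdU γ p) = mdU γ (sn P p) := by
  ext <;> simp [sn, mdU_fst, mdU_snd, comm_σ]

theorem md_sp (γ : RingAut K) (p : Kˣ × Kˣ) : sp (mdU γ p) = mdU γ (sp p) := by
  ext <;> simp [sp, mdU_fst, mdU_snd]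

theorem md_mem (γ : RingAut K) (a : UO P) : (fld P γ a ∈ Qs P ↔ a ∈ Qs P) ∧ (fld P γ a ∈ Qp P ↔ a ∈ Qp P) ∧
    (fld P γ a ∈ U8 P ↔ a ∈ U8 P) := by
  simp [fld_apply]

/-- a field automorphism on `Dp` -/
def mdD (P : Par K) (γ : RingAut K) : Dp P →* Dp P :=
  ((mdU γ).comp (Dp P).subtype).codRestrict _ fun p => mem_Dp.2 (by
    change c4 P (mdU γ p) = 1
    rw [md_c4, mem_Dp.1 p.2, map_one])

theorem mdD_coe (γ : RingAut K) (p : Dp P) : (mdD P γ p : Kˣ × Kˣ) = mdU γ p := rfl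

section
variable {R : Rk P} {X : Type*} [Group X]

theorem md_f1 (c : CM R X) (a : UO P) {y : UO P} (hy : y ∈ Qs P) :
    c.n * c.u a * c.n * c.u y = c.u (rn (a * rn y * a⁻¹)) * (c.n * c.u a * c.n) := by
  have h := (normal_all P).2.2.2.2.1.conj_mem _ (rn_mem hy) a
  rw [mul_assoc, c.n_mul_u hy, ← mul_assoc (c.u _), ← mul_assoc (c.u _), ← c.n_mul_u h]
  simp only [map_mul, map_inv, mul_assoc, inv_mul_cancel_left]

theorem md_f2 (c : CM R X) (b e : UO P) (p : Dp P) {y : UO P} (hy : y ∈ Qs P) :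
    c.u b * c.d p * c.n * c.u e * c.u y =
      c.u (b * dg P p (rn (e * y * e⁻¹)) * b⁻¹) * (c.u b * c.d p * c.n * c.u e) := by
  have h := (normal_all P).2.2.2.2.1.conj_mem _ hy e
  rw [map_mul, map_mul, ← c.d_conj, ← c.n_conj _ h]
  simp only [map_mul, map_inv, mul_assoc, inv_mul_cancel_left]
  rw [← mul_assoc c.n c.n, c.n_sq, one_mul, inv_mul_cancel, mul_one]

theorem md_f3 (c : CM R X) (b e : UO P) (p : Dp P) :
    c.u b * c.d p * c.n * c.u e = c.u b * c.n * c.u (dg P (p⁻¹ : Dp P) e) * c.d p⁻¹ := by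
  rw [mul_assoc (c.u b), c.d_mul_n, mul_assoc (_ * c.n), ← c.d_mul_u]
  simp only [mul_assoc]

theorem md_rank2 (c : CM R X) (γ : RingAut K) {a : UO P} (ha : a ∈ U8 P) (h1 : a ≠ 1) :
    c.n * c.u (fld P γ a) * c.n = c.u (fld P γ (R.β a)) * c.d (mdD P γ (R.π a)) * c.n * c.u (fld P γ (R.γ a)) := by
  have ha' := (md_mem γ a).2.2.2 ha
  have h1' : fld P γ a ≠ 1 := fun e => h1 ((map_eq_one_iff _ (fld P γ).injective).1 e)
  obtain ⟨g, hg⟩ : ∃ g, g = c.n * c.u (fld P γ a) * c.n := ⟨_, rfl⟩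
  obtain ⟨g', hg'⟩ : ∃ g', g' = c.u (fld P γ (R.β a)) * c.d (mdD P γ (R.π a)) * c.n * c.u (fld P γ (R.γ a)) := ⟨_, rfl⟩
  rw [← hg, ← hg']
  have hz : g⁻¹ * g' ∈ c.Z := by
    refine c.mem_Z_of_cent_Q (hg ▸ hg' ▸ mul_mem (inv_mem (mul_mem (mul_mem c.n_mem_C (c.u_mem_C _)) c.n_mem_C))
      (mul_mem (mul_mem (mul_mem (c.u_mem_C _) (c.d_mem_C _)) c.n_mem_C) (c.u_mem_C _))) ?_
    rintro _ ⟨x, hx, rfl⟩
    obtain ⟨y, rfl⟩ := (fld P γ).surjective x
    have hy := (md_mem γ y).1.1 hx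
    have e1 := md_f1 c a hy
    rw [c.rank2 a ha h1, md_f2 c _ _ _ hy, mul_left_inj] at e1
    have e2 := congrArg (fld P γ) (c.u_inj e1)
    simp only [map_mul, map_inv, md_dg, md_rn] at e2
    have e3 := md_f2 c (fld P γ (R.β a)) (fld P γ (R.γ a)) (mdD P γ (R.π a)) hx
    rw [← hg', mdD_coe, e2] at e3
    have e4 := md_f1 c (fld P γ a) hx
    rw [← hg] at e4
    change g⁻¹ * g' * _ = _ * (g⁻¹ * g')
    rw [mul_assoc, e3, ← mul_assoc, ← mul_assoc, mul_left_inj, inv_mul_eq_iff_eq_mul, ← mul_assoc, e4,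
      mul_inv_cancel_right]
  obtain ⟨z, hz, e⟩ := hz
  rw [eq_inv_mul_iff_mul_eq] at e
  have e' := e
  rw [hg, c.rank2 _ ha' h1', mul_assoc, ← map_mul, hg', md_f3, md_f3] at e'
  obtain ⟨-, e5, e6⟩ := c.bruhat_unique (R.β_mem _) ((md_mem γ _).2.2.2 (R.β_mem _)) e'
  rw [e6, (dg P _).injective.eq_iff, ← eq_inv_mul_iff_mul_eq] at e5
  have hz8 : z ∈ U8 P := e5 ▸ mul_mem (inv_mem (R.γ_mem _)) ((md_mem γ _).2.2.2 (R.γ_mem _))
  have hz1 : z = 1 := by
    obtain ⟨t, rfl⟩ := mem_Zs_iff_x4.1 hz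
    rw [show t = 0 from hz8.2.2.2.2.2.1]; rfl
  rw [← e, hz1, map_one, mul_one]

/-- the model twisted by a field automorphism -/
def mdB (b : BM R X) (γ : RingAut K) : BM R X where
  u := b.u.comp (fld P γ).toMonoidHom
  u_inj := b.u_inj.comp (fld P γ).injective
  d := b.d.comp (mdD P γ)
  d_conj p a := (b.d_conj _ _).trans (congrArg b.u (md_dg γ _ a).symm)
  n := b.n
  n_sq := b.n_sq
  n_conj a ha := (b.n_conj _ ((md_mem γ a).1.2 ha)).trans (congrArg b.u (md_rn γ a).symm)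
  n_d p := b.n_d _
  rank2 a ha h := md_rank2 b.toCM γ ha h
  n_not h := b.n_not ((sup_le (by rintro _ ⟨a, rfl⟩; exact b.u_mem_B0 _) (by rintro _ ⟨a, rfl⟩; exact b.d_mem_B0 _) :
    _ ≤ b.B0) h)
  T :=
    { h := b.T.h.comp (mdU γ)
      h_conj := fun p a => (b.T.h_conj _ _).trans (congrArg b.u (md_dg γ _ a).symm)
      h_d := fun p => b.T.h_d (mdD P γ p)
      n_h := fun p => (b.T.n_h _).trans (congrArg b.T.h (md_sn γ p)) }
  m := b.m
  m_sq := b.m_sq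
  m_conj a ha := (b.m_conj _ ((md_mem γ a).2.1.2 ha)).trans (congrArg b.u (md_rp γ a).symm)
  m_h p := (b.m_h _).trans (congrArg b.T.h (md_sp γ p))
  rank1 t := by
    have e : ∀ s : K, fld P γ (x1 s) = x1 (γ s) := fun s => by ext <;> simp [fld_apply]
    have := b.rank1 (Units.map (γ : K →* K) t)
    change b.m * b.u (fld P γ _) * b.m = b.u (fld P γ _) * b.T.h (mdU γ _) * b.m * b.u (fld P γ _)
    rw [e, e]
    rw [← map_inv, ← map_pow] at this
    exact this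

theorem md_aut [Finite X] (M : RM R X) (γ : RingAut K) :
    ∃ φ : MulAut X, (∀ (k : ℕ) a, (φ ^ k) (M.u a) = M.u ((fld P γ ^ k) a)) ∧ ¬ 2 ∣ orderOf φ := by
  obtain ⟨Φ, hu, hh, hn, hm⟩ := M.exists_hom (mdB M.toBM γ) M.rel
  have hu' : ∀ a, Φ (M.u a) = M.u (fld P γ a) := hu
  have hh' : ∀ p, Φ (M.T.h p) = M.T.h (mdU γ p) := hh
  have hn' : Φ M.n = M.n := hn
  have hm' : Φ M.m = M.m := hm
  have gen : ∀ A : Subgroup X, (∀ a, M.u a ∈ A) → (∀ p, M.T.h p ∈ A) → M.n ∈ A → M.m ∈ A → ∀ x, x ∈ A :=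
    fun A h1 h2 h3 h4 x => (sup_le (sup_le (by rintro _ ⟨a, rfl⟩; exact h1 a) (by rintro _ ⟨a, rfl⟩; exact h2 a))
      ((Subgroup.closure_le _).2 (by rintro _ (rfl | rfl); exacts [h3, h4])) : M.grp ≤ A) (M.gen.ge (Subgroup.mem_top x))
  have sur : Function.Surjective Φ := gen Φ.range
    (fun a => ⟨M.u ((fld P γ).symm a), by rw [hu', MulEquiv.apply_symm_apply]⟩)
    (fun p => ⟨M.T.h (mdU γ⁻¹ p), by rw [hh', ← mdU_mul, mul_inv_cancel, mdU_one]⟩) ⟨_, hn'⟩ ⟨_, hm'⟩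
  let φ : MulAut X := MulEquiv.ofBijective Φ (Finite.surjective_iff_bijective.1 sur)
  have hφ : ∀ (k : ℕ) x, (φ ^ (k + 1)) x = Φ ((φ ^ k) x) := fun k x => by rw [pow_succ']; rfl
  have k1 : ∀ (k : ℕ) a, (φ ^ k) (M.u a) = M.u ((fld P γ ^ k) a) := fun k a => by
    induction k with
    | zero => rfl
    | succ k ih => rw [hφ, ih, hu', pow_succ']; rfl
  have k2 : ∀ (k : ℕ) p, (φ ^ k) (M.T.h p) = M.T.h (mdU (γ ^ k) p) := fun k p => by
    induction k with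
    | zero => rfl
    | succ k ih => rw [hφ, ih, hh', pow_succ', mdU_mul]
  have k3 : ∀ x, Φ x = x → ∀ k : ℕ, (φ ^ k) x = x := fun x hx k => by
    induction k with
    | zero => rfl
    | succ k ih => rw [hφ, ih, hx]
  refine ⟨φ, k1, fun h => md_odd P γ (h.trans (orderOf_dvd_of_pow_eq_one (MulEquiv.ext fun x => ?_)))⟩
  refine gen ((φ ^ orderOf γ).toMonoidHom.eqLocus (MonoidHom.id X)) (fun a => ?_) (fun p => ?_) (k3 _ hn' _) (k3 _ hm' _) x
  · exact (k1 _ a).trans (by rw [← map_pow, pow_orderOf_eq_one, map_one]; rfl)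
  · exact (k2 _ p).trans (by rw [pow_orderOf_eq_one]; rfl)

theorem md_borel (M : RM R X) {x : X} {β : MulAut (UO P)} (h : ∀ a, M.u (β a) = x * M.u a * x⁻¹) :
    ∃ s p, β = MulAut.conj s * dg P p := by
  obtain ⟨t, ht⟩ := mem_Zs_iff_x4.1 ((aut_mem β (x4 1)).1.2 (by simp))
  have t0 : t ≠ 0 := fun e => by
    have : β (x4 1) = 1 := by rw [ht, e]; rfl
    simpa using congrArg UO.a4 ((map_eq_one_iff _ β.injective).1 this)
  obtain ⟨p, hp, -⟩ := exists_c46 P t0 one_ne_zero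
  have hx : ∀ a, M.T.h p⁻¹ * x * M.u a * (M.T.h p⁻¹ * x)⁻¹ = M.u (dg P p⁻¹ (β a)) := fun a => by
    rw [← M.T.h_conj, h]; group
  have hC : M.T.h p⁻¹ * x ∈ M.C := by
    rw [← M.centralizer_eq one_ne_zero, Subgroup.mem_centralizer_singleton_iff, ← mul_inv_eq_iff_eq_mul, hx, ht,
      show (x4 t : UO P) = dg P p (x4 1) by ext <;> simp [hp], map_inv]
    exact congrArg M.u ((dg P p).symm_apply_apply _)
  have hN := M.normalizer_im (A := ⊤) _ hx ((dg P p⁻¹).surjective.comp β.surjective) (by simp)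
  rw [CM.im, ← MonoidHom.range_eq_map] at hN
  obtain ⟨s, q, e⟩ := M.mem_B0_iff.1 (M.mem_B0_of_normalizer_S hC hN)
  refine ⟨dg P p s, p * q, MulEquiv.ext fun a => ?_⟩
  have e1 : dg P p⁻¹ (β a) = s * dg P q a * s⁻¹ := M.u_inj (by
    rw [← hx, e, map_mul, map_mul, map_inv, ← M.d_conj]; group)
  have e2 := congrArg (dg P p) e1
  rw [map_inv (dg P)] at e2
  rw [(dg P p).apply_symm_apply (β a) |>.symm.trans e2]
  simp

end

theorem exists_ext.{v} {R : Rk P} {X : Type v} [Group X] [Finite X] (M : RM R X) (γ : RingAut K) :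
    ∃ (G : Type v) (_ : Group G) (_ : Finite G) (ι : UO P →* G), Function.Injective ι ∧ ¬ 2 ∣ ι.range.index ∧
      (∀ α : MulAut (UO P), (∃ g : G, ∀ x, ι (α x) = g * ι x * g⁻¹) ↔
        ∃ (s : UO P) (p : Kˣ × Kˣ) (k : ℕ), α = MulAut.conj s * dg P p * fld P γ ^ k) ∧
      (∃ g : G, ∀ x ∈ Qp P, ι (rp x) = g * ι x * g⁻¹) ∧ ∃ g : G, ∀ x ∈ Qs P, ι (rn x) = g * ι x * g⁻¹ := by
  obtain ⟨φ, hφ, ho⟩ := md_aut M γ
  let G := X ⋊[(Subgroup.zpowers φ).subtype] Subgroup.zpowers φ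
  let i : X →* G := SemidirectProduct.inl
  have hi : Function.Injective i := SemidirectProduct.inl_injective
  have cj : ∀ (y : X) (ψ : Subgroup.zpowers φ) (k : ℕ), ψ.1 = φ ^ k → ∀ a,
      i y * SemidirectProduct.inr ψ * i (M.u a) * (i y * SemidirectProduct.inr ψ)⁻¹ =
        i (y * M.u ((fld P γ ^ k) a) * y⁻¹) := fun y ψ k e a => by
    rw [← hφ, ← e, map_mul, map_mul, map_inv]
    have := SemidirectProduct.inl_aut (φ := (Subgroup.zpowers φ).subtype) ψ (M.u a)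
    rw [map_inv] at this
    rw [show i (ψ.1 (M.u a)) = _ * i _ * _ from this, mul_inv_rev]
    simp only [mul_assoc]
  refine ⟨G, inferInstance, Finite.of_equiv _ SemidirectProduct.equivProd.symm, i.comp M.u, hi.comp M.u_inj, ?_,
    fun α => ⟨?_, ?_⟩, ⟨i M.m, fun x hx => ?_⟩, i M.n, fun x hx => ?_⟩
  · rw [MonoidHom.range_comp, Subgroup.index_map_of_injective _ hi, SemidirectProduct.range_inl_eq_ker_rightHom,
      Subgroup.index_ker, MonoidHom.range_eq_top.2 SemidirectProduct.rightHom_surjective, Subgroup.card_top,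
      Nat.card_zpowers, Nat.prime_two.dvd_mul]
    exact fun h => h.elim M.syl ho
  · rintro ⟨g, hg⟩
    obtain ⟨k, hk⟩ := (isOfFinOrder_of_finite φ).mem_powers_iff_mem_zpowers.2 g.right.2
    obtain ⟨s, p, e⟩ := md_borel M (x := g.left) (β := α * (fld P γ ^ k)⁻¹) fun a => hi (by
      obtain ⟨a, rfl⟩ := (fld P γ ^ k).surjective a
      rw [← cj g.left g.right k hk.symm, SemidirectProduct.inl_left_mul_inr_right]
      exact (congrArg (fun z => i (M.u (α z))) ((fld P γ ^ k).symm_apply_apply a)).trans (hg a))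
    exact ⟨s, p, k, by rw [← e, inv_mul_cancel_right]⟩
  · rintro ⟨s, p, k, rfl⟩
    refine ⟨_, fun x => Eq.trans (congrArg i ?_) (cj (M.u s * M.T.h p) ⟨φ ^ k, Subgroup.npow_mem_zpowers φ k⟩ k rfl x).symm⟩
    change M.u (s * dg P p ((fld P γ ^ k) x) * s⁻¹) = _
    rw [map_mul, map_mul, map_inv, ← M.T.h_conj]; group
  · change i _ = _ * i _ * _
    rw [← M.m_conj x hx, ← map_inv, inv_eq_of_mul_eq_one_right M.m_sq, map_mul, map_mul]
  · change i _ = _ * i _ * _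
    rw [← M.n_conj x hx, ← map_inv, M.n_inv, map_mul, map_mul]

end CL.FZ
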