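/-
Fusion systems on a Sylow 2-subgroup of a large Ree group: split pairs of rank one.
-/
import Cfsg.Agent.FZ.Defs2

set_option autoImplicit false
set_option linter.unusedSectionVars false
set_option linter.unusedVariables false

namespace CL.FZ

open CL.Oct CL.Oct.UO Cfsg CL.Fus
open scoped commutatorElement Pointwise

/-- a `2`-subgroup between `T` and `A` is `T` when `T` has odd index -/
theorem BN_le_of_two {Γ : Type*} [Group Γ] [Finite Γ] {A T O : Subgroup Γ} (syl : ¬ 2 ∣ T.relIndex A) (h1 : T ≤ O)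
    (h2 : O ≤ A) (hO : IsPGroup 2 O) : O ≤ T := by
  haveI : Fact (Nat.Prime 2) := ⟨Nat.prime_two⟩
  obtain ⟨k, hk⟩ := hO.index (T.subgroupOf O)
  have e := Subgroup.relIndex_mul_relIndex T O A h1 h2
  rcases k with _ | k
  · exact Subgroup.relIndex_eq_one.1 hk
  · exact absurd (e ▸ Dvd.dvd.mul_right (show 2 ∣ (T.subgroupOf O).index from hk ▸ dvd_pow_self 2 k.succ_ne_zero) _) syl

/-- some `2`-power of an element has odd order -/
theorem BN_odd_pow {Γ : Type*} [Group Γ] [Finite Γ] (x : Γ) : ∃ e : ℕ, ∀ c : ℕ, Odd (orderOf ((x ^ 2 ^ e) ^ c)) := by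
  obtain ⟨e, m, hm, h⟩ := Nat.exists_eq_two_pow_mul_odd (orderOf_pos x).ne'
  refine ⟨e, fun c => hm.of_dvd_nat (orderOf_dvd_of_pow_eq_one ?_)⟩
  rw [← pow_mul, mul_comm c m, pow_mul, ← pow_mul x, ← h, pow_orderOf_eq_one, one_pow]

theorem BN_inv_pow {Γ : Type*} [Group Γ] {s u : Γ} (hs : s * s = 1) (hu : u * u = 1) (k : ℕ) :
    s * (u * s) ^ k = ((u * s) ^ k)⁻¹ * s := by
  have e : s * (u * s) * s⁻¹ = (u * s)⁻¹ := by
    rw [mul_inv_rev, ← eq_inv_of_mul_eq_one_left hs, ← eq_inv_of_mul_eq_one_left hu, mul_assoc, mul_assoc, hs, mul_one]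
  rw [← inv_pow, ← e, conj_pow, inv_mul_cancel_right]

namespace Pts
variable {Γ X : Type*} [Group Γ] [Finite Γ] [MulAction Γ X] {A T I C : Subgroup Γ} {p0 p1 : X} (h : Pts A T I p0 p1)
include h

theorem BN_conj {a i : Γ} (ha : a ∈ A) (hi : i ∈ I) : a * i * a⁻¹ ∈ I :=
  (Subgroup.mem_normalizer_iff.1 (h.nI ha) i).1 hi

theorem BN_fixI {a i : Γ} (ha : a ∈ A) (hi : i ∈ I) : i • a • p0 = a • p0 := by
  have := h.fix _ (h.leI (h.BN_conj (inv_mem ha) hi))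
  rwa [inv_inv, mul_smul, mul_smul, inv_smul_eq_iff] at this

theorem BN_F {a s : Γ} (ha : a ∈ A) (hs : s ∈ T) (hI : s ∉ I) (e : s • a • p0 = a • p0) : a • p0 = p0 := by
  refine (h.dich a ha).resolve_right ?_
  rintro ⟨t, ht, e1⟩
  have : t * s * t⁻¹ ∈ I := (h.stab _ (mul_mem (mul_mem ht hs) (inv_mem ht))).1 (by
    rw [← e1, mul_smul, mul_smul, mul_smul, inv_smul_smul, e])
  exact hI (by simpa [mul_assoc] using h.BN_conj (inv_mem (h.le ht)) this)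

theorem BN_F' {a b t : Γ} (ha : a ∈ A) (e0 : a • p0 = p1) (hb : b ∈ A) (ht : t ∈ T) (hI : t ∉ I)
    (e : (a * t * a⁻¹) • b • p0 = b • p0) : b • p0 = p1 := by
  have := h.BN_F (mul_mem (inv_mem ha) hb) ht hI (by
    rw [mul_smul, eq_inv_smul_iff, ← mul_smul, ← mul_smul, e])
  rwa [mul_smul, inv_smul_eq_iff, e0] at this

theorem BN_ex : ∃ a ∈ A, a • p0 = p1 := by
  obtain ⟨m, hm, e⟩ := h.mv
  obtain ⟨t, ht, e1⟩ := (h.dich m hm).resolve_left e
  exact ⟨_, mul_mem (h.le ht) hm, e1⟩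

theorem BN_mem {z : Γ} (hz : z ∈ A) (z2 : z * z ∈ I) (e0 : z • p0 = p0) (e1 : z • p1 = p1) : z ∈ I := by
  refine (h.stab z ?_).1 e1
  obtain ⟨k, hk⟩ := h.two ⟨_, h.leI z2⟩
  have hk' : z ^ 2 ^ (k + 1) = 1 := by
    rw [pow_succ', pow_mul, pow_two]
    exact congrArg Subtype.val hk
  have hZ : IsPGroup 2 (Subgroup.zpowers z) := by
    rintro ⟨_, n, rfl⟩
    refine ⟨k + 1, Subtype.ext ?_⟩
    show (z ^ n) ^ 2 ^ (k + 1) = 1
    rw [← zpow_natCast, ← zpow_mul, mul_comm, zpow_mul, zpow_natCast, hk', one_zpow]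
  exact BN_le_of_two h.syl le_sup_left (sup_le h.le ((Subgroup.zpowers_le).2 hz))
    (h.two.to_sup_of_normal_left' hZ ((Subgroup.zpowers_le).2 (h.norm z hz e0)))
    (Subgroup.mem_sup_right (Subgroup.mem_zpowers z))

theorem BN_core {a s t : Γ} (ha : a ∈ A) (e0 : a • p0 = p1) (hs : s ∈ T) (ht : t ∈ T) (hsI : s ∉ I) (htI : t ∉ I)
    (hs2 : s * s ∈ I) (ht2 : t * t ∈ I) : ∃ k : ℕ, Odd (orderOf ((a * t * a⁻¹ * s) ^ k)) ∧
      (a * t * a⁻¹ * s) ^ k • p0 = p1 ∧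
      ((a * t * a⁻¹ * s) ^ k * s * ((a * t * a⁻¹ * s) ^ k)⁻¹)⁻¹ * (a * t * a⁻¹) ∈ I := by
  have uA : a * t * a⁻¹ ∈ A := mul_mem (mul_mem ha (h.le ht)) (inv_mem ha)
  have u2 : a * t * a⁻¹ * (a * t * a⁻¹) ∈ I := by simpa [mul_assoc] using h.BN_conj ha ht2
  have u1 : (a * t * a⁻¹) • p1 = p1 := by rw [← e0, mul_smul, mul_smul, inv_smul_smul, h.fix t ht]
  have uF := fun b hb => h.BN_F' (b := b) ha e0 hb ht htI
  generalize a * t * a⁻¹ = u at uA u2 u1 uF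
  haveI hN : (I.subgroupOf A).Normal := ⟨fun i hi b => h.BN_conj b.2 hi⟩
  let π : A →* A ⧸ I.subgroupOf A := QuotientGroup.mk' _
  have eq : ∀ x y : A, π x = π y ↔ (x : Γ)⁻¹ * y ∈ I := fun x y => QuotientGroup.eq
  have one : ∀ x : A, π x = 1 ↔ (x : Γ) ∈ I := fun x => QuotientGroup.eq_one_iff x
  let S : A := ⟨s, h.le hs⟩
  let U : A := ⟨u, uA⟩
  have S2 : π S * π S = 1 := by rw [← map_mul, one]; exact hs2
  have U2 : π U * π U = 1 := by rw [← map_mul, one]; exact u2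
  have iS := BN_inv_pow S2 U2
  have odd : Odd (orderOf (π U * π S)) := by
    rw [← Nat.not_even_iff_odd]
    rintro ⟨m, hm⟩
    have pos := orderOf_pos (π U * π S)
    have z2 : (π U * π S) ^ m * (π U * π S) ^ m = 1 := by rw [← pow_add, ← hm, pow_orderOf_eq_one]
    have zi : ((π U * π S) ^ m)⁻¹ = (π U * π S) ^ m := (eq_inv_of_mul_eq_one_left z2).symm
    have c1 : π S * (π U * π S) ^ m = (π U * π S) ^ m * π S := by rw [iS, zi]
    have c2 : π U * (π U * π S) ^ m = (π U * π S) ^ m * π U := by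
      have e : π U = π U * π S * π S := by rw [mul_assoc, S2, mul_one]
      calc π U * (π U * π S) ^ m = π U * π S * (π S * (π U * π S) ^ m) := by rw [← mul_assoc, ← e]
        _ = (π U * π S) ^ m * (π U * π S * π S) := by
          rw [c1, ← mul_assoc, ← pow_succ', pow_succ, mul_assoc]
        _ = _ := by rw [← e]
    rw [← map_mul, ← map_pow] at c1 c2 z2
    rw [← map_mul, ← map_mul, eq_comm, eq] at c1 c2
    rw [← map_mul, one] at z2
    set z := (U * S) ^ m with hz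
    have key : ∀ (w : A) (b : Γ), b ∈ A → ((z * w : A) : Γ)⁻¹ * (w * z : A) ∈ I → (w : Γ) • b • p0 = b • p0 →
        (w : Γ) • (z * b) • p0 = (z * b : Γ) • p0 := fun w b hb hi e => by
      have := h.BN_fixI hb hi
      rw [mul_smul, inv_smul_eq_iff, Subgroup.coe_mul, Subgroup.coe_mul, mul_smul, mul_smul, e] at this
      rw [mul_smul, this]
    have f0 := h.BN_F (mul_mem z.2 (one_mem _)) hs hsI (key S 1 (one_mem _) c1 (by rw [one_smul]; exact h.fix s hs))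
    have f1 := uF _ (mul_mem z.2 ha) (key U a ha c2 (by rw [e0]; exact u1))
    rw [mul_one] at f0
    rw [mul_smul, e0] at f1
    have := (one z).2 (h.BN_mem z.2 z2 f0 f1)
    rw [hz, map_pow, map_mul] at this
    exact absurd (Nat.le_of_dvd (by omega) (orderOf_dvd_of_pow_eq_one this)) (by omega)
  obtain ⟨e, he⟩ := BN_odd_pow (u * s)
  obtain ⟨c, hc⟩ := exists_pow_eq_self_of_coprime (x := π U * π S) (n := 2 ^ (e + 1))
    ((Nat.coprime_two_left.2 odd).pow_left _)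
  have e1 : π ((U * S) ^ (2 ^ e * c) * S * ((U * S) ^ (2 ^ e * c))⁻¹) = π U := by
    rw [map_mul, map_mul, map_inv, map_pow, map_mul, mul_assoc, mul_inv_eq_iff_eq_mul.2 (show π S = _ * π S * _ from ?_)]
    · rw [← mul_assoc, ← pow_add, show 2 ^ e * c + 2 ^ e * c = 2 ^ (e + 1) * c by ring, pow_mul, hc, mul_assoc, S2,
        mul_one]
    · rw [mul_assoc, iS, mul_inv_cancel_left]
  have e2 : ((u * s) ^ (2 ^ e * c) * s * ((u * s) ^ (2 ^ e * c))⁻¹)⁻¹ * u ∈ I := by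
    simpa [S, U] using (eq _ _).1 e1
  refine ⟨2 ^ e * c, by rw [pow_mul]; exact he c, ?_, e2⟩
  have gA : (u * s) ^ (2 ^ e * c) ∈ A := pow_mem (mul_mem uA (h.le hs)) _
  refine uF _ gA ?_
  have := h.BN_fixI gA e2
  rwa [mul_smul, inv_smul_eq_iff, mul_smul, mul_smul, inv_smul_smul, h.fix s hs] at this

theorem swap (hC : T ≤ C) (hCA : C ≤ A) (hn : A ≤ Subgroup.normalizer (C : Set Γ)) {s : Γ} (hs : s ∈ T) (hI : s ∉ I)
    (h2 : s * s = 1) : ∃ n ∈ C, n * n = 1 ∧ n • p0 = p1 ∧ n • p1 = p0 ∧ Odd (orderOf (n * s)) := by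
  obtain ⟨a, ha, e0⟩ := h.BN_ex
  obtain ⟨k, k1, k2, -⟩ := h.BN_core ha e0 hs hs hI hI (h2 ▸ one_mem _) (h2 ▸ one_mem _)
  have uC : a * s * a⁻¹ ∈ C := (Subgroup.mem_normalizer_iff.1 (hn ha) s).1 (hC hs)
  have n2 : (a * s * a⁻¹ * s) ^ k * s * ((a * s * a⁻¹ * s) ^ k * s) = 1 := by
    rw [mul_assoc, ← mul_assoc s, BN_inv_pow h2 (by rw [conj_mul, h2]; group), mul_assoc _ s s, h2, mul_one,
      mul_inv_cancel]
  have n0 : ((a * s * a⁻¹ * s) ^ k * s) • p0 = p1 := by rw [mul_smul, h.fix s hs, k2]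
  refine ⟨_, mul_mem (pow_mem (mul_mem uC (hC hs)) k) (hC hs), n2, n0, ?_, by rwa [mul_assoc, h2, mul_one]⟩
  rw [← n0, ← mul_smul, n2, one_smul]

theorem trans (hC : T ≤ C) (hCA : C ≤ A) (hn : A ≤ Subgroup.normalizer (C : Set Γ)) {s t : Γ} (hs : s ∈ T) (ht : t ∈ T)
    (hsI : s ∉ I) (htI : t ∉ I) (hs2 : s * s ∈ I) (ht2 : t * t ∈ I) (hsc : ∀ x ∈ T, ⁅s, x⁆ ∈ I) (htc : ∀ x ∈ T, ⁅t, x⁆ ∈ I) :
    ∃ g ∈ C, g • p0 = p0 ∧ (g * s * g⁻¹)⁻¹ * t ∈ I := by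
  obtain ⟨a, ha, e0⟩ := h.BN_ex
  obtain ⟨k, -, k2, k3⟩ := h.BN_core ha e0 hs ht hsI htI hs2 ht2
  obtain ⟨l, -, l2, l3⟩ := h.BN_core ha e0 ht ht htI htI ht2 ht2
  have uC : a * t * a⁻¹ ∈ C := (Subgroup.mem_normalizer_iff.1 (hn ha) t).1 (hC ht)
  have g1 := pow_mem (mul_mem uC (hC hs)) k
  have g2 := pow_mem (mul_mem uC (hC ht)) l
  generalize (a * t * a⁻¹ * s) ^ k = x at k2 k3 g1
  generalize (a * t * a⁻¹ * t) ^ l = y at l2 l3 g2
  refine ⟨y⁻¹ * x, mul_mem (inv_mem g2) g1, by rw [mul_smul, k2, inv_smul_eq_iff, l2], ?_⟩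
  have := h.BN_conj (inv_mem (hCA g2)) (mul_mem k3 (inv_mem l3))
  rwa [show y⁻¹ * ((x * s * x⁻¹)⁻¹ * (a * t * a⁻¹) * ((y * t * y⁻¹)⁻¹ * (a * t * a⁻¹))⁻¹) * y⁻¹⁻¹ =
    (y⁻¹ * x * s * (y⁻¹ * x)⁻¹)⁻¹ * t by group] at this

theorem index (hB : ∀ a ∈ A, a • p0 = p0 → a ∈ T) : T.relIndex A = 1 + I.relIndex T := by
  have e1 : T.subgroupOf A = MulAction.stabilizer A p0 :=
    Subgroup.ext fun a => ⟨fun ha => h.fix a ha, fun ha => hB a a.2 ha⟩
  have e2 : I.subgroupOf T = MulAction.stabilizer T p1 := Subgroup.ext fun t => (h.stab t t.2).symm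
  have e3 : MulAction.orbit A p0 = insert p0 (MulAction.orbit T p1) := by
    obtain ⟨a, ha, e0⟩ := h.BN_ex
    ext x
    constructor
    · rintro ⟨b, rfl⟩
      rcases h.dich b b.2 with e | ⟨t, ht, e⟩
      · exact Or.inl e
      · refine Or.inr ⟨⟨t⁻¹, inv_mem ht⟩, ?_⟩
        show t⁻¹ • p1 = (b : Γ) • p0
        rw [← e, mul_smul, inv_smul_smul]
    · rintro (rfl | ⟨t, rfl⟩)
      · exact MulAction.mem_orbit_self _
      · refine ⟨⟨t * a, mul_mem (h.le t.2) ha⟩, ?_⟩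
        show ((t : Γ) * a) • p0 = (t : Γ) • p1
        rw [mul_smul, e0]
  rw [Subgroup.relIndex, Subgroup.relIndex, e1, e2, MulAction.index_stabilizer, MulAction.index_stabilizer, e3,
    Set.ncard_insert_of_notMem (s := MulAction.orbit T p1) _ (Set.finite_range _), add_comm]
  rintro ⟨t, e⟩
  have e' : (t : Γ) • p1 = p0 := e
  exact h.ne (by rw [← h.fix _ (inv_mem t.2), inv_smul_eq_iff, e'])

theorem gen {m a : Γ} (hm : m ∈ A) (hm0 : m • p0 ≠ p0) (ha : a ∈ A) :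
    a • p0 = p0 ∨ ∃ t ∈ T, ∃ b ∈ A, b • p0 = p0 ∧ a = t * m * b := by
  refine (h.dich a ha).imp_right ?_
  rintro ⟨t, ht, e⟩
  obtain ⟨u, hu, e1⟩ := (h.dich m hm).resolve_left hm0
  refine ⟨t⁻¹ * u, mul_mem (inv_mem ht) hu, (u * m)⁻¹ * (t * a),
    mul_mem (inv_mem (mul_mem (h.le hu) hm)) (mul_mem (h.le ht) ha), ?_, by group⟩
  rw [mul_smul, e, inv_smul_eq_iff, e1]

end Pts

/-- the stabilizer of an invariant chain which is stabilized by a Sylow 2-subgroup -/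
theorem norm_of_chain {Q : Type*} [Group Q] [Finite Q] (hQ : IsPGroup 2 Q) {A T : Subgroup (MulAut Q)} (hT : T ≤ A)
    (syl : ¬ 2 ∣ T.relIndex A) (n : ℕ) (C : ℕ → Subgroup Q) (h0 : C 0 = ⊥) (hn : C n = ⊤)
    (hc : ∀ t ∈ T, ∀ i < n, ∀ x ∈ C (i + 1), x⁻¹ * t x ∈ C i) (hm : ∀ i < n, C i ≤ C (i + 1))
    {a : MulAut Q} (ha : a ∈ A) (hi : ∀ i, ∀ x, a x ∈ C i ↔ x ∈ C i) : a ∈ Subgroup.normalizer (T : Set (MulAut Q)) := by
  haveI : Fact (Nat.Prime 2) := ⟨Nat.prime_two⟩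
  have st : ∀ b : MulAut Q, (∀ i < n, ∀ x ∈ C (i + 1), x⁻¹ * b x ∈ C i) → ∀ i < n, ∀ x ∈ C (i + 1), b x ∈ C (i + 1) :=
    fun b hb i hi x hx => by simpa using mul_mem hx (hm i hi (hb i hi x hx))
  let M : Submonoid (MulAut Q) :=
    { carrier := {b | b ∈ A ∧ ∀ i < n, ∀ x ∈ C (i + 1), x⁻¹ * b x ∈ C i}
      one_mem' := ⟨one_mem _, fun i _ x _ => by simp⟩
      mul_mem' := fun {b c} hb hc => ⟨mul_mem hb.1 hc.1, fun i hi x hx => by
        simpa [mul_assoc] using mul_mem (hc.2 i hi x hx) (hb.2 i hi _ (st c hc.2 i hi x hx))⟩ }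
  let O : Subgroup (MulAut Q) :=
    { M with
      inv_mem' := fun {b} hb => by
        have := M.pow_mem hb (orderOf b - 1)
        rwa [eq_inv_of_mul_eq_one_left (show b ^ (orderOf b - 1) * b = 1 by
          rw [← pow_succ, Nat.sub_add_cancel (orderOf_pos b), pow_orderOf_eq_one])] at this }
  have hO : IsPGroup 2 O := fun b => by
    obtain ⟨e, he⟩ := BN_odd_pow (b : MulAut Q)
    have m := (O.pow_mem b.2 (2 ^ e)).2
    refine ⟨e, Subtype.ext (mulAut_eq_one_of_chain_frattini hQ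
      (Nat.coprime_two_right.2 (by simpa using he 1)) n C (fun i hi x hx => ?_) (h0 ▸ bot_le)
      (fun x => hn ▸ Subgroup.mem_top _) m)⟩
    rcases i with _ | i
    · rw [h0, Subgroup.mem_bot] at hx ⊢
      rw [hx, map_one]
    · exact st _ m i (by omega) x hx
  have le := BN_le_of_two syl (O := O) (fun t ht => ⟨hT ht, hc t ht⟩) (fun b hb => hb.1) hO
  refine Subgroup.mem_normalizer_fintype fun t ht => le ⟨mul_mem (mul_mem ha (hT ht)) (inv_mem ha), fun i h x hx => ?_⟩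
  have := (hi i _).2 (hc t ht i h (a⁻¹ x) ((hi _ _).1 (by simpa using hx)))
  simpa using this

end CL.FZ
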