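/-
Project FZ: the automizer of `Qp` acts on the lines of `Vs` as a split pair of rank one.
-/
import Cfsg.Agent.FZ.CH
import Cfsg.Agent.FZ.BN
import Cfsg.Agent.FZ.CN

set_option autoImplicit false
set_option linter.unusedSectionVars false
set_option linter.unusedVariables false
set_option linter.unusedSimpArgs false
set_option maxRecDepth 20000

namespace CL.FZ

open CL.Oct CL.Oct.UO Cfsg CL.Fus
open scoped commutatorElement Pointwise

variable {K : Type*} [Field K] [CharP K 2] [Finite K] {P : Par K}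

section
variable {U : Type*} [Group U] {Q R X Y W : Subgroup U}

/-- `a` preserves the trace of `X` -/
def P1Pr (a : MulAut Q) (X : Subgroup U) : Prop := ∀ x : Q, (a x : U) ∈ X ↔ (x : U) ∈ X

theorem p1_br (a : MulAut Q) (x y : Q) : (a ⁅x, y⁆ : U) = ⁅(a x : U), (a y : U)⁆ := by
  rw [map_commutatorElement]; rfl

theorem p1_cz {a : MulAut Q} (hY : P1Pr a Y) (hX : P1Pr a X) (hW : P1Pr a W) (hQ : X ≤ Q)
    (hR : ∀ y ∈ Q, y ∈ R ↔ y ∈ Y ∧ ∀ x ∈ X, ⁅x, y⁆ ∈ W) : P1Pr a R := fun y => by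
  rw [hR _ (a y).2, hR _ y.2, hY]
  refine and_congr_right fun _ => ⟨fun h x hx => (hW ⁅(⟨x, hQ hx⟩ : Q), y⁆).1 ?_, fun h x hx => ?_⟩
  · rw [p1_br]
    exact h _ ((hX ⟨x, hQ hx⟩).2 hx)
  · obtain ⟨x', e⟩ := a.surjective ⟨x, hQ hx⟩
    have e' : (a x' : U) = x := congrArg Subtype.val e
    rw [← e', ← p1_br]
    exact (hW _).2 (h _ ((hX x').1 (e' ▸ hx)))

end

/-- the chain -/
def p1C (P : Par K) : ℕ → Subgroup (UO P)
  | 0 => ⊥
  | 1 => Zs P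
  | 2 => Vs P
  | 3 => Z3 P
  | 4 => Z4 P
  | 5 => Z5 P
  | 6 => Z6 P
  | 7 => Ph P
  | _ + 8 => ⊤

theorem p1_step (i : ℕ) (hi : i < 8) (x : UO P) (hx : x ∈ p1C P (i + 1)) (s : UO P) : ⁅x, s⁆ ∈ p1C P i := by
  interval_cases i
  exacts [c_Zs hx s, c_Vs hx s, c_Z3 hx s, c_Z4 hx s, c_Z5 hx s, c_Z6 hx s, c_Ph hx s, c_top x s]

theorem p1_mono (i : ℕ) (hi : i < 8) : p1C P i ≤ p1C P (i + 1) := by
  interval_cases i
  · exact bot_le
  all_goals exact fun _ h => by simp_all [p1C]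

theorem p1_pr {a : MulAut (Qp P)} (hZ : P1Pr a (Zs P)) (i : ℕ) : P1Pr a (p1C P i) := by
  have hT : P1Pr a ⊤ := fun _ => Iff.rfl
  have hV : P1Pr a (Vs P) := fun x => (aut_Qp_mem a x).1
  have h3 : P1Pr a (Z3 P) := fun x => (aut_Qp_mem a x).2.1
  have hC : P1Pr a (C3 P) := fun x => (aut_Qp_mem a x).2.2.1
  have hR : P1Pr a (R5 P) := fun x => (aut_Qp_mem a x).2.2.2
  have h7 : P1Pr a (Ph P) := p1_cz hT h3 hZ (fun _ h => h.1) fun y hy =>
    ⟨fun h => ⟨trivial, fun v hv => c_Z3_Js hv h.2⟩, fun h => ⟨hy, mem_Js_iff.2 fun v hv => comm_symm (h.2 v hv)⟩⟩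
  have h4 : P1Pr a (Z4 P) := p1_cz hR h7 hV (fun _ h => h.1) fun y hy =>
    ⟨fun h => ⟨by simp_all, fun g hg => comm_symm (c_Z4_Js h hg.2)⟩, fun h => by
      have k := (comm_symm (h.2 (y2 1) (by simp))).2.2.2.2.2.1
      rw [k_R5_Qp h.1 (by simp)] at k
      have := h.1
      simp_all⟩
  have h6 : P1Pr a (Z6 P) := p1_cz hC h4 hZ (fun _ h => h.1) fun y hy =>
    ⟨fun h => ⟨by simp_all, fun x hx => by rw [k_Ws_Qs (by simp_all) h.2.2]; simp⟩, fun h => by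
      have k := (h.2 (x3 1) (by simp)).2.2.2.2.2.2.2.1
      rw [k_Z4_Js (by simp) h.1.2.2, x3_a3, one_mul] at k
      exact ⟨h.1.1, h.1.2.1, h.1.2.2, k⟩⟩
  have h5 : P1Pr a (Z5 P) := p1_cz h6 h6 hV (fun _ h => h.1) fun y hy =>
    ⟨fun h => ⟨by simp_all, fun g hg => comm_symm (c_Z5_Z6 h hg)⟩, fun h => by
      have k := (h.2 (y4 1) (by simp)).2.2.2.2.2.1
      have k' := (h.2 (y6 1) (by simp)).2.2.2.2.2.1
      have h1 := h.1
      have c : y ∈ C3 P := ⟨h1.1, h1.2.1, h1.2.2.1⟩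
      rw [k_C3 (by simp) c] at k k'
      simp_all⟩
  match i with
  | 0 => exact fun x => by simp [p1C]
  | 1 => exact hZ
  | 2 => exact hV
  | 3 => exact h3
  | 4 => exact h4
  | 5 => exact h5
  | 6 => exact h6
  | 7 => exact h7
  | _ + 8 => exact hT

theorem p1_line (a : MulAut (Qp P)) : ∃ b d : K, (d = 0 → b ≠ 0) ∧
    ∀ x : Qp P, (x : UO P) ∈ Zs P ↔ ∃ c, (a x : UO P) = x4 (b * c) * x6 (d * c) := by
  let y : Qp P := ⟨y2 1, by simp⟩
  have k : ∀ g ∈ Qp P, ∀ v ∈ Z3 P, ⁅g, v⁆ = x4 (g.b2 * v.a5) * x6 (g.b8 * v.a5) := fun g hg v hv => by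
    rw [ua_comm hv, show g.a1 = 0 from hg, zero_mul, zero_mul, zero_mul, zero_add, add_zero]
  refine ⟨(a y : UO P).b2, (a y : UO P).b8, fun h8 h2 => ?_, fun x => ⟨fun hx => ?_, fun ⟨c, e⟩ => ?_⟩⟩
  · exact one_ne_zero ((aut_Qp_mem a y).2.2.1.1 ⟨(a y).2, h2, h8⟩).2.1
  · obtain ⟨t, e⟩ := mem_Zs_iff_x4.1 hx
    let v : Qp P := ⟨x5 t, by simp⟩
    have hv : (v : UO P) ∈ Z3 P := by simp [v]
    have : x = ⁅y, v⁆ := Subtype.ext (e.trans (Eq.trans (by ext <;> simp [y, v]) (k _ y.2 _ hv).symm))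
    exact ⟨_, by rw [this, p1_br, k _ (a y).2 _ ((aut_Qp_mem a v).2.1.2 hv)]⟩
  · obtain ⟨v, hv⟩ := a.surjective ⟨x5 c, by simp⟩
    have hv' : (a v : UO P) = x5 c := congrArg Subtype.val hv
    have h3 : (a v : UO P) ∈ Z3 P := by simp [hv']
    have : x = ⁅y, v⁆ := a.injective (Subtype.ext (by rw [p1_br, k _ (a y).2 _ h3, e, hv', x5_a5]))
    rw [this]
    exact (congrArg (· ∈ Zs P) (k _ y.2 _ ((aut_Qp_mem a v).2.1.1 h3))).mpr (by simp [y])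

theorem p1_cV {s v : UO P} (hs : s ∈ Qp P) (hv : v ∈ V6 P) : s * v * s⁻¹ = v := by
  rw [(mem_Qp_iff.1 hs v (by simp_all)).eq, mul_inv_cancel_right]

theorem p1_stab (s : UO P) : (MulAut.conjNormal s : MulAut (Qp P)) • (V6 P).subgroupOf (Qp P) =
    (V6 P).subgroupOf (Qp P) ↔ (MulAut.conjNormal s : MulAut (Qp P)) ∈ Inn (Qp P) := by
  rw [smul_subgroupOf_eq, mem_I]
  refine ⟨fun e => ⟨s, ?_, rfl⟩, fun ⟨s', hs', e⟩ x => ?_⟩
  · have := (e ⟨x4 0 * x6 1, by simp⟩).2 (by simp)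
    rw [res_conj s, MulAut.conj_apply, conj_v] at this
    simpa using this
  · rw [e, res_conj s' x, MulAut.conj_apply]
    refine ⟨fun k => ?_, fun k => by rwa [p1_cV hs' k]⟩
    have := p1_cV (inv_mem hs') k
    rw [inv_inv, ← mul_assoc, ← mul_assoc, inv_mul_cancel, one_mul, inv_mul_cancel_right] at this
    rwa [this]

theorem p1_V6 {b d : K} (hd : d ≠ 0) (w : UO P) :
    x1 (b / d) * w * (x1 (b / d))⁻¹ ∈ V6 P ↔ ∃ c, w = x4 (b * c) * x6 (d * c) := by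
  refine ⟨fun k => ?_, fun ⟨c, k⟩ => ?_⟩
  · have k0 : x1 (b / d) * w * (x1 (b / d))⁻¹ ∈ Vs P := (show V6 P ≤ Vs P from fun _ h => by simp_all) k
    rw [nVs.mem_comm_iff, inv_mul_cancel_left] at k0
    obtain ⟨u, v, rfl⟩ := mem_Vs_iff_v.1 k0
    rw [conj_v] at k
    have k2 := k.2.2.2.2.2.1
    refine ⟨v / d, ?_⟩
    rw [mul_div_cancel₀ _ hd]
    congr 2
    simp at k2
    grind
  · rw [k, conj_v, x1_a1, ← mul_assoc, div_mul_cancel₀ _ hd, CharTwo.add_self_eq_zero]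
    simp

theorem p1_dich (a : MulAut (Qp P)) : a • (Zs P).subgroupOf (Qp P) = (Zs P).subgroupOf (Qp P) ∨
    ∃ t ∈ autInducedBy ⊤ (Qp P), (t * a) • (Zs P).subgroupOf (Qp P) = (V6 P).subgroupOf (Qp P) := by
  obtain ⟨b, d, hb, e⟩ := p1_line a
  by_cases hd : d = 0
  · refine .inl (smul_subgroupOf_eq.2 fun x => ?_)
    rw [e x, mem_Zs_iff_x4, hd]
    exact ⟨fun ⟨t, k⟩ => ⟨t / b, by rw [k, mul_div_cancel₀ _ (hb hd)]; ext <;> simp⟩,
      fun ⟨c, k⟩ => ⟨b * c, by rw [k]; ext <;> simp⟩⟩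
  · refine .inr ⟨_, mem_T.2 ⟨x1 (b / d), rfl⟩, smul_subgroupOf_eq.2 fun x => ?_⟩
    rw [e x, MulAut.mul_apply, res_conj, MulAut.conj_apply, p1_V6 hd]

theorem p1_norm {A : Subgroup (MulAut (Qp P))} (le : autInducedBy ⊤ (Qp P) ≤ A)
    (syl : ¬ 2 ∣ (autInducedBy ⊤ (Qp P)).relIndex A) (a : MulAut (Qp P)) (ha : a ∈ A)
    (e : a • (Zs P).subgroupOf (Qp P) = (Zs P).subgroupOf (Qp P)) :
    a ∈ Subgroup.normalizer (autInducedBy ⊤ (Qp P) : Set (MulAut (Qp P))) := by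
  refine norm_of_chain ((isPGroup P).to_subgroup _) le syl 8 (fun i => (p1C P i).subgroupOf (Qp P))
    (Subgroup.bot_subgroupOf _) (Subgroup.top_subgroupOf _) (fun t ht i hi x hx => ?_)
    (fun i hi => Subgroup.subgroupOf_mono _ (p1_mono i hi)) ha (p1_pr (smul_subgroupOf_eq.1 e))
  obtain ⟨s, rfl⟩ := mem_T.1 ht
  have := p1_step i hi _ (inv_mem (Subgroup.mem_subgroupOf.1 hx)) s
  rw [commutatorElement_def, inv_inv, mul_assoc, mul_assoc, ← mul_assoc s] at this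
  rw [Subgroup.mem_subgroupOf, Subgroup.coe_mul, Subgroup.coe_inv, res_conj s x, MulAut.conj_apply]
  exact this

theorem Rk1.pts1 {A0 : Subgroup (MulAut (UO P))} {A : Subgroup (MulAut (Qp P))} (h : Rk1 (Qp P) A0 A) :
    Pts1 A := by
  have le : autInducedBy ⊤ (Qp P) ≤ A := fun t ht => by
    obtain ⟨s, rfl⟩ := mem_T.1 ht
    obtain ⟨a, ha, e⟩ := h.res _ (h.inn s)
    rwa [e.eq (res_conj s)] at ha
  refine ⟨le, Inn_le_autInducedBy le_top, by rw [Subgroup.normalizer_eq_top]; exact le_top,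
    isPGroup_autInducedBy ((isPGroup P).to_subgroup _) _, h.syl, fun e => ?_, fun t ht => ?_, fun t ht => ?_,
    fun a _ => p1_dich a, p1_norm le h.syl, ?_⟩
  · have : (⟨x4 1, by simp⟩ : Qp P) ∈ (Zs P).subgroupOf (Qp P) := by simp [Subgroup.mem_subgroupOf]
    rw [e, Subgroup.mem_subgroupOf] at this
    simp at this
  · obtain ⟨s, rfl⟩ := mem_T.1 ht
    refine smul_subgroupOf_eq.2 fun x => ?_
    rw [res_conj s x, MulAut.conj_apply, nZs.mem_comm_iff, inv_mul_cancel_left]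
  · obtain ⟨s, rfl⟩ := mem_T.1 ht
    exact p1_stab s
  · obtain ⟨a, ha, hn⟩ := h.ne
    exact ⟨a, ha, fun e => hn (h.ext a ha (p1_norm le h.syl a ha e))⟩

end CL.FZ
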