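/-
Fusion systems on a Sylow 2-subgroup of a large Ree group: the points for the automizer of `Qs`.
-/
import Cfsg.Agent.FZ.Defs2
import Cfsg.Agent.FZ.CH
import Cfsg.Agent.FZ.BN
import Cfsg.Agent.FZ.CN

set_option autoImplicit false
set_option linter.unusedSectionVars false
set_option linter.unusedSimpArgs false
set_option linter.unnecessarySeqFocus false
set_option maxRecDepth 20000

namespace CL.FZ

open CL.Oct CL.Oct.UO Cfsg CL.Fus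
open scoped commutatorElement Pointwise

variable {K : Type*} [Field K] [CharP K 2] [Finite K] {P : Par K}

/-- `w` lies in `⁅Rs, g⁆ Zs` -/
def p2_L (g w : Qs P) : Prop := ∃ r : Qs P, (r : UO P) ∈ Rs P ∧ ((⁅r, g⁆⁻¹ * w : Qs P) : UO P) ∈ Zs P

theorem p2_L_map (b : MulAut (Qs P)) (g w : Qs P) : p2_L (b g) (b w) ↔ p2_L g w := by
  unfold p2_L
  rw [b.surjective.exists]
  simp only [← map_commutatorElement, ← map_inv, ← map_mul, fun x => (aut_Qs_mem b x).1,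
    fun x => (aut_Qs_mem b x).2.2]

theorem p2_Ws {u w : UO P} (hu : u ∈ Ws P) :
    u⁻¹ * w ∈ Zs P ↔ w ∈ Ws P ∧ w.a2 = u.a2 ∧ w.a3 = u.a3 ∧ w.a5 = u.a5 ∧ w.a6 = u.a6 := by
  rw [inv_eq_of_mul_eq_one_right (sq_Ws hu)]
  refine ⟨fun h => ?_, fun ⟨hw, e2, e3, e5, e6⟩ => ?_⟩
  · have e : w = u * (u * w) := by rw [← mul_assoc, sq_Ws hu, one_mul]
    generalize u * w = z at h e
    obtain ⟨h0, h1, h2, h3, h4, h5, h6⟩ := hu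
    obtain ⟨k0, k1, k2, k3, k4, k5, k6, k7, k8, k9, k10⟩ := h
    subst e
    simp [*]
  · obtain ⟨h0, h1, h2, h3, h4, h5, h6⟩ := hu
    obtain ⟨k0, k1, k2, k3, k4, k5, k6⟩ := hw
    simp [*, CharTwo.add_self_eq_zero]

theorem p2_L_iff (g w : Qs P) : p2_L g w ↔ (w : UO P) ∈ Ws P ∧ ∃ c, (w : UO P).a2 = c * (g : UO P).a1 ∧
    (w : UO P).a3 = c * (g : UO P).b2 ∧ (w : UO P).a5 = c * (g : UO P).b6 ∧ (w : UO P).a6 = c * (g : UO P).a7 := by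
  have key : ∀ r : Qs P, (r : UO P) ∈ Rs P → (((⁅r, g⁆⁻¹ * w : Qs P) : UO P) ∈ Zs P ↔ (w : UO P) ∈ Ws P ∧
      (w : UO P).a2 = (r : UO P).b4 * (g : UO P).a1 ∧ (w : UO P).a3 = (r : UO P).b4 * (g : UO P).b2 ∧
      (w : UO P).a5 = (r : UO P).b4 * (g : UO P).b6 ∧ (w : UO P).a6 = (r : UO P).b4 * (g : UO P).a7) := fun r hr => by
    obtain ⟨e2, e3, e5, e6⟩ := k_Rs_Qs hr g.2
    rw [Subgroup.coe_mul, Subgroup.coe_inv, ← ch_coe, p2_Ws (c_Rs hr _), e2, e3, e5, e6]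
  refine ⟨fun ⟨r, hr, h⟩ => ⟨((key r hr).1 h).1, _, ((key r hr).1 h).2⟩, fun ⟨hw, c, h⟩ => ?_⟩
  have hr : (y4 c : UO P) ∈ Rs P := by simp
  exact ⟨⟨y4 c, by simp⟩, hr, (key ⟨y4 c, by simp⟩ hr).2 ⟨hw, h⟩⟩

theorem p2_L_V {g : Qs P} (h1 : (g : UO P).a1 = 0) (h2 : (g : UO P).b2 = 0) (h6 : (g : UO P).b6 = 0)
    (h7 : (g : UO P).a7 ≠ 0) (w : Qs P) : p2_L g w ↔ (w : UO P) ∈ Vs P := by
  rw [p2_L_iff, h1, h2, h6]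
  refine ⟨fun ⟨⟨k0, k1, k2, k3, k4, k5, k6⟩, c, e2, e3, e5, _⟩ => by simp [*],
    fun ⟨k0, k1, k2, k3, k4, k5, k6, k7, k8, k9⟩ => ⟨by simp [*], (w : UO P).a6 / (g : UO P).a7, by simp [*]⟩⟩

theorem p2_L_V2 {g : Qs P} (h1 : (g : UO P).a1 ≠ 0) (h2 : (g : UO P).b2 = 0) (h6 : (g : UO P).b6 = 0)
    (h7 : (g : UO P).a7 = 0) (w : Qs P) : p2_L g w ↔ (w : UO P) ∈ V2 P := by
  rw [p2_L_iff, h7, h2, h6]
  refine ⟨fun ⟨⟨k0, k1, k2, k3, k4, k5, k6⟩, c, _, e3, e5, e6⟩ => by simp [*],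
    fun ⟨k0, k1, k2, k3, k4, k5, k6, k7, k8, k9⟩ => ⟨by simp [*], (w : UO P).a2 / (g : UO P).a1, by simp [*]⟩⟩

theorem p2_G0 {a : UO P} (h : a * a = 1) (k2 : a.b2 = 0) (k6 : a.b6 = 0) (k8 : a.b8 = 0) (h8 : a.a8 = 0)
    (h1 : a.a1 ≠ 0) : a.a1 ≠ 0 ∧ a.b2 = 0 ∧ a.b6 = 0 ∧ a.a7 = 0 := by
  have e3 := congrArg UO.a3 h
  simp [k2, k6, k8, h8, h1, CharTwo.add_self_eq_zero] at e3
  exact ⟨h1, k2, k6, e3⟩

theorem p2_G1 {a : UO P} (h : a * a = 1) (k2 : a.b2 = 0) (k8 : a.b8 = 0) (h8 : a.a8 = 0) (h1 : a.a1 ≠ 0) :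
    ∃ s : UO P, (s * a * s⁻¹).a1 ≠ 0 ∧ (s * a * s⁻¹).b2 = 0 ∧ (s * a * s⁻¹).b6 = 0 ∧ (s * a * s⁻¹).a7 = 0 := by
  obtain ⟨s, hs⟩ := UD.ex h1 a.b6
  refine ⟨x8 s, p2_G0 (UD.cI h _) ?_ ?_ ?_ ?_ ?_⟩ <;> simp [*] <;> grind

theorem p2_G {a : UO P} (h : a * a = 1) (k8 : a.b8 = 0) (h8 : a.a8 = 0) (h1 : a.a1 ≠ 0) :
    ∃ s : UO P, (s * a * s⁻¹).a1 ≠ 0 ∧ (s * a * s⁻¹).b2 = 0 ∧ (s * a * s⁻¹).b6 = 0 ∧ (s * a * s⁻¹).a7 = 0 := by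
  obtain ⟨s, hs⟩ := UD.ex h1 a.b2
  have : ∃ g : UO P, (g * (y8 s * a * (y8 s)⁻¹) * g⁻¹).a1 ≠ 0 ∧ (g * (y8 s * a * (y8 s)⁻¹) * g⁻¹).b2 = 0 ∧
      (g * (y8 s * a * (y8 s)⁻¹) * g⁻¹).b6 = 0 ∧ (g * (y8 s * a * (y8 s)⁻¹) * g⁻¹).a7 = 0 := by
    refine p2_G1 (UD.cI h _) ?_ ?_ ?_ ?_ <;> simp [*] <;> grind
  obtain ⟨g, hg⟩ := this
  refine ⟨g * y8 s, ?_⟩
  rwa [show g * y8 s * a * (g * y8 s)⁻¹ = g * (y8 s * a * (y8 s)⁻¹) * g⁻¹ by group]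

theorem p2_dich (a : MulAut (Qs P)) : a • (Vs P).subgroupOf (Qs P) = (Vs P).subgroupOf (Qs P) ∨
    ∃ s : UO P, (MulAut.conjNormal s * a) • (Vs P).subgroupOf (Qs P) = (V2 P).subgroupOf (Qs P) := by
  let g : Qs P := ⟨x7 1, by simp⟩
  have hV : ∀ (b : MulAut (Qs P)) (x : Qs P), p2_L (b g) (b x) ↔ (x : UO P) ∈ Vs P := fun b x =>
    (p2_L_map b g x).trans (p2_L_V rfl rfl rfl one_ne_zero x)
  have h2 : (a g : UO P) * a g = 1 := by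
    rw [← Subgroup.coe_mul, ← map_mul, show g * g = 1 from Subtype.ext (sq_x 1).2.2.2.1, map_one]; rfl
  have hQ := (a g).2
  by_cases h1 : (a g : UO P).a1 = 0
  · have h3 := inv_C3 h2 h1
    have h5 := (inv_Z5 h2 ⟨h1, h3.2.1, hQ.1, hQ.2⟩).1
    refine .inl (smul_subgroupOf_eq.2 fun x => (p2_L_V h1 h5.2.1 h5.2.2.2.1 (fun h7 => ?_) _).symm.trans (hV a x))
    exact one_ne_zero ((aut_Qs_mem a g).2.2.1 ⟨h1, h5.2.1, h5.2.2.2.1, h7, hQ.1, hQ.2⟩).2.2.2.1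
  · obtain ⟨s, e1, e2, e6, e7⟩ := p2_G h2 hQ.1 hQ.2 h1
    rw [← MulAut.conjNormal_apply, ← MulAut.mul_apply] at e1 e2 e6 e7
    exact .inr ⟨s, smul_subgroupOf_eq.2 fun x => (p2_L_V2 e1 e2 e6 e7 _).symm.trans (hV _ x)⟩

/-- invariance under an automorphism of `Qs` -/
abbrev p2_Iv (a : MulAut (Qs P)) (X : Subgroup (UO P)) : Prop := ∀ x : Qs P, (a x : UO P) ∈ X ↔ (x : UO P) ∈ X

theorem p2_cen {a : MulAut (Qs P)} {X Y W N : Subgroup (UO P)} (hX : p2_Iv a X) (hY : p2_Iv a Y) (hW : p2_Iv a W)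
    (hN : ∀ x ∈ Qs P, x ∈ N ↔ x ∈ X ∧ ∀ y ∈ Qs P, y ∈ Y → ⁅x, y⁆ ∈ W) : p2_Iv a N := fun x => by
  rw [hN _ (a x).2, hN _ x.2, ch_forall, ch_forall, a.surjective.forall, hX x]
  simp only [ch_coe, ← map_commutatorElement, hY, hW]

theorem p2_x4 {t : K} : (x4 t : UO P) ∈ (⊥ : Subgroup (UO P)) ↔ t = 0 :=
  Subgroup.mem_bot.trans ⟨fun h => congrArg UO.a4 h, by rintro rfl; rfl⟩

theorem p2_Qp {x : UO P} (hx : x ∈ Qs P) :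
    x ∈ Qp P ↔ x ∈ (⊤ : Subgroup (UO P)) ∧ ∀ y ∈ Qs P, y ∈ Vs P → ⁅x, y⁆ ∈ (⊥ : Subgroup (UO P)) := by
  refine ⟨fun h => ⟨trivial, fun y _ hy => comm_symm (Subgroup.mem_bot.2 (c_Vs_Qp hy h))⟩, fun ⟨_, h⟩ => ?_⟩
  have := comm_symm (h (x6 1) (by simp) (by simp))
  rw [k_Ws_Qs (by simp) hx, p2_x4] at this
  simpa using this

theorem p2_C4 {x : UO P} (hx : x ∈ Qs P) :
    x ∈ C4 P ↔ x ∈ (⊤ : Subgroup (UO P)) ∧ ∀ y ∈ Qs P, y ∈ Rs P → ⁅x, y⁆ ∈ Vs P := by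
  refine ⟨fun h => ⟨trivial, fun y _ hy => comm_symm ?_⟩, fun ⟨_, h⟩ => ?_⟩
  · obtain ⟨e2, e3, e5, -⟩ := k_Rs_Qs hy hx
    obtain ⟨k0, k1, k2, k3, k4, k5, k6⟩ := c_Rs hy x
    exact ⟨k0, k1, by rw [e2, h.1, mul_zero], by rw [e3, h.2.1, mul_zero], k2, by rw [e5, h.2.2.1, mul_zero], k3, k4, k5, k6⟩
  · have hy : (y4 1 : UO P) ∈ Rs P := by simp
    obtain ⟨e2, e3, e5, -⟩ := k_Rs_Qs hy hx
    obtain ⟨-, -, k2, k3, -, k5, -⟩ := comm_symm (h (y4 1) (by simp) hy)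
    exact ⟨by simpa [k2] using e2.symm, by simpa [k3] using e3.symm, by simpa [k5] using e5.symm, hx⟩

theorem p2_Z4 {x : UO P} :
    x ∈ Z4 P ↔ x ∈ Ws P ∧ ∀ y ∈ Qs P, y ∈ C4 P → ⁅x, y⁆ ∈ (⊥ : Subgroup (UO P)) := by
  refine ⟨fun h => ?_, fun ⟨hw, h⟩ => ?_⟩
  · have hw : x ∈ Ws P := ⟨h.1, h.2.1, h.2.2.2⟩
    refine ⟨hw, fun y hy h4 => ?_⟩
    rw [k_Ws_Qs hw hy, p2_x4, h.2.2.1, h4.1, h4.2.1, h4.2.2.1]
    simp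
  · have := h (x7 1) (by simp) (by simp)
    rw [k_Ws_Qs hw (by simp), p2_x4] at this
    exact ⟨hw.1, hw.2.1, by simpa using this, hw.2.2⟩

theorem p2_Z6 {x : UO P} (hx : x ∈ Qs P) : x ∈ Z6 P ↔ x ∈ Qp P ∧ x * x ∈ Z4 P := by
  have hw := sq_Qs hx
  obtain ⟨h8, k8⟩ := hx
  refine ⟨fun h => ⟨h.1, hw.1, hw.2.1, ?_, hw.2.2⟩, fun ⟨h1, h⟩ => ⟨h1, ?_, h8, k8⟩⟩
  · simp [h.1, h.2.1, h8, k8, CharTwo.add_self_eq_zero]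
  · simpa [mem_Qp.1 h1, h8, k8, CharTwo.add_self_eq_zero] using h.2.2.1

theorem p2_Z3 {x : UO P} :
    x ∈ Z3 P ↔ x ∈ Ws P ∧ ∀ y ∈ Qs P, y ∈ Z6 P → ⁅x, y⁆ ∈ (⊥ : Subgroup (UO P)) := by
  refine ⟨fun h => ⟨⟨h.1, h.2.1, h.2.2.2.2⟩, fun y _ h6 => c_Z3_C3 h ⟨h6.1, h6.2.1, h6.2.2.1⟩⟩, fun ⟨hw, h⟩ => ?_⟩
  have e7 := h (x7 1) (by simp) (by simp)
  have e6 := h (y6 1) (by simp) (by simp)
  rw [k_Ws_Qs hw (by simp), p2_x4] at e7 e6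
  exact ⟨hw.1, hw.2.1, by simpa using e7, by simpa using e6, hw.2.2⟩

theorem p2_Z5 {x : UO P} : x ∈ Z5 P ↔ x ∈ Z6 P ∧ ∀ y ∈ Qs P, y ∈ Z6 P → ⁅x, y⁆ ∈ Vs P := by
  refine ⟨fun h => ⟨⟨h.1, h.2.1, h.2.2.2.2⟩, fun y _ h6 => c_Z5_Z6 h h6⟩, fun ⟨h6, h⟩ => ?_⟩
  have h3 : x ∈ C3 P := ⟨h6.1, h6.2.1, h6.2.2.1⟩
  have e6 := (h (y6 1) (by simp) (by simp)).2.2.2.2.2.1
  have e4 := (h (y4 1) (by simp) (by simp)).2.2.2.2.2.1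
  rw [k_C3 h3 (by simp)] at e6 e4
  exact ⟨h6.1, h6.2.1, by simpa using e6, by simpa using e4, h6.2.2⟩

/-- the chain of subgroups -/
def p2_C (P : Par K) : ℕ → Subgroup (UO P)
  | 0 => ⊥
  | 1 => Zs P
  | 2 => Vs P
  | 3 => Z3 P
  | 4 => Z4 P
  | 5 => Z5 P
  | 6 => Z6 P
  | 7 => Qp P
  | _ + 8 => ⊤

theorem p2_inv {a : MulAut (Qs P)} (hV : p2_Iv a (Vs P)) (i : ℕ) : p2_Iv a (p2_C P i) := by
  have hb : p2_Iv a ⊥ := fun x => by simp [Subgroup.mem_bot]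
  have ht : p2_Iv a ⊤ := fun x => by simp
  have hW : p2_Iv a (Ws P) := fun x => (aut_Qs_mem a x).2.1
  have hp := p2_cen ht hV hb fun _ => p2_Qp
  have h4 := p2_cen hW (p2_cen ht (fun x => (aut_Qs_mem a x).2.2) hV fun _ => p2_C4) hb fun _ _ => p2_Z4
  have h6 : p2_Iv a (Z6 P) := fun x => by
    rw [p2_Z6 (a x).2, p2_Z6 x.2, hp, ← Subgroup.coe_mul, ← map_mul, h4, Subgroup.coe_mul]
  match i with
  | 0 => exact hb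
  | 1 => exact fun x => (aut_Qs_mem a x).1
  | 2 => exact hV
  | 3 => exact p2_cen hW h6 hb fun _ _ => p2_Z3
  | 4 => exact h4
  | 5 => exact p2_cen h6 h6 hV fun _ _ => p2_Z5
  | 6 => exact h6
  | 7 => exact hp
  | _ + 8 => exact ht

theorem p2_comm {i : ℕ} (hi : i < 8) {y : UO P} (hQ : y ∈ Qs P) (hy : y ∈ p2_C P (i + 1)) (s : UO P) :
    ⁅y, s⁆ ∈ p2_C P i := by
  interval_cases i
  exacts [c_Zs hy s, c_Vs hy s, c_Z3 hy s, c_Z4 hy s, c_Z5 hy s, c_Z6 hy s, c_Ph ⟨hy, hQ.1⟩ s, (c_top y s).1]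

theorem p2_mono {i : ℕ} (hi : i < 8) : p2_C P i ≤ p2_C P (i + 1) := by
  interval_cases i
  · exact bot_le
  all_goals intro x hx; simp only [p2_C] at hx ⊢; simp_all

theorem Rk1.pts2 {A0 : Subgroup (MulAut (UO P))} {A : Subgroup (MulAut (Qs P))} (h : Rk1 (Qs P) A0 A) : Pts2 A := by
  have le : autInducedBy ⊤ (Qs P) ≤ A := fun t ht => by
    obtain ⟨s, rfl⟩ := mem_T.1 ht
    obtain ⟨a, ha, e⟩ := h.res _ (h.inn s)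
    rwa [(res_conj s).eq e]
  have norm : ∀ a ∈ A, a • (Vs P).subgroupOf (Qs P) = (Vs P).subgroupOf (Qs P) →
      a ∈ Subgroup.normalizer (autInducedBy ⊤ (Qs P) : Set (MulAut (Qs P))) := fun a ha e => by
    refine norm_of_chain ((isPGroup P).to_subgroup _) le h.syl 8 (fun i => (p2_C P i).subgroupOf (Qs P))
      (Subgroup.bot_subgroupOf _) (Subgroup.top_subgroupOf _) (fun t ht i hi x hx => ?_)
      (fun i hi => Subgroup.comap_mono (p2_mono hi)) ha (p2_inv (smul_subgroupOf_eq.1 e))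
    obtain ⟨s, rfl⟩ := mem_T.1 ht
    have := p2_comm hi (inv_mem x.2) (inv_mem hx) s
    rwa [commutatorElement_def, inv_inv, mul_assoc, mul_assoc, ← mul_assoc s] at this
  refine ⟨le, fun t ht => ?_, by rw [Subgroup.normalizer_eq_top]; exact le_top, fun ⟨t, ht⟩ => ?_, h.syl, fun e => ?_,
    fun t ht => ?_, fun t ht => ⟨fun e => ?_, ?_⟩, fun a _ => ?_, norm, ?_⟩
  · obtain ⟨s, -, rfl⟩ := mem_I.1 ht
    exact mem_T.2 ⟨s, rfl⟩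
  · obtain ⟨s, rfl⟩ := mem_T.1 ht
    obtain ⟨k, hk⟩ := isPGroup P s
    exact ⟨k, Subtype.ext (by rw [Subgroup.coe_pow, ← map_pow, hk, map_one]; rfl)⟩
  · have : (⟨x6 1, by simp⟩ : Qs P) ∈ (V2 P).subgroupOf (Qs P) := e ▸ (by simp : (x6 1 : UO P) ∈ Vs P)
    exact one_ne_zero this.2.2.2.2.2.2.1
  · obtain ⟨s, rfl⟩ := mem_T.1 ht
    exact smul_subgroupOf_eq.2 fun x => by
      rw [MulAut.conjNormal_apply, nVs.mem_comm_iff, inv_mul_cancel_left]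
  · obtain ⟨s, rfl⟩ := mem_T.1 ht
    have hx : (x2 1 : UO P) ∈ V2 P := by simp
    have h2 : ⁅(x2 1 : UO P), s⁆ ∈ V2 P :=
      comm_symm (mul_mem ((smul_subgroupOf_eq.1 e ⟨x2 1, by simp⟩).2 hx) (inv_mem hx))
    have h4 : ⁅(x2 1 : UO P), s⁆ ∈ Z4 P := c_Z5 (by simp) s
    exact mem_I.2 ⟨s, in_Qs (by simp) (.inl one_ne_zero) ⟨h2.1, h2.2.1, h4.2.2.1, h2.2.2⟩, rfl⟩
  · rintro ⟨g, rfl⟩
    suffices ((V2 P).subgroupOf (Qs P)).Normal from Subgroup.Normal.conj_smul_eq_self g _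
    refine ⟨fun x hx g => ?_⟩
    have hw : (x : UO P) ∈ Ws P := ⟨hx.1, hx.2.1, hx.2.2.2.1, hx.2.2.2.2.2.1, hx.2.2.2.2.2.2.2⟩
    have h2 : ⁅(x : UO P), (g : UO P)⁆ ∈ V2 P := by rw [k_Ws_Qs hw g.2]; simp
    have := mul_mem (comm_symm h2) (Subgroup.mem_subgroupOf.1 hx)
    rwa [commutatorElement_def, inv_mul_cancel_right] at this
  · exact (p2_dich a).imp_right fun ⟨s, e⟩ => ⟨_, mem_T.2 ⟨s, rfl⟩, e⟩
  · obtain ⟨a, ha, hn⟩ := h.ne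
    exact ⟨a, ha, fun e => hn (h.ext a ha (norm a ha e))⟩

end CL.FZ
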