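/-
Fusion systems on a Sylow 2-subgroup of a large Ree group: the gluing argument, given the standard form of the
automizers.
-/
import Cfsg.Agent.FZ.Defs2
import Cfsg.Agent.FZ.EE
import Cfsg.Agent.FZ.GL
import Cfsg.Agent.FZ.MD
import Cfsg.Agent.FZ.CN
import Cfsg.Agent.FZ.P1
import Cfsg.Agent.FZ.P2
import Cfsg.Agent.Fus.Model
import Cfsg.Agent.Fus.Realized
import Cfsg.Agent.Oct.Model

set_option autoImplicit false
set_option linter.unusedSectionVars false

namespace CL.FZ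

open CL.Oct CL.Oct.UO Cfsg CL.Fus
open scoped commutatorElement Pointwise

section Gen

variable {U : Type*} [Group U] [Finite U] {F F' : FusionSystem (⊤ : Subgroup U)}

theorem all_top {a : U → U} (ha : Mor F ⊤ a) (hi : img a ⊤ = ⊤) : ∃ α ∈ aut0 F, ∀ x, α x = a x := by
  let φ : U →* U := MonoidHom.mk' a fun x y => ha.homOn x trivial y trivial
  have hb : Function.Bijective φ := ⟨fun x y e => ha.injOn (Subgroup.mem_top x) (Subgroup.mem_top y) e, fun y => by
    obtain ⟨x, -, hx⟩ := ha.mem_img.1 (hi.symm ▸ Subgroup.mem_top y : y ∈ img a ⊤)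
    exact ⟨x, hx⟩⟩
  exact ⟨MulEquiv.ofBijective φ hb, ha, fun _ => rfl⟩

theorem all_le {Q X Y : Subgroup U} (h0 : aut0 F ≤ aut0 F') (h : Rk1 Q (aut0 F) (F.autGroup Q))
    (hp : Pts (F.autGroup Q) (autInducedBy ⊤ Q) (Inn Q) (X.subgroupOf Q) (Y.subgroupOf Q)) {m : MulAut Q}
    (hm : m ∈ F.autGroup Q) (hm' : m ∈ F'.autGroup Q) (hm0 : m • X.subgroupOf Q ≠ X.subgroupOf Q) :
    F.autGroup Q ≤ F'.autGroup Q := by
  have hB : ∀ b ∈ F.autGroup Q, b • X.subgroupOf Q = X.subgroupOf Q → b ∈ F'.autGroup Q := fun b hb e => by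
    obtain ⟨α, hα, hr⟩ := h.ext b hb (hp.norm b hb e)
    exact (Mor.mono (mem_aut0.1 (h0 hα)) le_top).mem_autGroup hr
  intro a ha
  have : Finite (MulAut Q) := finite_mulAut (S := ⊤) le_top
  rcases hp.gen hm hm0 ha with e | ⟨t, ht, b, hb, e, rfl⟩
  · exact hB a ha e
  · exact mul_mem (mul_mem (autInducedBy_le_autGroup F' le_top ht) hm') (hB b hb e)

theorem all_mor {Q : Subgroup U} (hle : F.autGroup Q ≤ F'.autGroup Q) {a : U → U} (ha : Mor F Q a)
    (hi : img a Q = Q) : Mor F' Q a := by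
  obtain ⟨α, hα, e⟩ := ha.exists_aut hi
  exact (mor_autFun le_top (hle hα)).congr e

theorem all_con (hU : IsPGroup 2 U) (hF : F.IsSaturated 2) {Q : Subgroup U}
    (hc : ∀ (α : MulAut U) (x : U), α x ∈ Q ↔ x ∈ Q) (hcen : ∀ x, (∀ g ∈ Q, Commute x g) → x ∈ Q)
    (hE : ∀ A, F.IsEssential 2 A → A = Q) : F.IsRealizable 2 := by
  have := Fact.mk Nat.prime_two
  have hS : IsPGroup 2 (⊤ : Subgroup U) := hU.to_subgroup _
  have hn : F.IsNormal Q := isNormal_of_essential hS hF le_top (fun A hA => (hE A hA).ge) fun A a hA ha hi => by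
    rcases hA with rfl | hA
    · obtain ⟨α, -, e⟩ := all_top ha hi
      exact ha.img_eq_self le_top fun x hx => e x ▸ (hc α x).2 hx
    · rw [← hE A hA]; exact hi
  have hcen' : F.IsCentric Q := ⟨le_top, fun R hR => by
    obtain ⟨f, hf, rfl⟩ := isConj_iff.1 hR
    rw [(weaklyClosed_iff.1 (IsNormal.weaklyClosed hn)).2 f hf]
    exact fun x hx => hcen x fun g hg => (hx.2 g hg).symm⟩
  obtain ⟨G, _, ι, hι⟩ := CL.Fus.exists_model hS ⟨hF, Q, hn, hcen'⟩
  have := hι.1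
  exact isRealizable_of_realizedBy hι.2.1 (IsModel.sylIn hι)

/-- the system realized by an embedding as a Sylow subgroup -/
theorem all_real (hU : IsPGroup 2 U) {G : Type*} [Group G] [Finite G] (ι : U →* G) (hι : Function.Injective ι)
    (ho : ¬ 2 ∣ ι.range.index) : ∃ F' : FusionSystem (⊤ : Subgroup U), F'.IsSaturated 2 ∧ F'.IsRealizable 2 ∧
      ∀ P f, Mor F' P f ↔ ∃ g : G, ∀ x ∈ P, ι (f x) = g * ι x * g⁻¹ := by
  have := Fact.mk Nat.prime_two
  let ι' : (⊤ : Subgroup U) →* G := ι.comp (⊤ : Subgroup U).subtype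
  have hι' : Function.Injective ι' := hι.comp Subtype.val_injective
  have hr : ι'.range = ι.range := by
    rw [MonoidHom.range_comp, Subgroup.range_subtype, ← MonoidHom.range_eq_map]
  have hP : IsPGroup 2 ι.range := hU.of_surjective _ ι.rangeRestrict_surjective
  have hs : SylIn 2 ι'.range ⊤ := by
    rw [hr]
    exact sylIn_top_iff.2 ⟨hP.toSylow ho, rfl⟩
  obtain ⟨η, hη⟩ := exists_gIso_of_injective ι' hι'
  have hf : FIso (hη.symm.transport (groupFusionSystem ι'.range)) (groupFusionSystem ι'.range) (ext ι') η :=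
    (hη.symm.fIso_transport _).symm
  have hR := isRealizedBy_of_fIso hf
  refine ⟨_, hf.symm.isSaturated (GS.isSaturated_group hs), isRealizable_of_realizedBy hR hs, fun P f => ?_⟩
  rw [IsRealizedBy.mor_iff hR]
  have e : ∀ x, ext ι' x = ι x := fun x => ext_apply ι' (Subgroup.mem_top x)
  simp only [e, le_top, Subgroup.mem_top, implies_true, true_and]

end Gen

variable {K : Type*} [Field K] [CharP K 2] [Finite K] {P : Par K}

theorem all_Qp (α : MulAut (UO P)) (x : UO P) : α x ∈ Qp P ↔ x ∈ Qp P := (aut_mem α x).2.2.2.1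

theorem sub {F F' : FusionSystem (⊤ : Subgroup (UO P))} (hF : F.IsSaturated 2) (h0 : aut0 F ≤ aut0 F')
    (h1 : F.IsEssential 2 (Qp P) → ∃ m ∈ F.autGroup (Qp P), m ∈ F'.autGroup (Qp P) ∧
      m • (Zs P).subgroupOf (Qp P) ≠ (Zs P).subgroupOf (Qp P))
    (h2 : F.IsEssential 2 (Qs P) → ∃ m ∈ F.autGroup (Qs P), m ∈ F'.autGroup (Qs P) ∧
      m • (Vs P).subgroupOf (Qs P) ≠ (Vs P).subgroupOf (Qs P)) :
    F.IsSubsystemOf F' := by
  have := Fact.mk Nat.prime_two
  refine alperin_subsystem ((isPGroup P).to_subgroup _) hF fun A a hA ha hi => ?_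
  rcases hA with rfl | hA
  · obtain ⟨α, hα, e⟩ := all_top ha hi
    exact (mem_aut0.1 (h0 hα)).congr fun x _ => e x
  · rcases (crit_of_essential (isPGroup P) hF hA).eq with rfl | rfl
    · obtain ⟨m, hm, hm', hm0⟩ := h1 hA
      have h := rk1_of_essential (isPGroup P) hF hA all_Qp
      exact all_mor (all_le h0 h h.pts1 hm hm' hm0) ha hi
    · obtain ⟨m, hm, hm', hm0⟩ := h2 hA
      have h := rk1_of_essential (isPGroup P) hF hA aut_Qs
      exact all_mor (all_le h0 h h.pts2 hm hm' hm0) ha hi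

/-- the statement of the standard form theorem -/
def StdAll (P : Par K) : Prop :=
  ∀ {A0 : Subgroup (MulAut (UO P))} {A1 : Subgroup (MulAut (Qp P))} {A2 : Subgroup (MulAut (Qs P))},
    Rk1 (Qp P) A0 A1 → Rk1 (Qs P) A0 A2 → ∃ (β : MulAut (UO P)) (γ : RingAut K),
    (∀ α, α ∈ A0 ↔ ∃ (s : UO P) (p : Kˣ × Kˣ) (k : ℕ), β * α * β⁻¹ = MulAut.conj s * dg P p * fld P γ ^ k) ∧
      (∃ a ∈ A1, ∀ x : Qp P, β (a x) = rp (β x)) ∧ ∃ a ∈ A2, ∀ x : Qs P, β (a x) = rn (β x)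

theorem all_move {Q X : Subgroup (UO P)} {β : MulAut (UO P)} (hQ : ∀ (α : MulAut (UO P)) x, α x ∈ Q ↔ x ∈ Q)
    (hX : ∀ (α : MulAut (UO P)) x, α x ∈ X ↔ x ∈ X) {a : MulAut Q} {r : UO P → UO P}
    (ha : ∀ x : Q, β (a x) = r (β x)) {v : UO P} (hv : v ∈ Q) (hvX : v ∈ X) (hr : r v ∉ X) :
    a • X.subgroupOf Q ≠ X.subgroupOf Q := fun e => by
  have h1 := (smul_subgroupOf_eq.1 e ⟨β⁻¹ v, (hQ _ _).2 hv⟩).2 ((hX _ _).2 hvX)
  rw [← hX β, ha] at h1
  exact hr (by simpa using h1)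

theorem real0 (hstd : StdAll P) {R : Rk P} {X : Type*} [Group X] [Finite X] (M : RM R X)
    {F : FusionSystem (⊤ : Subgroup (UO P))} (hF : F.IsSaturated 2) : F.IsRealizable 2 := by
  by_cases e1 : F.IsEssential 2 (Qp P)
  swap
  · refine all_con (isPGroup P) hF aut_Qs (fun x hx => ?_) fun A hA => ?_
    · have := cent_Qs.1 hx
      simp only [mem_Zs, mem_Qs] at this ⊢
      tauto
    · exact (crit_of_essential (isPGroup P) hF hA).eq.resolve_left fun e => e1 (e ▸ hA)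
  by_cases e2 : F.IsEssential 2 (Qs P)
  swap
  · refine all_con (isPGroup P) hF all_Qp (fun x hx => mem_Qp_iff.2 fun v hv => hx v ?_) fun A hA => ?_
    · exact hv.1
    · exact (crit_of_essential (isPGroup P) hF hA).eq.resolve_right fun e => e2 (e ▸ hA)
  obtain ⟨β, γ, hA, ⟨a1, ha1, r1⟩, a2, ha2, r2⟩ :=
    hstd (rk1_of_essential (isPGroup P) hF e1 all_Qp) (rk1_of_essential (isPGroup P) hF e2 aut_Qs)
  obtain ⟨G, _, _, ι, hι, ho, hG, ⟨g1, hg1⟩, g2, hg2⟩ := exists_ext M γ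
  have hr : (ι.comp β.toMonoidHom).range = ι.range := by
    rw [MonoidHom.range_comp, MonoidHom.range_eq_top.2 β.surjective, ← MonoidHom.range_eq_map]
  obtain ⟨F', hs, hR, hM⟩ := all_real (isPGroup P) (ι.comp β.toMonoidHom) (hι.comp β.injective) (hr ▸ ho)
  have hM' : ∀ Q f, Mor F' Q f ↔ ∃ g : G, ∀ x ∈ Q, ι (β (f x)) = g * ι (β x) * g⁻¹ := hM
  have h0 : aut0 F = aut0 F' := Subgroup.ext fun α => by
    rw [hA, ← hG, mem_aut0, hM']
    refine exists_congr fun g => ⟨fun h x _ => by simpa using h (β x), fun h x => ?_⟩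
    simpa using h (β⁻¹ x) trivial
  have k1 : a1 ∈ F'.autGroup (Qp P) := (mem_autGroup_iff le_top).2 ((hM' _ _).2 ⟨g1, fun x hx => by
    rw [autFun_apply _ hx, r1, hg1 _ ((all_Qp β _).2 hx)]⟩)
  have k2 : a2 ∈ F'.autGroup (Qs P) := (mem_autGroup_iff le_top).2 ((hM' _ _).2 ⟨g2, fun x hx => by
    rw [autFun_apply _ hx, r2, hg2 _ ((aut_Qs β _).2 hx)]⟩)
  have m1 := all_move (X := Zs P) all_Qp (fun α x => (aut_mem α x).1) r1 (v := x4 1) (by simp) (by simp) (by simp)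
  have m2 := all_move (X := Vs P) aut_Qs (fun α x => (aut_mem α x).2.1) r2 (v := x6 1) (by simp) (by simp) (by simp)
  have s1 := sub hF h0.le (fun _ => ⟨a1, ha1, k1, m1⟩) fun _ => ⟨a2, ha2, k2, m2⟩
  have s2 := sub hs h0.ge (fun _ => ⟨a1, k1, ha1, m1⟩) fun _ => ⟨a2, k2, ha2, m2⟩
  rw [fusionSystem_le_antisymm (E := F) (F := F') s1 s2]
  exact hR

theorem final0 {Ω : Type*} [Group Ω] {S : Subgroup Ω} [Finite S] (F : FusionSystem S) (hF : F.IsSaturated 2)
    {K : Type*} [Field K] [Fintype K] (m : ℕ) (hK : Fintype.card K = 2 ^ (2 * m + 1))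
    (T : Sylow 2 (Cfsg.Lie.twistedF4 K (2 ^ m))) (e : S ≃* (T : Subgroup (Cfsg.Lie.twistedF4 K (2 ^ m))))
    (hstd : ∀ [CharP K 2] (P : Par K), StdAll P) : F.IsRealizable 2 := by
  have := Fact.mk Nat.prime_two
  have : CharP K 2 := charP_of_card_eq_prime_pow hK
  have : Finite (Cfsg.Lie.twistedF4 K (2 ^ m)) := inferInstance
  obtain ⟨P, R, ⟨M⟩⟩ := CL.Oct.exists_model hK
  have hP : IsPGroup 2 M.u.range := (isPGroup P).of_surjective _ M.u.rangeRestrict_surjective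
  let e1 : (T : Subgroup (Cfsg.Lie.twistedF4 K (2 ^ m))) ≃* M.u.range := Sylow.equiv T (hP.toSylow M.syl)
  let e2 : S ≃* (⊤ : Subgroup (UO P)) :=
    e.trans (e1.trans ((MonoidHom.ofInjective M.u_inj).symm.trans Subgroup.topEquiv.symm))
  have h := (gIso_of_mulEquiv e2).fIso_transport F
  exact h.symm.isRealizable (real0 (hstd P) M (h.isSaturated hF))

end CL.FZ
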