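/-
Fusion systems on a Sylow 2-subgroup of a large Ree group: rigidity on `Qs`, counting in the torus.
-/
import Cfsg.Agent.FZ.Defs2

set_option autoImplicit false
set_option linter.unusedSectionVars false
set_option linter.unusedSimpArgs false
set_option linter.unusedVariables false
set_option maxRecDepth 20000

namespace CL.FZ

open CL.Oct CL.Oct.UO Cfsg CL.Fus
open scoped commutatorElement Pointwise

variable {K : Type*} [Field K] [CharP K 2] [Finite K] {P : Par K}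

theorem ps_onto (P : Par K) (i : Fin 8) {t : K} (ht : t ≠ 0) : ∃ p, (ueX P i p : K) = t := by
  by_cases hi : i = 0
  · subst hi
    exact ⟨(Units.mk0 t ht, 1), rfl⟩
  · exact ue_onto P hi ht

section Psi

variable (hq : 2 < Nat.card K) {ψ : UO P → UO P} (hmul : ∀ x ∈ Qs P, ∀ y ∈ Qs P, ψ (x * y) = ψ x * ψ y)
  (hd : ∀ p, ∀ x ∈ Qs P, ψ (dg P p x) = dg P p (ψ x))
include hq hmul hd

theorem ps_root {i : Fin 8} (r : K → UO P) (hr : ∀ t, r t ∈ Qs P) (r0 : r 0 = 1)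
    (hp : ∀ p t, dg P p (r t) = r (ueX P i p * t)) (f : K → UO P) (f0 : f 0 = 1)
    (hf : ∀ p, dg P p (ψ (r 1)) = f (ueX P i p)) (t : K) : ψ (r t) = f t := by
  by_cases ht : t = 0
  · rw [ht, r0, f0]
    exact left_eq_mul.1 (by rw [← hmul _ (one_mem _) _ (one_mem _), mul_one])
  obtain ⟨p, rfl⟩ := ps_onto P i ht
  rw [← hf, ← hd _ _ (hr 1), hp, mul_one]

theorem ps_one (i : Fin 8) (r : K → UO P) (hr : ∀ t, r t ∈ Qs P) (hp : ∀ p t, dg P p (r t) = r (ueX P i p * t)) :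
    ∃ p, p ≠ 1 ∧ ueX P i p = 1 ∧ dg P p (ψ (r 1)) = ψ (r 1) := by
  obtain ⟨p, h1, e⟩ := ue_ker P hq i
  exact ⟨p, h1, e, by rw [← hd _ _ (hr 1), hp, e, Units.val_one, one_mul]⟩

theorem ps_odd {i : Fin 8} (r : K → UO P) (hr : ∀ t, r t ∈ Qs P) (r0 : r 0 = 1)
    (hp : ∀ p t, dg P p (r t) = r (ueX P i p * t))
    (hx : ∀ p x, p ≠ 1 → ueX P i p = 1 → dg P p x = x → ∃ c, x = r c) : ∃ c, ∀ t, ψ (r t) = r (t * c) := by
  obtain ⟨p, h1, e, h2⟩ := ps_one hq hmul hd i r hr hp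
  obtain ⟨c, hc⟩ := hx p _ h1 e h2
  exact ⟨c, ps_root hq hmul hd r hr r0 hp (fun t => r (t * c)) (by rw [zero_mul, r0]) fun p => by rw [hc, hp]⟩

theorem ps_even {i : Fin 8} (w : K → K → UO P) (hr : ∀ b a, w b a ∈ Qs P) (r0 : w 0 0 = 1)
    (hp : ∀ p b a, dg P p (w b a) = w (ueX P i p * b) (ueX P i p * P.σ (ueX P i p) * a))
    (hw : ∀ b a b' a', w b a * w b' a' = w (b + b') (a + a' + b * P.σ b'))
    (inj : ∀ b a b' a', w b a = w b' a' → a = a')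
    (hx : ∀ p x, p ≠ 1 → ueX P i p = 1 → dg P p x = x → ∃ c e, x = w c e) :
    ∃ c, ∀ b a, ψ (w b a) = w (b * c) (c * P.σ c * a) := by
  have hp' : ∀ p t, dg P p (w t 0) = w (ueX P i p * t) 0 := fun p t => by rw [hp, mul_zero]
  obtain ⟨p, h1, e, h2⟩ := ps_one hq hmul hd i (w · 0) (hr · 0) hp'
  obtain ⟨c, d, hc⟩ := hx p _ h1 e h2
  have h3 := ps_root hq hmul hd (w · 0) (hr · 0) r0 hp' (fun t => w (t * c) (t * P.σ t * d)) (by simpa using r0)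
    fun p => by rw [hc, hp]
  have h4 : ∀ a, ψ (w 0 a) = w 0 (c * P.σ c * a) := fun a => by
    obtain ⟨t, rfl⟩ := exists_mul_σ P a
    have e1 := hmul _ (hr t 0) _ (hr t 0)
    rw [hw, h3, hw] at e1
    simp only [CharTwo.add_self_eq_zero, zero_add, map_mul] at e1
    rw [e1]
    congr 1
    ring
  have h5 : ∀ b a, ψ (w b a) = w (b * c) (b * P.σ b * d + c * P.σ c * a) := fun b a => by
    have e1 := hmul _ (hr b 0) _ (hr 0 a)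
    rw [hw, h3, h4, hw] at e1
    simpa using e1
  obtain ⟨t, ht⟩ := exists_σ_ne P hq
  have e1 := hmul _ (hr 1 0) _ (hr t 0)
  rw [hw, h5, h3, h3, hw] at e1
  have e2 := inj _ _ _ _ e1
  simp only [map_add, map_mul, map_one] at e2
  obtain rfl : d = 0 := by grind
  exact ⟨c, by simpa using h5⟩

theorem ps_3 : ∃ c, ∀ t, ψ (x3 t) = x3 (t * c) :=
  ps_odd hq hmul hd (i := 2) x3 (fun _ => ⟨rfl, rfl⟩) rfl (fun p t => by ext <;> simp [ue_val])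
    fun p x h1 e h => ⟨x.a3, by have := ue_fix h1 e h; simp at this; ext <;> simp [this]⟩

theorem ps_5 : ∃ c, ∀ t, ψ (x5 t) = x5 (t * c) :=
  ps_odd hq hmul hd (i := 4) x5 (fun _ => ⟨rfl, rfl⟩) rfl (fun p t => by ext <;> simp [ue_val])
    fun p x h1 e h => ⟨x.a5, by have := ue_fix h1 e h; simp at this; ext <;> simp [this]⟩

theorem ps_7 : ∃ c, ∀ t, ψ (x7 t) = x7 (t * c) :=
  ps_odd hq hmul hd (i := 6) x7 (fun _ => ⟨rfl, rfl⟩) rfl (fun p t => by ext <;> simp [ue_val])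
    fun p x h1 e h => ⟨x.a7, by have := ue_fix h1 e h; simp at this; ext <;> simp [this]⟩

theorem ps_2 : ∃ c, ∀ b a, ψ ⟨0, b, a, 0, 0, 0, 0, 0, 0, 0, 0, 0⟩ = ⟨0, b * c, c * P.σ c * a, 0, 0, 0, 0, 0, 0, 0, 0, 0⟩ :=
  ps_even hq hmul hd (i := 1) (fun b a => ⟨0, b, a, 0, 0, 0, 0, 0, 0, 0, 0, 0⟩) (fun _ _ => ⟨rfl, rfl⟩) rfl
    (fun p b a => by ext <;> simp [ue_val, ue_N]) (fun b a b' a' => by ext <;> simp)
    (fun b a b' a' e => congrArg UO.a2 e)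
    fun p x h1 e h => ⟨x.b2, x.a2, by have := ue_fix h1 e h; simp at this; ext <;> simp [this]⟩

theorem ps_4 : ∃ c, ∀ b a, ψ ⟨0, 0, 0, 0, b, a, 0, 0, 0, 0, 0, 0⟩ = ⟨0, 0, 0, 0, b * c, c * P.σ c * a, 0, 0, 0, 0, 0, 0⟩ :=
  ps_even hq hmul hd (i := 3) (fun b a => ⟨0, 0, 0, 0, b, a, 0, 0, 0, 0, 0, 0⟩) (fun _ _ => ⟨rfl, rfl⟩) rfl
    (fun p b a => by ext <;> simp [ue_val, ue_N]) (fun b a b' a' => by ext <;> simp)
    (fun b a b' a' e => congrArg UO.a4 e)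
    fun p x h1 e h => ⟨x.b4, x.a4, by have := ue_fix h1 e h; simp at this; ext <;> simp [this]⟩

theorem ps_6 : ∃ c, ∀ b a, ψ ⟨0, 0, 0, 0, 0, 0, 0, b, a, 0, 0, 0⟩ = ⟨0, 0, 0, 0, 0, 0, 0, b * c, c * P.σ c * a, 0, 0, 0⟩ :=
  ps_even hq hmul hd (i := 5) (fun b a => ⟨0, 0, 0, 0, 0, 0, 0, b, a, 0, 0, 0⟩) (fun _ _ => ⟨rfl, rfl⟩) rfl
    (fun p b a => by ext <;> simp [ue_val, ue_N]) (fun b a b' a' => by ext <;> simp)
    (fun b a b' a' e => congrArg UO.a6 e)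
    fun p x h1 e h => ⟨x.b6, x.a6, by have := ue_fix h1 e h; simp at this; ext <;> simp [this]⟩

theorem ps_1 : ∃ c, ∀ t, ψ (x1 t) = x1 (t * c) :=
  ps_odd hq hmul hd (i := 0) x1 (fun _ => ⟨rfl, rfl⟩) rfl (fun p t => by ext <;> simp [ue_val])
    fun p x h1 e h => ⟨x.a1, by have := ue_fix h1 e h; simp at this; ext <;> simp [this]⟩

end Psi

theorem ps_nf {x : UO P} (hx : x ∈ Qs P) : x = x1 x.a1 * ⟨0, x.b2, x.a2, 0, 0, 0, 0, 0, 0, 0, 0, 0⟩ * x3 x.a3 *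
    ⟨0, 0, 0, 0, x.b4, x.a4, 0, 0, 0, 0, 0, 0⟩ * x5 x.a5 * ⟨0, 0, 0, 0, 0, 0, 0, x.b6, x.a6, 0, 0, 0⟩ * x7 x.a7 := by
  ext <;> simp [hx.1, hx.2]

theorem ps_rel : (x6 1 * x1 1 : UO P) = x1 1 * x6 1 * x4 1 := by
  ext <;> simp

theorem psi2 (hq : 2 < Nat.card K) (ψ : UO P → UO P) (hm : ∀ x ∈ Qs P, ψ x ∈ Qs P)
    (hmul : ∀ x ∈ Qs P, ∀ y ∈ Qs P, ψ (x * y) = ψ x * ψ y) (hd : ∀ p, ∀ x ∈ Qs P, ψ (dg P p x) = dg P p (ψ x))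
    (hV : ∀ t, ψ (x4 t) = x4 t) (h6 : ∀ t, (ψ (x6 t)).a6 = t) : ∀ x ∈ Qs P, ψ x = x := by
  have h6' := h6 1
  clear h6
  obtain ⟨k1, h1⟩ := ps_1 hq hmul hd
  obtain ⟨k2, h2⟩ := ps_2 hq hmul hd
  obtain ⟨k3, h3⟩ := ps_3 hq hmul hd
  obtain ⟨k4, h4⟩ := ps_4 hq hmul hd
  obtain ⟨k5, h5⟩ := ps_5 hq hmul hd
  obtain ⟨k6, h6⟩ := ps_6 hq hmul hd
  obtain ⟨k7, h7⟩ := ps_7 hq hmul hd
  obtain rfl : k4 = 1 := ue_N1 (by simpa using congrArg UO.a4 ((h4 0 1).symm.trans (hV 1)))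
  obtain rfl : k6 = 1 := ue_N1 (by simpa using (congrArg UO.a6 (h6 0 1)).symm.trans h6')
  have cm : ∀ {x y z}, x * y = y * x * z → x ∈ Qs P → y ∈ Qs P → z ∈ Qs P → ψ x * ψ y = ψ y * ψ x * ψ z :=
    fun e hx hy hz => by rw [← hmul _ hx _ hy, e, hmul _ (mul_mem hy hx) _ hz, hmul _ hy _ hx]
  obtain ⟨r1, r2, -, r4, r5⟩ := ue_rel (P := P)
  obtain rfl : k5 = 1 := by
    have := cm r1 ⟨rfl, rfl⟩ ⟨rfl, rfl⟩ ⟨rfl, rfl⟩
    rw [y4, y6, h4, h6, h5] at this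
    simpa using (congrArg UO.a5 this).symm
  obtain rfl : k2 = 1 := by
    have := cm r2 ⟨rfl, rfl⟩ ⟨rfl, rfl⟩ ⟨rfl, rfl⟩
    rw [y2, h5, h2, hV] at this
    simpa using congrArg UO.a4 this
  obtain rfl : k3 = 1 := by
    have := cm r4 ⟨rfl, rfl⟩ ⟨rfl, rfl⟩ ⟨rfl, rfl⟩
    rw [y6, h3, h6, hV] at this
    simpa using congrArg UO.a4 this
  obtain rfl : k7 = 1 := by
    have := cm r5 ⟨rfl, rfl⟩ ⟨rfl, rfl⟩ ⟨rfl, rfl⟩
    rw [y4, x6, h7, h4, h6] at this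
    simpa using congrArg UO.a6 this
  obtain rfl : k1 = 1 := by
    have := cm ps_rel ⟨rfl, rfl⟩ ⟨rfl, rfl⟩ ⟨rfl, rfl⟩
    rw [x6, h1, h6, hV] at this
    simpa using congrArg UO.a4 this
  simp only [mul_one, map_one, one_mul] at h1 h2 h3 h4 h5 h6 h7
  have m : ∀ {x y}, x ∈ Qs P ∧ ψ x = x → y ∈ Qs P ∧ ψ y = y → x * y ∈ Qs P ∧ ψ (x * y) = x * y :=
    fun hx hy => ⟨mul_mem hx.1 hy.1, by rw [hmul _ hx.1 _ hy.1, hx.2, hy.2]⟩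
  intro x hx
  rw [ps_nf hx]
  exact (m (m (m (m (m (m ⟨⟨rfl, rfl⟩, h1 _⟩ ⟨⟨rfl, rfl⟩, h2 _ _⟩) ⟨⟨rfl, rfl⟩, h3 _⟩) ⟨⟨rfl, rfl⟩, h4 _ _⟩)
    ⟨⟨rfl, rfl⟩, h5 _⟩) ⟨⟨rfl, rfl⟩, h6 _ _⟩) ⟨⟨rfl, rfl⟩, h7 _⟩).2

theorem ps_eq {p q : Kˣ × Kˣ} {i j : Fin 8} (h : i ≠ j) (h1 : ueX P i p = ueX P i q) (h2 : ueX P j p = ueX P j q) :
    p = q := mul_inv_eq_one.1 (ue_pair (P := P) h (by rw [map_mul, map_inv, h1, mul_inv_cancel])
      (by rw [map_mul, map_inv, h2, mul_inv_cancel]))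

theorem ps_d4 {p q : Kˣ × Kˣ} (h4 : c4 P p = c4 P q) : ueX P 3 p = ueX P 3 q :=
  Units.ext ((ue_val p 3).trans ((mul_σ_inj P ((ue_N p).2.1.symm.trans (h4.trans (ue_N q).2.1))).trans
    (ue_val q 3).symm))

theorem eq_of_c45 {p q : Kˣ × Kˣ} (h4 : c4 P p = c4 P q) (h5 : c5 P p = c5 P q) : p = q :=
  ps_eq (i := 3) (j := 4) (by decide) (ps_d4 h4) (Units.ext ((ue_val p 4).trans (h5.trans (ue_val q 4).symm)))

theorem torus_all {A0 : Subgroup (MulAut (UO P))} (h1 : ∀ t : Kˣ, ∃ p : Kˣ × Kˣ, dg P p ∈ A0 ∧ c5 P p = 1 ∧ p.1 = t)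
    (h2 : ∀ t : K, t ≠ 0 → ∃ p : Kˣ × Kˣ, dg P p ∈ A0 ∧ c4 P p = 1 ∧ c8 P p = t) (p : Kˣ × Kˣ) : dg P p ∈ A0 := by
  choose f f1 f2 f3 using h1
  choose g g1 g2 g3 using fun t : Kˣ => h2 t t.ne_zero
  have a1 : ∀ t, ueX P 4 (f t) = 1 := fun t => Units.ext ((ue_val _ 4).trans (f2 t))
  have a2 : ∀ t, ueX P 3 (g t) = 1 := fun t =>
    Units.ext ((ue_val _ 3).trans (ue_N1 ((ue_N _).2.1.symm.trans (g2 t))))
  obtain ⟨s, hs⟩ := (Finite.injective_iff_surjective (f := fun t => ueX P 3 (f t))).1 (fun s t e => by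
    rw [← f3 s, ← f3 t, ps_eq (i := 3) (j := 4) (by decide) e ((a1 s).trans (a1 t).symm)]) (ueX P 3 p)
  obtain ⟨t, ht⟩ := (Finite.injective_iff_surjective (f := fun t => ueX P 4 (g t))).1 (fun s t e => Units.ext (by
    rw [← g3 s, ← g3 t, ps_eq (i := 3) (j := 4) (by decide) ((a2 s).trans (a2 t).symm) e])) (ueX P 4 p)
  rw [ps_eq (P := P) (p := p) (q := f s * g t) (i := 3) (j := 4) (by decide) (by rw [map_mul, a2, mul_one]; exact hs.symm)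
    (by rw [map_mul, a1, one_mul]; exact ht.symm), map_mul]
  exact mul_mem (f1 s) (g1 t)

end CL.FZ
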