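/-
Fusion systems on a Sylow 2-subgroup of a large Ree group: the group over the prime field, many elements at once.
-/
import Cfsg.Agent.FZ.Defs2

set_option autoImplicit false
set_option linter.unusedSectionVars false
set_option maxRecDepth 4000

noncomputable section

namespace CL.FZ

open CL.Oct CL.Oct.UO

/-- bit `i` of the twelve numbers gives the coordinates of an element -/
structure W where
  a1 : ℕ
  b2 : ℕ
  a2 : ℕ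
  a3 : ℕ
  b4 : ℕ
  a4 : ℕ
  a5 : ℕ
  b6 : ℕ
  a6 : ℕ
  a7 : ℕ
  b8 : ℕ
  a8 : ℕ

namespace W

/-- evaluate the number first -/
def st (n : ℕ) (k : ℕ → W) : W := Nat.rec (k 0) (fun m _ => k m.succ) n

theorem st_eq (n : ℕ) (k : ℕ → W) : st n k = k n := by cases n <;> rfl

/-- the strict constructor -/
def mk' (a b c d e f g h i j k l : ℕ) : W :=
  st a fun a => st b fun b => st c fun c => st d fun d => st e fun e => st f fun f => st g fun g => st h fun h =>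
    st i fun i => st j fun j => st k fun k => st l fun l => ⟨a, b, c, d, e, f, g, h, i, j, k, l⟩

theorem mk'_eq (a b c d e f g h i j k l : ℕ) : mk' a b c d e f g h i j k l = ⟨a, b, c, d, e, f, g, h, i, j, k, l⟩ := by
  simp only [mk', st_eq]

/-- evaluate the element first -/
def fc {α : Type} (x : W) (k : W → α) : α :=
  W.rec (fun a b c d e f g h i j l m => k ⟨a, b, c, d, e, f, g, h, i, j, l, m⟩) x

@[simp] theorem fc_eq {α : Type} (x : W) (k : W → α) : fc x k = k x := rfl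

def mul (x y : W) : W := fc x fun x => fc y fun y => mk'
  (x.a1 ^^^ y.a1)
  (x.b2 ^^^ y.b2 ^^^ x.b8 &&& y.a1)
  (x.a2 ^^^ y.a2 ^^^ x.b4 &&& y.a1 ^^^ x.b2 &&& y.b2 ^^^ x.b6 &&& y.a1 ^^^ x.b8 &&& y.a1 &&& y.b2 ^^^ x.a8 &&& y.a1
    &&& y.a1 ^^^ x.b2 &&& x.b8 &&& y.a1)
  (x.a3 ^^^ y.a3 ^^^ x.b4 &&& y.b2 ^^^ x.b8 &&& y.a2 ^^^ x.b4 &&& x.b8 &&& y.a1 ^^^ x.b6 &&& y.a1 ^^^ x.a7 &&& y.a1
    ^^^ x.b8 &&& y.b2 &&& y.b2 ^^^ x.a8 &&& y.a1 &&& y.b2 ^^^ x.b8 &&& x.a8 &&& y.a1 &&& y.a1 ^^^ x.a8 &&& y.a1 &&&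
    y.a1 ^^^ x.b8 &&& x.b8 &&& y.a1 &&& y.a1)
  (x.b4 ^^^ y.b4 ^^^ x.b8 &&& y.b2 ^^^ x.a8 &&& y.a1)
  (x.a4 ^^^ y.a4 ^^^ x.a5 &&& y.b2 ^^^ x.b6 &&& y.a3 ^^^ x.a6 &&& y.a1 ^^^ x.a7 &&& y.a2 ^^^ x.b4 &&& y.b4 ^^^ x.a5
    &&& x.b8 &&& y.a1 ^^^ x.b6 &&& x.b8 &&& y.a2 ^^^ x.b8 &&& y.a3 ^^^ x.a8 &&& y.a1 &&& y.a3 ^^^ x.a8 &&& y.b2 &&&
    y.a2 ^^^ x.a8 &&& y.a2 ^^^ x.b6 &&& x.a7 &&& y.a1 ^^^ x.a7 &&& y.b2 &&& y.b2 ^^^ x.a7 &&& y.a1 &&& y.b2 ^^^ x.b8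
    &&& y.b2 &&& y.a3 ^^^ x.a8 &&& y.a1 &&& y.a2 ^^^ x.b4 &&& x.b8 &&& y.b2 ^^^ x.b4 &&& x.a8 &&& y.a1 ^^^ x.b6 &&&
    x.b8 &&& y.b2 &&& y.b2 ^^^ x.b6 &&& x.a8 &&& y.a1 &&& y.b2 ^^^ x.a7 &&& x.a8 &&& y.a1 &&& y.a1 ^^^ x.a7 &&& x.b8
    &&& y.a1 ^^^ x.b8 &&& x.b8 &&& y.a1 &&& y.a3 ^^^ x.b8 &&& x.b8 &&& y.b2 &&& y.a2 ^^^ x.b8 &&& y.b2 &&& y.b4 ^^^
    x.a8 &&& y.a1 &&& y.b4 ^^^ x.a8 &&& y.b2 &&& y.b2 ^^^ x.b6 &&& x.b8 &&& x.a8 &&& y.a1 &&& y.a1 ^^^ x.b6 &&& x.a8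
    &&& y.a1 &&& y.a1 ^^^ x.a7 &&& x.b8 &&& y.a1 &&& y.b2 ^^^ x.a8 &&& y.a1 &&& y.a1 &&& y.b2 ^^^ x.a8 &&& y.a1 &&&
    y.b2 &&& y.b2 ^^^ x.a7 &&& x.b8 &&& x.b8 &&& y.a1 &&& y.a1 ^^^ x.b8 &&& x.b8 &&& y.b2 &&& y.b2 ^^^ x.b8 &&& x.a8
    &&& y.a1 &&& y.a1 ^^^ x.b8 &&& x.a8 &&& y.a1 &&& y.b2 ^^^ x.a8 &&& x.a8 &&& y.a1 &&& y.a1 ^^^ x.b6 &&& x.b8 &&&
    x.b8 &&& y.a1 &&& y.a1 ^^^ x.b8 &&& x.a8 &&& y.a1 &&& y.a1 &&& y.b2 ^^^ x.b8 &&& x.b8 &&& x.a8 &&& y.a1 &&& y.a1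
    ^^^ x.b8 &&& x.b8 &&& y.a1 &&& y.a1 &&& y.b2 ^^^ x.b8 &&& x.b8 &&& y.a1 &&& y.a1)
  (x.a5 ^^^ y.a5 ^^^ x.b6 &&& y.b4 ^^^ x.a8 &&& y.a2 ^^^ x.a7 &&& y.b2 ^^^ x.a7 &&& y.a1 ^^^ x.b8 &&& y.a3 ^^^ x.a8
    &&& y.a1 &&& y.b4 ^^^ x.b6 &&& x.b8 &&& y.b2 ^^^ x.b6 &&& x.a8 &&& y.a1 ^^^ x.b8 &&& x.b8 &&& y.a2 ^^^ x.b8 &&&
    y.b2 &&& y.b4 ^^^ x.a7 &&& x.b8 &&& y.a1 ^^^ x.b8 &&& x.b8 &&& y.a1 &&& y.b4 ^^^ x.a8 &&& y.a1 &&& y.a1 ^^^ x.a8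
    &&& y.a1 &&& y.b2 ^^^ x.b8 &&& x.a8 &&& y.a1 &&& y.a1 ^^^ x.b8 &&& x.b8 &&& y.a1 &&& y.a1)
  (x.b6 ^^^ y.b6 ^^^ x.a8 &&& y.a1 ^^^ x.b8 &&& y.b2 ^^^ x.b8 &&& x.b8 &&& y.a1)
  (x.a6 ^^^ y.a6 ^^^ x.a7 &&& y.b4 ^^^ x.b8 &&& y.a5 ^^^ x.a8 &&& y.a3 ^^^ x.b6 &&& y.b6 ^^^ x.a7 &&& y.b2 ^^^ x.b8
    &&& x.a8 &&& y.a2 ^^^ x.a8 &&& y.b2 &&& y.b4 ^^^ x.a8 &&& y.a2 ^^^ x.a7 &&& x.b8 &&& y.b2 ^^^ x.a7 &&& x.a8 &&&
    y.a1 ^^^ x.a7 &&& x.b8 &&& y.a1 ^^^ x.b8 &&& x.a8 &&& y.a1 &&& y.b4 ^^^ x.a8 &&& y.a1 &&& y.b6 ^^^ x.a8 &&& y.a1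
    &&& y.b4 ^^^ x.b6 &&& x.b8 &&& y.b2 ^^^ x.b6 &&& x.a8 &&& y.a1 ^^^ x.b8 &&& x.b8 &&& y.a2 ^^^ x.b8 &&& y.b2 &&&
    y.b6 ^^^ x.a8 &&& y.a1 &&& y.b2 ^^^ x.a8 &&& y.b2 &&& y.b2 ^^^ x.b8 &&& x.b8 &&& y.a1 &&& y.b4 ^^^ x.b8 &&& x.b8
    &&& y.a1 &&& y.b6 ^^^ x.b8 &&& x.a8 &&& y.a1 &&& y.a1 ^^^ x.b8 &&& x.a8 &&& y.a1 &&& y.b2 ^^^ x.b6 &&& x.b8 &&&
    x.b8 &&& y.a1 ^^^ x.b8 &&& x.a8 &&& y.a1 &&& y.b2 ^^^ x.b8 &&& x.b8 &&& x.a8 &&& y.a1 &&& y.a1 ^^^ x.b8 &&& x.b8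
    &&& y.a1 &&& y.b2 ^^^ x.b8 &&& x.b8 &&& y.a1 &&& y.a1)
  (x.a7 ^^^ y.a7 ^^^ x.b8 &&& y.b6 ^^^ x.a8 &&& y.b2 ^^^ x.b8 &&& x.a8 &&& y.a1 ^^^ x.a8 &&& y.a1 ^^^ x.b8 &&& x.b8
    &&& y.a1)
  (x.b8 ^^^ y.b8)
  (x.a8 ^^^ y.a8 ^^^ x.b8 &&& y.b8)

def rn (x : W) : W := fc x fun x => mk'
  (x.a7)
  (x.b6)
  (x.a6 ^^^ x.b4 &&& x.a7 ^^^ x.b2 &&& x.a7)
  (x.a5 ^^^ x.b4 &&& x.b6 ^^^ x.a1 &&& x.a7 ^^^ x.b2 &&& x.a7)
  (x.b4)
  (x.a4 ^^^ x.a1 &&& x.a6 ^^^ x.b2 &&& x.a5 ^^^ x.a2 &&& x.a7 ^^^ x.a3 &&& x.b6 ^^^ x.a1 &&& x.b4 &&& x.a7 ^^^ x.b2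
    &&& x.b4 &&& x.b6 ^^^ x.a1 &&& x.b2 &&& x.a7 ^^^ x.a1 &&& x.b6 &&& x.b6 ^^^ x.a1 &&& x.b6 &&& x.a7)
  (x.a3 ^^^ x.b2 &&& x.b4 ^^^ x.a1 &&& x.b6 ^^^ x.a1 &&& x.a7)
  (x.b2)
  (x.a2 ^^^ x.a1 &&& x.b4 ^^^ x.a1 &&& x.b6)
  (x.a1)
  (0)
  (0)

def rp (x : W) : W := fc x fun x => mk'
  (0)
  (x.b8)
  (x.a8)
  (x.a7 ^^^ x.b2 &&& x.a8 ^^^ x.b6 &&& x.b8 ^^^ x.b2 &&& x.b8 &&& x.b8)
  (x.b6 ^^^ x.b2 &&& x.b8)
  (x.a6 ^^^ x.a3 &&& x.a8 ^^^ x.b4 &&& x.a7 ^^^ x.a5 &&& x.b8 ^^^ x.b2 &&& x.a7 ^^^ x.a2 &&& x.b8 &&& x.a8 ^^^ x.a2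
    &&& x.a8 ^^^ x.b4 &&& x.b6 &&& x.b8 ^^^ x.b2 &&& x.a7 &&& x.b8 ^^^ x.a3 &&& x.b8 &&& x.b8 ^^^ x.b2 &&& x.b2 &&&
    x.b8 &&& x.a8 ^^^ x.b2 &&& x.b6 &&& x.b8 ^^^ x.a2 &&& x.b8 &&& x.b8 ^^^ x.b2 &&& x.b2 &&& x.b8 &&& x.b8)
  (x.a5 ^^^ x.a2 &&& x.a8 ^^^ x.b4 &&& x.b6 ^^^ x.b2 &&& x.a7 ^^^ x.a3 &&& x.b8 ^^^ x.b2 &&& x.b2 &&& x.a8)
  (x.b4 ^^^ x.b2 &&& x.b8)
  (x.a4 ^^^ x.b2 &&& x.a5 ^^^ x.a2 &&& x.a7 ^^^ x.a3 &&& x.b6 ^^^ x.b2 &&& x.a2 &&& x.a8 ^^^ x.b2 &&& x.b4 &&& x.b6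
    ^^^ x.a2 &&& x.a8 ^^^ x.a3 &&& x.b8 ^^^ x.b2 &&& x.a3 &&& x.b8 ^^^ x.b2 &&& x.b2 &&& x.a8 ^^^ x.b2 &&& x.b4 &&&
    x.b8 ^^^ x.a2 &&& x.b8 &&& x.b8)
  (x.a3 ^^^ x.b2 &&& x.b4 ^^^ x.a2 &&& x.b8)
  (x.b2)
  (x.a2)

instance : Mul W := ⟨mul⟩

/-- `x` where the mask is set, `1` elsewhere -/
def sel (m : ℕ) (x : W) : W := fc x fun x => mk' (m &&& x.a1) (m &&& x.b2) (m &&& x.a2) (m &&& x.a3) (m &&& x.b4)
  (m &&& x.a4) (m &&& x.a5) (m &&& x.b6) (m &&& x.a6) (m &&& x.a7) (m &&& x.b8) (m &&& x.a8)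

/-- the places where `x` and `y` differ -/
def ne (x y : W) : ℕ := fc x fun x => fc y fun y => (x.a1 ^^^ y.a1) ||| (x.b2 ^^^ y.b2) ||| (x.a2 ^^^ y.a2) |||
  (x.a3 ^^^ y.a3) ||| (x.b4 ^^^ y.b4) ||| (x.a4 ^^^ y.a4) ||| (x.a5 ^^^ y.a5) ||| (x.b6 ^^^ y.b6) ||| (x.a6 ^^^ y.a6) |||
  (x.a7 ^^^ y.a7) ||| (x.b8 ^^^ y.b8) ||| (x.a8 ^^^ y.a8)

/-- the mask if bit `k` of `n` is set -/
def mb (m n k : ℕ) : ℕ := Bool.rec 0 m (n.testBit k)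

/-- the element with code `n` where the mask is set -/
def cw (m n : ℕ) : W := mk' (mb m n 0) (mb m n 1) (mb m n 2) (mb m n 3) (mb m n 4) (mb m n 5) (mb m n 6) (mb m n 7)
  (mb m n 8) (mb m n 9) (mb m n 10) (mb m n 11)

/-- the code of the element at place `i` -/
def code (x : W) (i : ℕ) : ℕ := fc x fun x => mb 1 x.a1 i ||| mb 2 x.b2 i ||| mb 4 x.a2 i ||| mb 8 x.a3 i |||
  mb 16 x.b4 i ||| mb 32 x.a4 i ||| mb 64 x.a5 i ||| mb 128 x.b6 i ||| mb 256 x.a6 i ||| mb 512 x.a7 i |||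
  mb 1024 x.b8 i ||| mb 2048 x.a8 i

/-- the element with code `p.2` at place `p.1` -/
def tab : List (ℕ × ℕ) → W :=
  List.rec ⟨0, 0, 0, 0, 0, 0, 0, 0, 0, 0, 0, 0⟩ fun p _ y => fc y fun y => fc (cw (1 <<< p.1) p.2) fun x =>
    mk' (x.a1 ||| y.a1) (x.b2 ||| y.b2) (x.a2 ||| y.a2) (x.a3 ||| y.a3) (x.b4 ||| y.b4) (x.a4 ||| y.a4) (x.a5 ||| y.a5)
      (x.b6 ||| y.b6) (x.a6 ||| y.a6) (x.a7 ||| y.a7) (x.b8 ||| y.b8) (x.a8 ||| y.a8)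

/-- the value at `x` of the homomorphism with the given values on the basis -/
def ap (f : ℕ → W) (x : W) : W := fc x fun x =>
  sel x.a1 (f 0) * sel x.b2 (f 1) * sel x.a2 (f 2) * sel x.a3 (f 3) * sel x.b4 (f 4) * sel x.a4 (f 5) *
    sel x.a5 (f 6) * sel x.b6 (f 7) * sel x.a6 (f 8) * sel x.a7 (f 9) * sel x.b8 (f 10) * sel x.a8 (f 11)

/-- bit `i` is bit `k` of `i`, for `i < 2 ^ n` -/
def vm (k : ℕ) : ℕ → ℕ := Nat.rec 0 fun n v => Bool.rec (v ||| v <<< 2 ^ n) ((2 ^ 2 ^ n - 1) <<< 2 ^ n) (Nat.beq k n)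

end W

open W

theorem vm_succ (k n : ℕ) : vm k (n + 1) = if k = n then (2 ^ 2 ^ n - 1) <<< 2 ^ n else vm k n ||| vm k n <<< 2 ^ n := by
  show Bool.rec (motive := fun _ => ℕ) (vm k n ||| vm k n <<< 2 ^ n) ((2 ^ 2 ^ n - 1) <<< 2 ^ n) (Nat.beq k n) = _
  split_ifs with h
  · rw [Nat.beq_eq.mpr h]
  · rw [Bool.eq_false_iff.2 fun e => h (Nat.eq_of_beq_eq_true e)]

theorem vm_big (k n j : ℕ) (h : 2 ^ n ≤ j) : (vm k n).testBit j = false := by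
  induction n generalizing j with
  | zero => exact Nat.zero_testBit j
  | succ n ih =>
    rw [vm_succ]
    split_ifs
    · simp [Nat.testBit_shiftLeft]; omega
    · rw [Nat.testBit_or, Nat.testBit_shiftLeft, ih j (by omega), ih _ (by omega)]; simp

theorem exists_lane (t : ℕ → Bool) (n : ℕ) : ∃ i < 2 ^ n, ∀ k < n, (vm k n).testBit i = t k := by
  induction n with
  | zero => exact ⟨0, by simp, by simp⟩
  | succ n ih =>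
    obtain ⟨i, hi, h⟩ := ih
    cases e : t n
    · refine ⟨i, by omega, fun k hk => ?_⟩
      rw [vm_succ]
      split_ifs with c
      · simp [Nat.testBit_shiftLeft, c, e]; omega
      · simp [Nat.testBit_shiftLeft, h k (by omega), show ¬ 2 ^ n ≤ i by omega]
    · refine ⟨i + 2 ^ n, by omega, fun k hk => ?_⟩
      rw [vm_succ]
      split_ifs with c
      · simp [Nat.testBit_shiftLeft, c, e, hi]
      · simp [Nat.testBit_shiftLeft, h k (by omega), vm_big k n (i + 2 ^ n) (by omega)]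

variable {K : Type*} [Field K] [CharP K 2] {P : Par K} {i m n : ℕ}

/-- bit `i` of `n` in the field -/
def bt (K : Type*) [Field K] (n i : ℕ) : K := Bool.rec 0 1 (n.testBit i)

theorem bt_xor : bt K (m ^^^ n) i = bt K m i + bt K n i := by
  unfold bt; rw [Nat.testBit_xor]; cases m.testBit i <;> cases n.testBit i <;> simp [CharTwo.add_self_eq_zero]
theorem bt_and : bt K (m &&& n) i = bt K m i * bt K n i := by
  unfold bt; rw [Nat.testBit_and]; cases m.testBit i <;> cases n.testBit i <;> simp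
theorem bt_σ : P.σ (bt K n i) = bt K n i := by unfold bt; cases n.testBit i <;> simp
theorem bt_pow (k : ℕ) [k.AtLeastTwo] : bt K n i ^ (no_index (OfNat.ofNat k) : ℕ) = bt K n i := by
  unfold bt; cases n.testBit i <;> simp
@[simp] theorem bt_zero : bt K 0 i = 0 := by simp [bt]
theorem bt_one (h : m.testBit i = true) : bt K m i = 1 := by simp [bt, h]
theorem bt_eq_zero : bt K m i = 0 ↔ m.testBit i = false := by unfold bt; cases m.testBit i <;> simp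
theorem bt_inj : bt K m i = bt K n i ↔ (m ^^^ n).testBit i = false := by
  unfold bt; rw [Nat.testBit_xor]; cases m.testBit i <;> cases n.testBit i <;> simp
theorem bt_mb (k : ℕ) : bt K (mb m n k) i = bt K m i * bt K n k := by
  unfold mb; rw [bt.eq_1 K n]; cases n.testBit k <;> simp

/-- the element at place `i` -/
def ev (P : Par K) (i : ℕ) (x : W) : UO P := ⟨bt K x.a1 i, bt K x.b2 i, bt K x.a2 i, bt K x.a3 i, bt K x.b4 i, bt K x.a4 i,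
  bt K x.a5 i, bt K x.b6 i, bt K x.a6 i, bt K x.a7 i, bt K x.b8 i, bt K x.a8 i⟩

/-- the element with code `n` if `t = 1`, the identity if `t = 0` -/
def ck (P : Par K) (t : K) (n : ℕ) : UO P := ⟨t * bt K n 0, t * bt K n 1, t * bt K n 2, t * bt K n 3, t * bt K n 4,
  t * bt K n 5, t * bt K n 6, t * bt K n 7, t * bt K n 8, t * bt K n 9, t * bt K n 10, t * bt K n 11⟩

theorem ev_mul (x y : W) : ev P i (x * y) = ev P i x * ev P i y := by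
  show ev P i (W.mul x y) = _
  ext <;> simp only [W.mul, fc_eq, mk'_eq, ev, mul_a1, mul_b2, mul_a2, mul_a3, mul_b4, mul_a4, mul_a5, mul_b6, mul_a6,
    mul_a7, mul_b8, mul_a8, bt_xor, bt_and, bt_σ, bt_pow]

theorem ev_rn (x : W) : ev P i x.rn = rn (ev P i x) := by
  ext <;> simp only [W.rn, fc_eq, mk'_eq, ev, UO.rn, bt_xor, bt_and, bt_σ, bt_zero]

theorem ev_rp (x : W) : ev P i x.rp = rp (ev P i x) := by
  ext <;> simp only [W.rp, fc_eq, mk'_eq, ev, UO.rp, bt_xor, bt_and, bt_σ, bt_pow, bt_zero]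

theorem ev_sel (x : W) : ev P i (sel m x) = if m.testBit i then ev P i x else 1 := by
  cases e : m.testBit i <;> ext <;> simp [sel, mk'_eq, ev, bt_and, bt.eq_1 K m, e]

theorem ev_cw : ev P i (cw m n) = ck P (bt K m i) n := by simp only [cw, mk'_eq, ev, ck, bt_mb]

theorem ev_cw1 (h : m.testBit i = true) : ev P i (cw m n) = ck P 1 n := by rw [ev_cw, bt_one h]

theorem ne_iff {x y : W} : (W.ne x y).testBit i = false ↔ ev P i x = ev P i y := by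
  simp only [W.ne, fc_eq, Nat.testBit_or, Bool.or_eq_false_iff, ev, UO.mk.injEq, bt_inj, and_assoc]

theorem ck_code (x : W) : ck P 1 (code x i) = ev P i x := by
  have e : ∀ c n k, (mb c n i).testBit k = (c.testBit k && n.testBit i) := fun c n k => by
    unfold mb; cases n.testBit i <;> simp
  ext <;> simp only [ck, code, fc_eq, ev, one_mul, bt, Nat.testBit_or, e] <;> simp [Nat.testBit]

attribute [irreducible] W.mul W.rn W.rp W.sel W.ne W.cw W.code W.tab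

theorem ck_basis (t : K) : ck P t 1 = x1 t ∧ ck P t 2 = y2 t ∧ ck P t 4 = x2 t ∧ ck P t 8 = x3 t ∧ ck P t 16 = y4 t ∧
    ck P t 32 = x4 t ∧ ck P t 64 = x5 t ∧ ck P t 128 = y6 t ∧ ck P t 256 = x6 t ∧ ck P t 512 = x7 t ∧
    ck P t 1024 = y8 t ∧ ck P t 2048 = x8 t := by
  have e : ∀ j k, bt K (2 ^ j) k = if j = k then 1 else 0 := fun j k => by
    unfold bt; rw [Nat.testBit_two_pow]; split_ifs <;> simp [*]
  have f : ∀ j, ck P t (2 ^ j) = ⟨if j = 0 then t else 0, if j = 1 then t else 0, if j = 2 then t else 0,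
      if j = 3 then t else 0, if j = 4 then t else 0, if j = 5 then t else 0, if j = 6 then t else 0,
      if j = 7 then t else 0, if j = 8 then t else 0, if j = 9 then t else 0, if j = 10 then t else 0,
      if j = 11 then t else 0⟩ := fun j => by simp only [ck, e, mul_ite, mul_one, mul_zero]
  exact ⟨f 0, f 1, f 2, f 3, f 4, f 5, f 6, f 7, f 8, f 9, f 10, f 11⟩

theorem ck_zero : ck P 0 n = 1 := by ext <;> simp [ck]

theorem sel_cw (h : m.testBit i = true) (t : ℕ) : ev P i (sel t (cw m n)) = ck P (bt K t i) n := by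
  rw [ev_sel, ev_cw1 h]; unfold bt; cases t.testBit i <;> simp [ck_zero]

/-- the map with the given values on the basis -/
def apK (P : Par K) (c : ℕ → ℕ) (x : UO P) : UO P :=
  ck P x.a1 (c 0) * ck P x.b2 (c 1) * ck P x.a2 (c 2) * ck P x.a3 (c 3) * ck P x.b4 (c 4) * ck P x.a4 (c 5) *
    ck P x.a5 (c 6) * ck P x.b6 (c 7) * ck P x.a6 (c 8) * ck P x.a7 (c 9) * ck P x.b8 (c 10) * ck P x.a8 (c 11)

theorem ev_ap (h : m.testBit i = true) (c : ℕ → ℕ) (x : W) : ev P i (ap (fun j => cw m (c j)) x) = apK P c (ev P i x) := by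
  simp only [ap, fc_eq, ev_mul, sel_cw h]; simp only [apK, ev]

theorem apK_id (x : UO P) : apK P (2 ^ ·) x = x := by
  simp only [apK, Nat.reducePow, ck_basis]; exact (nf x).symm

theorem two_cases (hq : Nat.card K = 2) (t : K) : t = 0 ∨ t = 1 := by
  obtain ⟨y, -, hy⟩ := (Nat.card_eq_two_iff' (0 : K)).1 hq
  exact or_iff_not_imp_left.2 fun h => (hy t h).trans (hy 1 one_ne_zero).symm

/-- any values of the field occur at some place -/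
theorem exists_bt (hq : Nat.card K = 2) (t : ℕ → K) (n : ℕ) : ∃ i, (2 ^ 2 ^ n - 1).testBit i = true ∧
    ∀ k < n, bt K (vm k n) i = t k := by
  classical
  obtain ⟨i, hi, h⟩ := exists_lane (fun k => decide (t k = 1)) n
  refine ⟨i, by simpa using hi, fun k hk => ?_⟩
  rw [bt, h k hk]
  rcases two_cases hq (t k) with e | e <;> simp [e]

/-- all elements -/
def allW : W := mk' (vm 0 12) (vm 1 12) (vm 2 12) (vm 3 12) (vm 4 12) (vm 5 12) (vm 6 12) (vm 7 12) (vm 8 12) (vm 9 12)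
  (vm 10 12) (vm 11 12)

/-- the full mask for `allW` -/
def fm : ℕ := 2 ^ 2 ^ 12 - 1

theorem exists_ev (hq : Nat.card K = 2) (x : UO P) : ∃ i, fm.testBit i = true ∧ ev P i allW = x := by
  obtain ⟨i, hi, h⟩ := exists_bt hq
    (fun k => [x.a1, x.b2, x.a2, x.a3, x.b4, x.a4, x.a5, x.b6, x.a6, x.a7, x.b8, x.a8].getD k 0) 12
  exact ⟨i, hi, by simp [allW, mk'_eq, ev, h]⟩

/-- a submonoid containing the basis elements of a coordinate subgroup -/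
theorem basis_ind (hq : Nat.card K = 2) {A : UO P → Prop} (h1 : A 1) (hm : ∀ x y, A x → A y → A (x * y)) (x : UO P)
    (h : ∀ j < 12, [x.a1, x.b2, x.a2, x.a3, x.b4, x.a4, x.a5, x.b6, x.a6, x.a7, x.b8, x.a8].getD j 0 = 0 ∨
      A (ck P 1 (2 ^ j))) : A x := by
  have e : ∀ j < 12, A (ck P ([x.a1, x.b2, x.a2, x.a3, x.b4, x.a4, x.a5, x.b6, x.a6, x.a7, x.b8, x.a8].getD j 0) (2 ^ j)) :=
    fun j hj => (h j hj).elim (fun e => by rwa [e, ck_zero]) fun h => by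
      rcases two_cases hq ([x.a1, x.b2, x.a2, x.a3, x.b4, x.a4, x.a5, x.b6, x.a6, x.a7, x.b8, x.a8].getD j 0) with e | e
      · rwa [e, ck_zero]
      · rwa [e]
  rw [← apK_id x, apK]
  repeat' apply hm
  exacts [e 0 (by omega), e 1 (by omega), e 2 (by omega), e 3 (by omega), e 4 (by omega), e 5 (by omega), e 6 (by omega),
    e 7 (by omega), e 8 (by omega), e 9 (by omega), e 10 (by omega), e 11 (by omega)]

/-- the test for an automorphism -/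
def chkA (c : ℕ → ℕ) : Bool := fc allW fun X => fc (ap (fun j => cw fm (c j)) X) fun Y =>
  Nat.beq (W.ne X (cw 0 0)) (W.ne Y (cw 0 0)) && (List.range 12).all fun j =>
    Nat.beq (W.ne (ap (fun j => cw fm (c j)) (X * cw fm (2 ^ j))) (Y * ap (fun j => cw fm (c j)) (cw fm (2 ^ j)))) 0

theorem exists_aut [Finite K] (hq : Nat.card K = 2) {c : ℕ → ℕ} (h : chkA c = true) : ∃ β : MulAut (UO P), ∀ x, β x = apK P c x := by
  simp only [chkA, fc_eq, Bool.and_eq_true, List.all_eq_true, List.mem_range, Nat.beq_eq] at h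
  have h0 : apK P c 1 = 1 := by simp [apK, ck_zero]
  have hm : ∀ g x, apK P c (x * g) = apK P c x * apK P c g := fun g =>
    basis_ind hq (A := fun g => ∀ x, apK P c (x * g) = apK P c x * apK P c g) (fun x => by rw [mul_one, h0, mul_one])
      (fun a b ha hb x => by rw [← mul_assoc, hb, ha, hb, mul_assoc]) g fun j hj => .inr fun x => by
        obtain ⟨i, hi, rfl⟩ := exists_ev hq x
        have := (ne_iff (P := P) (i := i)).1 (by rw [h.2 j hj, Nat.zero_testBit])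
        rwa [ev_mul, ev_ap hi, ev_ap hi, ev_ap hi, ev_mul, ev_cw1 hi] at this
  refine ⟨MulEquiv.ofBijective (MonoidHom.mk' (apK P c) fun x g => hm g x) (Finite.injective_iff_bijective.1
    ((injective_iff_map_eq_one _).2 fun x hx => ?_)), fun _ => rfl⟩
  obtain ⟨i, hi, rfl⟩ := exists_ev hq x
  have e : ev P i (cw 0 0) = 1 := by rw [ev_cw, bt_zero, ck_zero]
  rw [← e, ← ne_iff, h.1, ne_iff (P := P), ev_ap hi, e]
  exact hx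

/-- `f` maps the first element to the second -/
def Ok (Q : Subgroup (UO P)) (f : UO P → UO P) (i : ℕ) (u v : W) : Prop := ev P i u ∈ Q ∧ f (ev P i u) = ev P i v

section
variable {Q : Subgroup (UO P)} {f : UO P → UO P} (hf : ∀ x ∈ Q, ∀ y ∈ Q, f (x * y) = f x * f y) {u v u' v' : W}
include hf

theorem hf_one : f 1 = 1 := mul_eq_left.1 (by rw [← hf 1 (one_mem _) 1 (one_mem _), mul_one])

theorem Ok.mul (h : Ok Q f i u v) (h' : Ok Q f i u' v') : Ok Q f i (u * u') (v * v') :=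
  ⟨by rw [ev_mul]; exact mul_mem h.1 h'.1, by rw [ev_mul, ev_mul, hf _ h.1 _ h'.1, h.2, h'.2]⟩

theorem Ok.sel (h : m.testBit i = true → Ok Q f i u v) : Ok Q f i (sel m u) (sel m v) := by
  unfold Ok
  rw [ev_sel, ev_sel]
  split_ifs with e
  exacts [h e, ⟨one_mem _, hf_one hf⟩]

/-- the value of `f` from its values on the basis -/
theorem Ok.ap (hm : m.testBit i = true) {g : ℕ → W} (x : W)
    (h : ∀ j < 12, ([x.a1, x.b2, x.a2, x.a3, x.b4, x.a4, x.a5, x.b6, x.a6, x.a7, x.b8, x.a8].getD j 0).testBit i = true →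
      Ok Q f i (cw m (2 ^ j)) (g j)) : f (ev P i x) = ev P i (ap g x) := by
  have : Ok Q f i (W.ap (fun j => cw m (2 ^ j)) x) (W.ap g x) := by
    simp only [W.ap, fc_eq]
    have e := fun j hj => Ok.sel hf (h j hj)
    exact (((((((((((e 0 (by omega)).mul hf (e 1 (by omega))).mul hf (e 2 (by omega))).mul hf (e 3 (by omega))).mul hf
      (e 4 (by omega))).mul hf (e 5 (by omega))).mul hf (e 6 (by omega))).mul hf (e 7 (by omega))).mul hf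
      (e 8 (by omega))).mul hf (e 9 (by omega))).mul hf (e 10 (by omega))).mul hf (e 11 (by omega))
  rw [← this.2, ev_ap hm, apK_id]

end

/-- a step of a program: `p j * (p k or 1)`, chosen by the coordinate `c` of the first entry of `p j` -/
def step (m : ℕ) (l : List (W × W)) (s : ℕ × ℕ × ℕ) : List (W × W) :=
  fc (l.getD s.1 (cw 0 0, cw 0 0)).1 fun x => fc (l.getD s.1 (cw 0 0, cw 0 0)).2 fun y =>
    fc (x * sel ([x.a1, x.b2, x.a2, x.a3, x.b4, x.a4, x.a5, x.b6, x.a6, x.a7, x.b8, x.a8].getD s.2.2 m)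
      (l.getD s.2.1 (cw 0 0, cw 0 0)).1) fun u =>
    fc (y * sel ([x.a1, x.b2, x.a2, x.a3, x.b4, x.a4, x.a5, x.b6, x.a6, x.a7, x.b8, x.a8].getD s.2.2 m)
      (l.getD s.2.1 (cw 0 0, cw 0 0)).2) fun v => l ++ [(u, v)]

/-- run a program -/
def run (m : ℕ) (p : List (ℕ × ℕ × ℕ)) (l : List (W × W)) : List (W × W) := p.foldl (step m) l

theorem ok_getD {Q : Subgroup (UO P)} {f : UO P → UO P} (hf : ∀ x ∈ Q, ∀ y ∈ Q, f (x * y) = f x * f y)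
    {l : List (W × W)} (h : ∀ p ∈ l, Ok Q f i p.1 p.2) (j : ℕ) :
    Ok Q f i (l.getD j (cw 0 0, cw 0 0)).1 (l.getD j (cw 0 0, cw 0 0)).2 := by
  rw [List.getD_eq_getElem?_getD]
  cases e : l[j]? with
  | none => exact ⟨by simp [ev_cw, ck_zero], by simp [ev_cw, ck_zero, hf_one hf]⟩
  | some p => exact h p (List.mem_of_getElem? e)

theorem ok_run {Q : Subgroup (UO P)} {f : UO P → UO P} (hf : ∀ x ∈ Q, ∀ y ∈ Q, f (x * y) = f x * f y)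
    (p : List (ℕ × ℕ × ℕ)) {l : List (W × W)} (h : ∀ p ∈ l, Ok Q f i p.1 p.2) : ∀ q ∈ run m p l, Ok Q f i q.1 q.2 := by
  induction p generalizing l with
  | nil => exact h
  | cons s p ih =>
    refine ih fun q hq => (List.mem_append.1 hq).elim (h q) fun e => ?_
    rw [List.mem_singleton.1 e]
    exact (ok_getD hf h _).mul hf (Ok.sel hf fun _ => ok_getD hf h _)

end CL.FZ
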