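/-
Fusion systems on a Sylow 2-subgroup of a large Ree group: coordinates of the images of generators for `q = 2`.
-/
import Cfsg.Agent.FZ.Defs2
import Cfsg.Agent.FZ.CH
import Cfsg.Agent.FZ.QB

set_option autoImplicit false
set_option linter.unusedSectionVars false
set_option linter.unusedVariables false
set_option maxRecDepth 20000

namespace CL.FZ

open CL.Oct CL.Oct.UO Cfsg CL.Fus
open scoped commutatorElement Pointwise

variable {K : Type*} [Field K] [CharP K 2] [Finite K] {P : Par K}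

theorem qa_mul {Q : Subgroup (UO P)} (a : MulAut Q) (f : UO P → UO P) (hf : ∀ x : Q, (a x : UO P) = f x) :
    ∀ x ∈ Q, ∀ y ∈ Q, f (x * y) = f x * f y := fun x hx y hy => by
  have h := hf (⟨x, hx⟩ * ⟨y, hy⟩)
  rw [map_mul, Subgroup.coe_mul, hf, hf] at h
  exact h.symm

theorem qa_one (hq : Nat.card K = 2) {t : K} (h : t ≠ 0) : t = 1 := (two_cases hq t).resolve_left h

theorem qa_eq {s t : K} (h : s + t = 0) : s = t := by
  rw [← CharTwo.sub_eq_add] at h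
  exact sub_eq_zero.1 h

theorem q1a (hq : Nat.card K = 2) (a : MulAut (Qp P)) (f : UO P → UO P) (hf : ∀ x : Qp P, (a x : UO P) = f x)
    (h2 : ∀ x ∈ Qp P, f (f x) = x) (hZ : f (x4 1) = x6 1)
    (h3 : ∀ x ∈ Qp P, (fun x => f (x1 1 * x * (x1 1)⁻¹))^[3] x = x) :
    (∀ x ∈ Qp P, ∀ y ∈ Qp P, f (x * y) = f x * f y) ∧ (f (y2 1)).a1 = 0 ∧ (f (y2 1)).b2 = 0 ∧ (f (y2 1)).b8 = 1 ∧
      f (x6 1) = x4 1 ∧ f (x1 1 * f (y2 1) * x1 1) = x1 1 * f (y2 1) * x1 1 := by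
  have hQ : ∀ x ∈ Qp P, f x ∈ Qp P := fun x hx => hf ⟨x, hx⟩ ▸ (a ⟨x, hx⟩).2
  have hy : (y2 1 : UO P) ∈ Qp P := by simp
  have h5 : (x5 1 : UO P) ∈ Qp P := by simp
  have hz : (f (y2 1)).a1 = 0 := hQ _ hy
  have hv : f (x5 1) ∈ Z3 P := hf ⟨_, h5⟩ ▸ (aut_Qp_mem a ⟨_, h5⟩).2.1.2 (by simp)
  have e : ⁅f (y2 1), f (x5 1)⁆ = x6 1 := by
    have e1 : ⁅(y2 1 : UO P), (x5 1 : UO P)⁆ = x4 1 := by
      rw [ua_comm (by simp)]
      ext <;> simp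
    rw [← hZ, ← e1, ← hf ⟨_, hy⟩, ← hf ⟨_, h5⟩, ch_coe, ← map_commutatorElement, hf]
    rfl
  rw [ua_comm hv] at e
  have e6 : (f (y2 1)).b8 * (f (x5 1)).a5 = 1 := by simpa using congrArg UO.a6 e
  have e4 : (f (y2 1)).b2 * (f (x5 1)).a5 = 0 := by
    have := congrArg UO.a4 e
    simp only [mul_a4, hz] at this
    simpa using this
  have i1 : (x1 1 : UO P)⁻¹ = x1 1 := by ext <;> simp
  have m1 : (x1 1 : UO P) * x1 1 = 1 := by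
    nth_rewrite 1 [← i1]
    exact inv_mul_cancel _
  have c : (x1 1 * y2 1 * x1 1 : UO P) = y2 1 := by ext <;> simp [CharTwo.add_self_eq_zero]
  have cQ : ∀ x ∈ Qp P, x1 1 * x * x1 1 ∈ Qp P := fun x hx => by
    have : x.a1 = 0 := hx
    simp [this, CharTwo.add_self_eq_zero]
  refine ⟨qa_mul a f hf, hz, (mul_eq_zero.1 e4).resolve_right (right_ne_zero_of_mul_eq_one e6),
    qa_one hq (left_ne_zero_of_mul_eq_one e6), by rw [← hZ, h2 _ (by simp)], ?_⟩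
  have h := h3 _ hy
  simp only [Function.iterate_succ_apply', Function.iterate_zero_apply, i1, c] at h
  have k := congrArg f h
  rw [h2 _ (cQ _ (hQ _ (cQ _ hz)))] at k
  conv_rhs => rw [← k]
  rw [← mul_assoc, ← mul_assoc, m1, one_mul, mul_assoc (f _), m1, mul_one]

theorem qa_co (hq : Nat.card K = 2) {a b y v : UO P} (ha : a ∈ Qs P) (hb : b ∈ Qs P) (hy : y ∈ Rs P) (hy1 : y.b4 = 1)
    (hv : v ∈ V2 P) (hv1 : v.a2 = 1) (e1 : a * y = y * a * v) (e2 : a * a = 1) (e3 : b * b = v) (e4 : a * b = b * a) :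
    a = ⟨1, 0, a.a2, a.a3, 0, a.a4, a.a5, 0, 0, 0, 0, 0⟩ ∧ b = ⟨b.a1, 1, b.a2, b.a3, 0, b.a4, b.a5, 0, a.a5, 0, 0, 0⟩ ∧
      y = ⟨0, 0, y.a2, y.a3, 1, y.a4, y.a5, 0, a.a5 * b.a1 + b.a5, 0, 0, 0⟩ := by
  have hσ : ∀ t, P.σ t = t := fun t => by rcases two_cases hq t with rfl | rfl <;> simp
  have two : (2 : K) = 0 := CharTwo.two_eq_zero
  have e5 : b * v = v * b := by rw [← e3, mul_assoc]
  obtain ⟨a1, a2, a3, a4, a5, a6, a7, a8, a9, a10, a11, a12⟩ := a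
  obtain ⟨b1, b2, b3, b4, b5, b6, b7, b8, b9, b10, b11, b12⟩ := b
  obtain ⟨y1, y2, y3, y4, y5, y6, y7, y8, y9, y10, y11, y12⟩ := y
  obtain ⟨v1, v2, v3, v4, v5, v6, v7, v8, v9, v10, v11, v12⟩ := v
  obtain ⟨rfl, rfl⟩ : a11 = 0 ∧ a12 = 0 := ha
  obtain ⟨rfl, rfl⟩ : b11 = 0 ∧ b12 = 0 := hb
  obtain ⟨rfl, rfl, rfl, rfl, rfl, rfl⟩ : y1 = 0 ∧ y2 = 0 ∧ y8 = 0 ∧ y10 = 0 ∧ y11 = 0 ∧ y12 = 0 := hy
  obtain ⟨rfl, rfl, rfl, rfl, rfl, rfl, rfl, rfl, rfl, rfl⟩ :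
    v1 = 0 ∧ v2 = 0 ∧ v4 = 0 ∧ v5 = 0 ∧ v7 = 0 ∧ v8 = 0 ∧ v9 = 0 ∧ v10 = 0 ∧ v11 = 0 ∧ v12 = 0 := hv
  obtain rfl : y5 = 1 := hy1
  obtain rfl : v3 = 1 := hv1
  have p2 := congrArg UO.a2 e1
  have p3 := congrArg UO.a3 e1
  have p5 := congrArg UO.a5 e1
  have p6 := congrArg UO.a6 e1
  have p4 := congrArg UO.a4 e1
  have q2 := congrArg UO.a2 e2
  have q4 := congrArg UO.a4 e2
  have r2 := congrArg UO.a2 e3
  have r4 := congrArg UO.a4 e3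
  have r6 := congrArg UO.a6 e3
  have s2 := congrArg UO.a2 e4
  have s4 := congrArg UO.a4 e4
  have t4 := congrArg UO.a4 e5
  simp only [mul_b2, mul_a2, mul_a3, mul_b4, mul_a4, mul_a5, mul_b6, mul_a6, mul_a7, mul_b8, mul_a8, one_a2,
    one_a4, hσ] at p2 p3 p4 p5 p6 q2 q4 r2 r4 r6 s2 s4 t4
  obtain rfl : a1 = 1 := by linear_combination -p2 - two
  obtain rfl : a2 = 0 := by linear_combination -p3
  obtain rfl : a8 = 0 := by linear_combination p5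
  obtain rfl : a10 = 0 := by linear_combination p6
  obtain rfl : a5 = 0 := by linear_combination q2 - a3 * two
  obtain rfl : a9 = 0 := by linear_combination q4 - a6 * two
  obtain rfl : b10 = 0 := by linear_combination t4
  obtain rfl : b8 = 0 := mul_self_eq_zero.1 (by linear_combination r6 - b9 * two)
  obtain rfl : b5 = 0 := by linear_combination -s2
  obtain rfl : b2 = 1 := qa_one hq (left_ne_zero_of_mul_eq_one (b := b2) (by linear_combination r2 - b3 * two))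
  obtain rfl : b9 = a7 := by linear_combination -s4
  obtain rfl : y9 = b9 * b1 + b7 := by linear_combination -p4 + r4 - (b6 + b9 * b1 + b7) * two
  exact ⟨rfl, rfl, rfl⟩

theorem q2a (hq : Nat.card K = 2) (a : MulAut (Qs P)) (f : UO P → UO P) (hf : ∀ x : Qs P, (a x : UO P) = f x)
    (h2 : ∀ x ∈ Qs P, f (f x) = x) (hV : f (x6 1) ∈ V2 P) :
    (∀ x ∈ Qs P, ∀ y ∈ Qs P, f (x * y) = f x * f y) ∧ f (x4 1) = x4 1 ∧ ∃ t : ℕ → K,
      f (x7 1) = ⟨1, 0, t 0, t 1, 0, t 2, t 3, 0, 0, 0, 0, 0⟩ ∧ f (y6 1) = ⟨t 4, 1, t 5, t 6, 0, t 7, t 8, 0, t 3, 0, 0, 0⟩ ∧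
      f (y4 1) = ⟨0, 0, t 9, t 10, 1, t 11, t 12, 0, t 3 * t 4 + t 8, 0, 0, 0⟩ := by
  have hm := qa_mul a f hf
  have hQ : ∀ x ∈ Qs P, f x ∈ Qs P := fun x hx => hf ⟨x, hx⟩ ▸ (a ⟨x, hx⟩).2
  have f1 : f 1 = 1 := by rw [← Subgroup.coe_one (Qs P), ← hf, map_one]
  have m4 : (x4 1 : UO P) ∈ Qs P := by simp
  have m6 : (x6 1 : UO P) ∈ Qs P := by simp
  have m7 : (x7 1 : UO P) ∈ Qs P := by simp
  have n4 : (y4 1 : UO P) ∈ Qs P := by simp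
  have n6 : (y6 1 : UO P) ∈ Qs P := by simp
  have hz : f (x4 1) ∈ Zs P := hf ⟨_, m4⟩ ▸ (aut_Qs_mem a ⟨_, m4⟩).1.2 (by simp)
  have hv : f (x6 1) ∉ Zs P := hf ⟨_, m6⟩ ▸ mt (aut_Qs_mem a ⟨_, m6⟩).1.1 (by simp)
  have hy : f (y4 1) ∈ Rs P := hf ⟨_, n4⟩ ▸ (aut_Qs_mem a ⟨_, n4⟩).2.2.2 (by simp)
  have hy' : f (y4 1) ∉ Ws P := hf ⟨_, n4⟩ ▸ mt (aut_Qs_mem a ⟨_, n4⟩).2.1.1 (by simp)
  refine ⟨hm, ?_, ?_⟩
  · obtain ⟨h0, h1, h2', h3, h4, h5, h6, h7, h8, h9, h10⟩ := hz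
    have e : f (x4 1) = x4 (f (x4 1)).a4 := by ext <;> simp [*]
    rw [e, qa_one hq (t := (f (x4 1)).a4) fun h => ?_]
    rw [h, ua_x4.2 rfl] at e
    have := h2 _ m4
    rw [e, f1, eq_comm, ua_x4] at this
    exact one_ne_zero this
  · obtain ⟨e1, e2, e3⟩ := qa_co hq (hQ _ m7) (hQ _ n6) hy
      (qa_one hq fun h => hy' ⟨hy.1, hy.2.1, h, hy.2.2⟩) hV
      (qa_one hq fun h => hv ⟨hV.1, hV.2.1, h, hV.2.2⟩)
      (by
        rw [← hm _ m7 _ n4, ← hm _ n4 _ m7, ← hm _ (mul_mem n4 m7) _ m6]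
        congr 1
        ext <;> simp)
      (by
        rw [← hm _ m7 _ m7, ← f1]
        congr 1
        ext <;> simp [CharTwo.add_self_eq_zero])
      (by
        rw [← hm _ n6 _ n6]
        congr 1
        ext <;> simp [CharTwo.add_self_eq_zero])
      (by
        rw [← hm _ m7 _ n6, ← hm _ n6 _ m7]
        congr 1
        ext <;> simp)
    exact ⟨fun k => [(f (x7 1)).a2, (f (x7 1)).a3, (f (x7 1)).a4, (f (x7 1)).a5, (f (y6 1)).a1, (f (y6 1)).a2,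
      (f (y6 1)).a3, (f (y6 1)).a4, (f (y6 1)).a5, (f (y4 1)).a2, (f (y4 1)).a3, (f (y4 1)).a4,
      (f (y4 1)).a5].getD k 0, e1, e2, e3⟩

end CL.FZ
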