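/-
Fusion systems on a Sylow 2-subgroup of a large Ree group: tests over the prime field.
-/
import Cfsg.Agent.FZ.QB

set_option autoImplicit false
set_option linter.unusedSectionVars false

noncomputable section

namespace CL.FZ

open CL.Oct CL.Oct.UO W

variable {K : Type*} [Field K] [CharP K 2] {P : Par K} {i m : ℕ}

/-- the union of masks -/
def orL {α : Type} (l : List α) (t : α → ℕ) : ℕ := List.rec 0 (fun p _ r => t p ||| r) l

theorem orL_false {α : Type} {l : List α} {t : α → ℕ} : (orL l t).testBit i = false ↔ ∀ p ∈ l, (t p).testBit i = false := by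
  induction l with
  | nil => simp [orL]
  | cons a l ih => rw [List.forall_mem_cons, ← ih, ← Bool.or_eq_false_iff, ← Nat.testBit_or]; rfl

/-- the places where the identity is not mapped to the identity -/
def bad (m : ℕ) (l : List (W × W)) : ℕ := orL l fun p => (m ^^^ W.ne p.1 (cw 0 0)) &&& W.ne p.2 (cw 0 0)

/-- the places where `β v * G ≠ G * r (β u)` -/
def fail (m : ℕ) (c : ℕ → ℕ) (r : W → W) (G : W) (l : List (W × W)) : ℕ :=
  fc G fun G => orL l fun p => W.ne (ap (fun j => cw m (c j)) p.2 * G) (G * r (ap (fun j => cw m (c j)) p.1))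

/-- the places where the basis is not reached -/
def nb (m : ℕ) (l : List (W × W)) (ld : List (ℕ × ℕ)) : ℕ :=
  orL ld fun p => W.ne (l.getD p.2 (cw 0 0, cw 0 0)).1 (cw m (2 ^ p.1))

/-- the places of a table -/
def msk (l : List (ℕ × ℕ)) : ℕ := orL l fun p => 1 <<< p.1

theorem ev_one : ev P i (cw 0 0) = 1 := by rw [ev_cw, bt_zero, ck_zero]

section
variable {Q : Subgroup (UO P)} {f f' : UO P → UO P} (hf : ∀ x ∈ Q, ∀ y ∈ Q, f (x * y) = f x * f y) {l : List (W × W)}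
include hf

theorem bad_false (h : ∀ p ∈ l, Ok Q f i p.1 p.2) (hm : m.testBit i = true) : (bad m l).testBit i = false :=
  orL_false.2 fun p hp => by
    rw [Nat.testBit_and, Nat.testBit_xor, hm]
    cases e : (W.ne p.1 (cw 0 0)).testBit i
    · rw [(ne_iff (P := P)).2 (by rw [← (h p hp).2, ne_iff.1 e, ev_one, hf_one hf]), Bool.and_false]
    · rfl

theorem of_basis (hq : Nat.card K = 2) (hf' : ∀ x ∈ Q, ∀ y ∈ Q, f' (x * y) = f' x * f' y) (x : UO P)
    (h : ∀ j < 12, [x.a1, x.b2, x.a2, x.a3, x.b4, x.a4, x.a5, x.b6, x.a6, x.a7, x.b8, x.a8].getD j 0 = 0 ∨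
      (ck P 1 (2 ^ j) ∈ Q ∧ f (ck P 1 (2 ^ j)) = f' (ck P 1 (2 ^ j)))) : f x = f' x :=
  (basis_ind hq (A := fun y => y ∈ Q ∧ f y = f' y) ⟨one_mem _, (hf_one hf).trans (hf_one hf').symm⟩
    (fun a b ha hb => ⟨mul_mem ha.1 hb.1, by rw [hf _ ha.1 _ hb.1, hf' _ ha.1 _ hb.1, ha.2, hb.2]⟩) x h).2

theorem ok_basis (h : ∀ p ∈ l, Ok Q f i p.1 p.2) {ld : List (ℕ × ℕ)}
    (hb : (nb m l ld).testBit i = false) {p : ℕ × ℕ} (hp : p ∈ ld) :
    Ok Q f i (cw m (2 ^ p.1)) (l.getD p.2 (cw 0 0, cw 0 0)).2 := by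
  have := ok_getD hf h p.2
  unfold Ok at this ⊢
  rwa [ne_iff.1 (orL_false.1 hb p hp)] at this

/-- `f` is conjugate to `r` modulo inner automorphisms -/
theorem cls (hq : Nat.card K = 2) {r : UO P → UO P} (hr : ∀ x ∈ Q, ∀ y ∈ Q, r (x * y) = r x * r y) {rW : W → W}
    (hW : ∀ x, ev P i (rW x) = r (ev P i x)) {β : MulAut (UO P)} {c : ℕ → ℕ} (hβ : ∀ x, β x = apK P c x)
    (hQ : ∀ x ∈ Q, β x ∈ Q) (h : ∀ p ∈ l, Ok Q f i p.1 p.2) (hm : m.testBit i = true) {G : W}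
    (hF : (fail m c rW G l).testBit i = false) {p : List (ℕ × ℕ × ℕ)} {ld : List (ℕ × ℕ)}
    (hb : (nb m (run m p l) ld).testBit i = false) {x : UO P}
    (hx : ∀ j < 12, [x.a1, x.b2, x.a2, x.a3, x.b4, x.a4, x.a5, x.b6, x.a6, x.a7, x.b8, x.a8].getD j 0 = 0 ∨
      j ∈ ld.map Prod.fst) : β (f x) = ev P i G * r (β x) * (ev P i G)⁻¹ := by
  obtain ⟨f', e⟩ : ∃ f' : UO P → UO P, ∀ x, f' x = β.symm (ev P i G * r (β x) * (ev P i G)⁻¹) := ⟨_, fun _ => rfl⟩
  have hf' : ∀ x ∈ Q, ∀ y ∈ Q, f' (x * y) = f' x * f' y := fun x hx y hy => by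
    rw [e, e, e, map_mul β, hr _ (hQ x hx) _ (hQ y hy), ← map_mul]; congr 1; group
  have h' : ∀ p ∈ l, Ok Q f' i p.1 p.2 := fun p hp => ⟨(h p hp).1, by
    have := (ne_iff (P := P)).1 (orL_false.1 hF p hp)
    rw [ev_mul, ev_mul, hW, ev_ap hm, ev_ap hm, ← hβ, ← hβ] at this
    rw [e, ← this, mul_inv_cancel_right, MulEquiv.symm_apply_apply]⟩
  rw [of_basis hf hq hf' x fun j hj => (hx j hj).imp_right fun e => ?_, e, MulEquiv.apply_symm_apply]
  obtain ⟨q, hq, rfl⟩ := List.mem_map.1 e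
  have a := ok_basis hf (ok_run hf p h) hb hq
  have b := ok_basis hf' (ok_run hf' p h') hb hq
  unfold Ok at a b
  rw [ev_cw1 hm] at a b
  exact ⟨a.1, a.2.trans b.2.symm⟩

end

end CL.FZ
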