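/-
Fusion systems on a Sylow 2-subgroup of a large Ree group: the reflection on `Qp` over the prime field.
-/
import Cfsg.Agent.FZ.QA
import Cfsg.Agent.FZ.QC

set_option autoImplicit false
set_option linter.unusedSectionVars false

noncomputable section

namespace CL.FZ

open CL.Oct CL.Oct.UO W

variable {K : Type*} [Field K] [CharP K 2] [Finite K] {P : Par K}

namespace Q1

def m : ℕ := 2 ^ 2 ^ 9 - 1

def Z : W := mk' 0 0 (vm 0 9) (vm 1 9) (vm 2 9) (vm 3 9) (vm 4 9) (vm 5 9) (vm 6 9) (vm 7 9) m (vm 8 9)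

def l0 : List (W × W) := fc Z fun Z => fc (cw m 1 * Z * cw m 1) fun E =>
  [(cw m 2, Z), (Z, cw m 2), (E, E), (cw m 32, cw m 256), (cw m 256, cw m 32)]

def pr : List (ℕ × ℕ × ℕ) :=
  [(0, 0, 1), (1, 1, 10), (6, 4, 8), (7, 3, 5), (2, 2, 12), (9, 8, 11), (10, 5, 2), (11, 4, 8), (12, 3, 5), (10, 10,
  12), (14, 3, 5), (0, 10, 12), (16, 0, 1), (17, 13, 4), (18, 4, 8), (19, 3, 5), (0, 6, 12), (21, 0, 1), (22, 8,
  11), (23, 5, 2), (24, 15, 6), (25, 4, 8), (26, 3, 5), (2, 21, 12), (28, 1, 10), (29, 13, 4), (30, 5, 2), (31, 20,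
  3), (32, 15, 6), (33, 4, 8), (34, 3, 5), (13, 35, 7), (36, 27, 9), (37, 20, 3), (38, 15, 6), (39, 4, 8), (8, 27,
  9), (41, 20, 3), (42, 15, 6), (43, 4, 8), (1, 44, 11), (45, 40, 4), (46, 35, 7), (47, 5, 2), (48, 27, 9), (49, 20,
  3), (50, 15, 6), (51, 4, 8), (52, 3, 5), (3, 40, 12), (54, 40, 4), (5, 5, 12)]

def ld : List (ℕ × ℕ) := [(1, 0), (2, 5), (3, 20), (4, 40), (5, 3), (6, 15), (7, 35), (8, 4), (9, 27), (10, 53), (11, 44)]

/-- automorphisms, the element for `rn`, the elements for `rp` -/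
def dt : List (List ℕ × ℕ × List (ℕ × ℕ)) :=
  [([1, 2, 4, 8, 16, 32, 64, 128, 256, 512, 1024, 2048], 0, [(0, 0), (24, 520), (46, 1030), (62, 1550), (74, 2572),
  (82, 2052), (100, 3594), (116, 3074)]), ([1, 34, 4, 8, 16, 32, 64, 160, 256, 544, 1032, 2144], 260, [(8, 2572),
  (16, 2052), (38, 3594), (54, 3074), (66, 0), (90, 520), (108, 1030), (124, 1550)]), ([1, 34, 4, 8, 48, 32, 64,
  160, 256, 512, 1024, 2048], 0, [(10, 2572), (18, 2052), (36, 3594), (52, 3074), (64, 0), (88, 520), (110, 1030),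
  (126, 1550)]), ([1, 2, 4, 8, 48, 32, 64, 128, 256, 544, 1032, 2144], 260, [(2, 0), (26, 520), (44, 1030), (60,
  1550), (72, 2572), (80, 2052), (102, 3594), (118, 3074)]), ([1, 38, 4, 40, 80, 32, 64, 384, 256, 832, 1552, 2336],
  458, [(288, 3594), (306, 1030), (354, 1550), (368, 3074), (388, 0), (414, 2572), (454, 2052), (476, 520)]), ([1,
  38, 4, 40, 80, 32, 64, 384, 256, 832, 1584, 2336], 458, [(296, 3594), (314, 1030), (362, 1550), (376, 3074), (396,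
  0), (406, 2572), (462, 2052), (468, 520)]), ([1, 6, 4, 40, 88, 32, 96, 384, 256, 512, 1664, 2816], 0, [(290,
  2052), (304, 520), (352, 0), (370, 2572), (390, 3594), (412, 1030), (452, 1550), (478, 3074)]), ([1, 6, 4, 40, 88,
  32, 96, 384, 256, 512, 1696, 2816], 0, [(298, 2052), (312, 520), (360, 0), (378, 2572), (398, 3594), (404, 1030),
  (460, 1550), (470, 3074)])]

def l1 : List (W × W) := (List.range 10).map fun j => (cw 1 (2 ^ j), (cw 1 (2 ^ j)).rn)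

def ld1 : List (ℕ × ℕ) := (List.range 10).map fun j => (j, j)

theorem c1 : bad m (run m pr l0) ||| orL dt (fun d => msk d.2.2) = m ∧
    nb m (run m pr l0) ld &&& orL dt (fun d => msk d.2.2) = 0 := by decide +kernel

theorem c2 : ∀ d ∈ dt, (fail m (d.1.getD · 0) W.rp (tab d.2.2) l0 ||| (tab d.2.2).a1) &&& msk d.2.2 = 0 := by
  decide +kernel

theorem c3 : ∀ d ∈ dt, chkA (d.1.getD · 0) = true := by decide +kernel

theorem c4 : nb 1 (run 1 [] l1) ld1 = 0 ∧ ∀ d ∈ dt, fail 1 (d.1.getD · 0) W.rn (cw 1 d.2.1) l1 = 0 ∧ d.2.1.testBit 10 = false ∧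
    d.2.1.testBit 11 = false := by decide +kernel

theorem ok1 : ∀ p ∈ l1, Ok (Qs P) rn 0 p.1 p.2 := by
  simp only [l1, List.forall_mem_map, List.mem_range]
  refine fun j hj => ⟨?_, (ev_rn _).symm⟩
  rw [ev_cw]
  exact ⟨mul_eq_zero_of_right _ (bt_eq_zero.2 (Nat.testBit_two_pow_of_ne (by omega))),
    mul_eq_zero_of_right _ (bt_eq_zero.2 (Nat.testBit_two_pow_of_ne (by omega)))⟩

end Q1

open Q1 in
theorem q2m (hq : Nat.card K = 2) (a : MulAut (Qp P)) (f : UO P → UO P) (hf : ∀ x : Qp P, (a x : UO P) = f x)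
    (h2 : ∀ x ∈ Qp P, f (f x) = x) (hZ : f (x4 1) = x6 1)
    (h3 : ∀ x ∈ Qp P, (fun x => f (x1 1 * x * (x1 1)⁻¹))^[3] x = x) :
    ∃ β : MulAut (UO P), (∃ g ∈ Qs P, ∀ x ∈ Qs P, β (rn x) = g * rn (β x) * g⁻¹) ∧
      ∃ g ∈ Qp P, ∀ x ∈ Qp P, β (f x) = g * rp (β x) * g⁻¹ := by
  obtain ⟨hm, z1, z2, z8, h6, he⟩ := q1a hq a f hf h2 hZ h3
  obtain ⟨i, hi, ht⟩ := exists_bt hq (fun k => [(f (y2 1)).a2, (f (y2 1)).a3, (f (y2 1)).b4, (f (y2 1)).a4, (f (y2 1)).a5,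
    (f (y2 1)).b6, (f (y2 1)).a6, (f (y2 1)).a7, (f (y2 1)).a8].getD k 0) 9
  replace hi : m.testBit i = true := hi
  have hz : ev P i Z = f (y2 1) := by ext <;> simp [Z, mk'_eq, ev, ht, z1, z2, z8, bt_one hi]
  have h0 : ∀ p ∈ l0, Ok (Qp P) f i p.1 p.2 := by
    simp only [l0, fc_eq, List.forall_mem_cons, List.not_mem_nil, false_imp_iff, imp_true_iff, and_true, Ok, ev_mul,
      ev_cw1 hi, ck_basis, hz, he, h6, hZ, h2 (y2 1) rfl, mem_Qp, z1]
    simp [z1, CharTwo.add_self_eq_zero]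
  have hb := bad_false hm (ok_run hm (m := m) pr h0) hi
  have hT : (orL dt fun d => msk d.2.2).testBit i = true := by
    have := congrArg (·.testBit i) c1.1
    simpa only [Nat.testBit_or, hb, hi, Bool.false_or] using this
  obtain ⟨d, hd, hi'⟩ : ∃ d ∈ dt, (msk d.2.2).testBit i = true := by
    by_contra! h
    rw [orL_false.2 fun d hd => Bool.eq_false_iff.2 (h d hd)] at hT
    cases hT
  have e1 := congrArg (·.testBit i) c1.2
  have e2 := congrArg (·.testBit i) (c2 d hd)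
  simp only [Nat.testBit_and, Nat.testBit_or, hT, hi', Bool.and_true, Nat.zero_testBit, Bool.or_eq_false_iff] at e1 e2
  obtain ⟨β, hβ⟩ := exists_aut (P := P) hq (c3 d hd)
  obtain ⟨e3, e4, e5⟩ := c4.2 d hd
  refine ⟨β, ⟨ev P 0 (cw 1 d.2.1), ?_, fun x hx => cls (fun _ a _ b => rn_mul a b) hq
    (fun _ a _ b => rn_mul a b) ev_rn hβ (fun x => (aut_Qs β x).2) ok1 rfl (by rw [e3]; rfl)
    (p := []) (ld := ld1) (by rw [c4.1]; rfl) fun j hj => ?_⟩,
    ev P i (tab d.2.2), bt_eq_zero.2 e2.2, fun x hx => cls hm hq (fun _ a _ b => rp_mul a b) ev_rp hβ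
      (fun x => (aut_mem β x).2.2.2.1.2) h0 hi e2.1 e1 fun j hj => ?_⟩
  · rw [ev_cw]
    exact ⟨mul_eq_zero_of_right _ (bt_eq_zero.2 e4), mul_eq_zero_of_right _ (bt_eq_zero.2 e5)⟩
  · interval_cases j
    all_goals first | exact .inr (by decide) | exact .inl hx.1 | exact .inl hx.2
  · interval_cases j
    all_goals first | exact .inr (by decide) | exact .inl hx

end CL.FZ
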