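/-
Fusion systems on a Sylow 2-subgroup of a large Ree group: the reflection on `Qs` over the prime field.
-/
import Cfsg.Agent.FZ.QA
import Cfsg.Agent.FZ.QC

set_option autoImplicit false
set_option linter.unusedSectionVars false

noncomputable section

namespace CL.FZ

open CL.Oct CL.Oct.UO W

variable {K : Type*} [Field K] [CharP K 2] [Finite K] {P : Par K}

namespace Q2

def m : ℕ := 2 ^ 2 ^ 15 - 1

def A : W := mk' m 0 (vm 0 15) (vm 1 15) 0 (vm 2 15) (vm 3 15) 0 0 0 0 0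
def B : W := mk' (vm 4 15) m (vm 5 15) (vm 6 15) 0 (vm 7 15) (vm 8 15) 0 (vm 3 15) 0 0 0
def Y : W := mk' 0 0 (vm 9 15) (vm 10 15) m (vm 11 15) (vm 12 15) 0 (vm 3 15 &&& vm 4 15 ^^^ vm 8 15) 0 0 0
def U : W := mk' 0 0 0 0 0 0 0 0 0 0 (vm 13 15) (vm 14 15)

def l0 : List (W × W) := fc A fun A => fc B fun B => fc Y fun Y =>
  [(cw m 512, A), (A, cw m 512), (cw m 128, B), (B, cw m 128), (cw m 16, Y), (Y, cw m 16), (cw m 32, cw m 32)]

def pr : List (ℕ × ℕ × ℕ) :=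
  [(2, 2, 7), (3, 3, 12), (8, 6, 5), (1, 0, 12), (10, 1, 0), (11, 0, 9), (12, 6, 5), (3, 1, 0), (14, 9, 2), (15, 13,
  3), (16, 7, 8), (17, 6, 5), (4, 2, 12), (19, 4, 4), (20, 2, 7), (21, 7, 8), (22, 6, 5), (13, 23, 6), (18, 23, 6),
  (1, 9, 2), (26, 24, 3), (27, 23, 6), (28, 6, 5), (29, 29, 12), (5, 4, 4), (31, 9, 2), (32, 24, 3), (33, 23, 6),
  (34, 7, 8), (35, 6, 5), (29, 2, 12), (37, 29, 0), (38, 2, 7), (39, 9, 2), (40, 24, 3), (41, 7, 8)]

def ld : List (ℕ × ℕ) := [(0, 29), (1, 25), (2, 9), (3, 24), (4, 4), (5, 6), (6, 23), (7, 2), (8, 7), (9, 0)]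

/-- automorphisms, the elements for `rn` -/
def dt : List (List ℕ × List (ℕ × ℕ)) :=
  [([1, 2, 4, 8, 16, 32, 64, 128, 256, 512, 1024, 2048], [(0, 0), (4, 260), (128, 72), (132, 332), (2826, 513),
  (2830, 773), (2954, 585), (2958, 845), (5897, 719), (5901, 971), (6025, 647), (6029, 899), (7171, 134), (7175,
  386), (7299, 206), (7303, 458)]), ([1, 110, 36, 8, 272, 32, 64, 480, 256, 576, 1040, 2080], [(8, 585), (12, 845),
  (136, 513), (140, 773), (2818, 0), (2822, 260), (2946, 72), (2950, 332), (5889, 206), (5893, 458), (6017, 134),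
  (6021, 386), (7179, 719), (7183, 971), (7307, 647), (7311, 899)])]

/-- the table repeated four times -/
def tb (l : List (ℕ × ℕ)) : List (ℕ × ℕ) := l.flatMap fun p => (List.range 4).map fun k => (p.1 + 8192 * k, p.2)

/-- elements which are not conjugate to `y2 1` -/
def nc : List ℕ :=
  [597, 629, 644, 676, 698, 702, 716, 730, 748, 766, 778, 793, 810, 825, 834, 866, 896, 928, 946, 950, 968, 978,
  1000, 1014]

/-- the images of the basis -/
def im (j : ℕ) : W := ((run m pr l0).getD (ld.getD j (0, 0)).2 (cw 0 0, cw 0 0)).2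

def F (x : W) : W := ap im (cw m 2048 * x * cw m 2048)

def Φ : W := ap im (U * ap im (cw m 1024 * ap im (cw m 2) * cw m 3072) * (U * U * U))

theorem c1 : nb m (run m pr l0) ld &&& (m ^^^ bad m (run m pr l0)) = 0 ∧
    bad m (run m pr l0) ||| W.ne (F (F (F (F (F (cw m 2)))))) (cw m 2) ||| orL nc (fun c => m ^^^ W.ne Φ (cw m c)) |||
      orL dt (fun d => msk (tb d.2)) = m := by decide +kernel

theorem c2 : ∀ d ∈ dt, (fail m (d.1.getD · 0) W.rn (tab (tb d.2)) l0 ||| (tab (tb d.2)).b8 ||| (tab (tb d.2)).a8) &&&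
    msk (tb d.2) = 0 ∧ chkA (d.1.getD · 0) = true ∧ d.1.getD 0 0 = 1 ∧ d.1.getD 8 0 = 256 := by decide +kernel

theorem c3 : ∀ c ∈ nc, W.ne (cw fm c * allW) (allW * cw fm 2) = fm := by decide +kernel

theorem u_inv {u : UO P} (h : u ∈ U8 P) : u⁻¹ = u * u * u := by
  obtain ⟨h0, h1, h2, h3, h4, h5, h6, h7, h8, h9⟩ := h
  refine inv_eq_of_mul_eq_one_left ?_
  ext <;> simp [*] <;> grind

end Q2

open Q2 in
theorem q2n (hq : Nat.card K = 2) (a : MulAut (Qs P)) (f : UO P → UO P) (hf : ∀ x : Qs P, (a x : UO P) = f x)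
    (h2 : ∀ x ∈ Qs P, f (f x) = x) (hV : f (x6 1) ∈ V2 P)
    (h5 : ∀ x ∈ Qs P, (fun x => f (x8 1 * x * (x8 1)⁻¹))^[5] x = x)
    (hy : ∃ u ∈ U8 P, ∃ s, ∀ x ∈ Qs P, f (u * f (y8 1 * f x * (y8 1)⁻¹) * u⁻¹) = s * x * s⁻¹) :
    ∃ β : MulAut (UO P), β (x1 1) = x1 1 ∧ β (x6 1) = x6 1 ∧ ∃ g ∈ Qs P, ∀ x ∈ Qs P, β (f x) = g * rn (β x) * g⁻¹ := by
  obtain ⟨hm, h4, t, ha, hb, hc⟩ := q2a hq a f hf h2 hV
  obtain ⟨u, hu, s, hs⟩ := hy
  obtain ⟨i, hi, ht⟩ := exists_bt hq (fun k => if k = 13 then u.b8 else if k = 14 then u.a8 else t k) 15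
  replace hi : m.testBit i = true := hi
  have hQ : ∀ x ∈ Qs P, f x ∈ Qs P := fun x hx => hf ⟨x, hx⟩ ▸ (a _).2
  have eA : ev P i A = f (x7 1) := by simp [A, mk'_eq, ev, ht, ha, bt_one hi]
  have eB : ev P i B = f (y6 1) := by simp [B, mk'_eq, ev, ht, hb, bt_one hi]
  have eY : ev P i Y = f (y4 1) := by simp [Y, mk'_eq, ev, ht, hc, bt_one hi, bt_xor, bt_and]
  have eU : ev P i U = u := by ext <;> simp_all [U, mk'_eq, ev]
  have h0 : ∀ p ∈ l0, Ok (Qs P) f i p.1 p.2 := by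
    have b : x7 1 ∈ Qs P ∧ y6 1 ∈ Qs P ∧ y4 1 ∈ Qs P ∧ x4 1 ∈ Qs P := by simp
    simp only [l0, fc_eq, List.forall_mem_cons, List.not_mem_nil, false_imp_iff, imp_true_iff, and_true, Ok,
      ev_cw1 hi, ck_basis, eA, eB, eY, h4, b, h2, hQ]
  have h1 := ok_run hm (m := m) pr h0
  have hB := bad_false hm h1 hi
  have e1 := congrArg (·.testBit i) c1.1
  have e2 := congrArg (·.testBit i) c1.2
  simp only [Nat.testBit_and, Nat.testBit_or, Nat.testBit_xor, hi, hB, Bool.xor_false, Bool.and_true, Nat.zero_testBit,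
    Bool.false_or] at e1 e2
  have hap : ∀ x, ev P i x ∈ Qs P → ev P i (ap im x) = f (ev P i x) := fun x hx => (Ok.ap hm hi x fun j hj e => by
    obtain h | rfl | rfl : j < 10 ∨ j = 10 ∨ j = 11 := by omega
    · have k := (by decide : ∀ j < 10, ld.getD j (0, 0) ∈ ld ∧ (ld.getD j (0, 0)).1 = j) j h
      have := ok_basis hm h1 e1 k.1
      rwa [k.2] at this
    · exact absurd ((bt_eq_zero.1 hx.1).symm.trans e) Bool.false_ne_true
    · exact absurd ((bt_eq_zero.1 hx.2).symm.trans e) Bool.false_ne_true).symm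
  have hN := fun g x (hx : x ∈ Qs P) => (normal_all P).2.2.2.2.1.conj_mem x hx g
  have hF : ∀ x, ev P i x ∈ Qs P → ev P i (F x) ∈ Qs P ∧ ev P i (F x) = f (x8 1 * ev P i x * (x8 1)⁻¹) := fun x hx => by
    have e : ev P i (cw m 2048 * x * cw m 2048) = x8 1 * ev P i x * (x8 1)⁻¹ := by
      rw [ev_mul, ev_mul, ev_cw1 hi, inv_eq_of_mul_eq_one_left (sq_x 1).2.2.2.2]; simp only [ck_basis]
    rw [F, hap _ (e ▸ hN _ _ hx), e]
    exact ⟨hQ _ (hN _ _ hx), rfl⟩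
  have y2e : ev P i (cw m 2) = y2 1 := by rw [ev_cw1 hi]; simp only [ck_basis]
  have y2m : ev P i (cw m 2) ∈ Qs P := by simp [y2e]
  have g1 := hF _ y2m
  have g2 := hF _ g1.1
  have g3 := hF _ g2.1
  have g4 := hF _ g3.1
  have g5 := h5 _ y2m
  simp only [Function.iterate_succ_apply', Function.iterate_zero_apply] at g5
  rw [(ne_iff (P := P)).2 (by rw [(hF _ g4.1).2, g4.2, g3.2, g2.2, g1.2, g5]), Bool.false_or,
    orL_false.2 fun c hc => ?_, Bool.false_or] at e2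
  · obtain ⟨d, hd, hi'⟩ : ∃ d ∈ dt, (msk (tb d.2)).testBit i = true := by
      by_contra! h
      rw [orL_false.2 fun d hd => Bool.eq_false_iff.2 (h d hd)] at e2
      cases e2
    obtain ⟨k1, k2, k3, k4⟩ := c2 d hd
    replace k1 := congrArg (·.testBit i) k1
    simp only [Nat.testBit_and, Nat.testBit_or, hi', Bool.and_true, Nat.zero_testBit, Bool.or_eq_false_iff] at k1
    obtain ⟨β, hβ⟩ := exists_aut (P := P) hq k2
    refine ⟨β, by simp [hβ, apK, ck_zero, -List.getD_eq_getElem?_getD, k3, ck_basis],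
      by simp [hβ, apK, ck_zero, -List.getD_eq_getElem?_getD, k4, ck_basis], ev P i (tab (tb d.2)),
      ⟨bt_eq_zero.2 k1.1.2, bt_eq_zero.2 k1.2⟩, fun x hx => cls hm hq (fun _ a _ b => rn_mul a b) ev_rn hβ
        (fun x => (aut_Qs β x).2) h0 hi k1.1.1 e1 fun j hj => ?_⟩
    interval_cases j
    all_goals first | exact .inr (by decide) | exact .inl hx.1 | exact .inl hx.2
  · have e : ev P i (cw m 1024 * ap im (cw m 2) * cw m 3072) = y8 1 * f (y2 1) * (y8 1)⁻¹ := by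
      rw [ev_mul, ev_mul, hap _ y2m, y2e, ev_cw1 hi, ev_cw1 hi, (ck_basis 1).2.2.2.2.2.2.2.2.2.2.1]
      congr 1
      ext <;> simp [ck, bt, Nat.testBit]
    have m1 := hN (y8 1) _ (hQ _ (y2e ▸ y2m))
    have e' : ev P i (U * ap im (cw m 1024 * ap im (cw m 2) * cw m 3072) * (U * U * U)) =
        u * f (y8 1 * f (y2 1) * (y8 1)⁻¹) * u⁻¹ := by
      rw [ev_mul, ev_mul, ev_mul, ev_mul, hap _ (e ▸ m1), e, eU, u_inv hu]
    obtain ⟨k, hk, rfl⟩ := exists_ev hq s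
    rw [Nat.testBit_xor, hi, Bool.true_xor, Bool.not_eq_false', ← Bool.not_eq_false, ne_iff (P := P), Φ,
      hap _ (e' ▸ hN _ _ (hQ _ m1)), e', hs _ (y2e ▸ y2m), ev_cw1 hi, mul_inv_eq_iff_eq_mul]
    intro h
    have := (ne_iff (P := P) (i := k) (x := cw fm c * allW) (y := allW * cw fm 2)).2
      (by rw [ev_mul, ev_mul, ev_cw1 hk, ev_cw1 hk, ← h]; simp only [ck_basis])
    rw [c3 c hc, hk] at this
    cases this

end CL.FZ
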