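/-
Fusion systems on a Sylow 2-subgroup of a large Ree group: torus and reflection in the automizer of `Qp`.
-/
import Cfsg.Agent.FZ.Defs2
import Cfsg.Agent.FZ.P1
import Cfsg.Agent.FZ.CH
import Cfsg.Agent.FZ.BN
import Cfsg.Agent.FZ.CN
import Cfsg.Agent.Grp.SZConj

set_option autoImplicit false
set_option linter.unusedSectionVars false
set_option maxRecDepth 20000

namespace CL.FZ

open CL.Oct CL.Oct.UO Cfsg CL.Fus
open scoped commutatorElement Pointwise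

variable {K : Type*} [Field K] [CharP K 2] [Finite K] {P : Par K}

/-- the elements of `A` acting trivially on `Z3 / Vs` -/
def w1C (A : Subgroup (MulAut (Qp P))) : Subgroup (MulAut (Qp P)) where
  carrier := {a | a ∈ A ∧ ∀ v : Qp P, (v : UO P) ∈ Z3 P → (a v : UO P).a5 = (v : UO P).a5}
  one_mem' := ⟨one_mem _, fun _ _ => rfl⟩
  mul_mem' := fun {_ b} ha hb =>
    ⟨mul_mem ha.1 hb.1, fun v hv => (ha.2 _ ((aut_Qp_mem b v).2.1.2 hv)).trans (hb.2 v hv)⟩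
  inv_mem' := fun {a} ha => ⟨inv_mem ha.1, fun v hv => by
    have := ha.2 (a⁻¹ v) ((aut_Qp_mem a⁻¹ v).2.1.2 hv)
    rw [MulAut.apply_inv_self] at this
    exact this.symm⟩

theorem w1_a5 {v w : UO P} (hv : v ∈ Z3 P) (hw : w ∈ Z3 P) : v⁻¹ * w ∈ Vs P ↔ w.a5 = v.a5 := by
  obtain ⟨h0, h1, h2, h3, h4, h5, h6, h7, h8⟩ := hv
  obtain ⟨k0, k1, k2, k3, k4, k5, k6, k7, k8⟩ := hw
  simp [*, CharTwo.add_eq_zero, eq_comm]

theorem w1_conj_a5 (s : UO P) {v : UO P} (hv : v ∈ Z3 P) : (s * v * s⁻¹).a5 = v.a5 := by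
  refine (w1_a5 hv (nZ3.conj_mem _ hv s)).1 ?_
  have := c_Z3 (inv_mem hv) s
  rwa [commutatorElement_def, inv_inv, mul_assoc, mul_assoc, ← mul_assoc s] at this

theorem w1_norm (A : Subgroup (MulAut (Qp P))) : A ≤ Subgroup.normalizer (w1C A : Set (MulAut (Qp P))) := fun b hb => by
  refine Subgroup.mem_normalizer_fintype fun a ha => ⟨mul_mem (mul_mem hb ha.1) (inv_mem hb), fun v hv => ?_⟩
  have h1 := (aut_Qp_mem b⁻¹ v).2.1.2 hv
  have h2 := (w1_a5 h1 ((aut_Qp_mem a _).2.1.2 h1)).2 (ha.2 _ h1)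
  have h3 := (aut_Qp_mem b ((b⁻¹ v)⁻¹ * a (b⁻¹ v))).1.2 h2
  rw [map_mul, map_inv, MulAut.apply_inv_self] at h3
  exact (w1_a5 hv ((aut_Qp_mem (b * a * b⁻¹) v).2.1.2 hv)).1 h3

theorem w1_memI {s : UO P} : (MulAut.conjNormal s : MulAut (Qp P)) ∈ Inn (Qp P) ↔ s ∈ Qp P := by
  refine ⟨fun h => ?_, fun h => mem_I.2 ⟨s, h, rfl⟩⟩
  obtain ⟨r, hr, e⟩ := mem_I.1 h
  have e1 := congrArg Subtype.val (DFunLike.congr_fun e ⟨x4 0 * x6 1, by simp⟩)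
  rw [MulAut.conjNormal_apply, MulAut.conjNormal_apply, conj_v, conj_v, show r.a1 = 0 from hr] at e1
  simpa using congrArg UO.a4 e1

theorem w1_x5 (s : UO P) (p : Kˣ × Kˣ) (γ : RingAut K) (u : K) :
    ((MulAut.conj s * dg P p * fld P γ) (x5 u)).a5 = c5 P p * γ u := by
  rw [MulAut.mul_apply, MulAut.mul_apply, MulAut.conj_apply, w1_conj_a5 s (by simp [fld_apply])]
  simp [fld_apply]

theorem w1_ex (P : Par K) (p : Kˣ × Kˣ) : ∃ b : MulAut (Qp P), Res (dg P p) b :=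
  exists_res (dg P p) fun x => (dg_mem p x).2.1

/-- the restriction of the torus to `Qp` -/
noncomputable def w1d (P : Par K) : Kˣ × Kˣ →* MulAut (Qp P) :=
  MonoidHom.mk' (fun p => (w1_ex P p).choose) fun p q =>
    (w1_ex P (p * q)).choose_spec.eq (map_mul (dg P) p q ▸ (w1_ex P p).choose_spec.mul (w1_ex P q).choose_spec)

theorem w1d_res (p : Kˣ × Kˣ) : Res (dg P p) (w1d P p) := (w1_ex P p).choose_spec

theorem w1d_fix (p : Kˣ × Kˣ) : w1d P p • (Zs P).subgroupOf (Qp P) = (Zs P).subgroupOf (Qp P) ∧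
    w1d P p • (V6 P).subgroupOf (Qp P) = (V6 P).subgroupOf (Qp P) := by
  refine ⟨smul_subgroupOf_eq.2 fun x => by rw [w1d_res]; exact (dg_mem p (x : UO P)).2.2.2.1, smul_subgroupOf_eq.2 fun x => ?_⟩
  rw [w1d_res]
  simp [c1, d2, c2, c3, d4, c4, c5, d6, c7, d8, c8]

theorem w1_rp : rpA P • (Zs P).subgroupOf (Qp P) = (V6 P).subgroupOf (Qp P) ∧
    rpA P • (V6 P).subgroupOf (Qp P) = (Zs P).subgroupOf (Qp P) := by
  have h1 : rpA P • (Zs P).subgroupOf (Qp P) = (V6 P).subgroupOf (Qp P) := by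
    have f1 : ∀ x : UO P, x ∈ Zs P → rp x ∈ V6 P := fun x hx => by
      obtain ⟨h0, h1, h2, h3, h4, h5, h6, h7, h8, h9, h10⟩ := hx
      simp [*]
    have f2 : ∀ x : UO P, x ∈ V6 P → rp x ∈ Zs P := fun x hx => by
      obtain ⟨h0, h1, h2, h3, h4, h5, h6, h7, h8, h9, h10⟩ := hx
      simp [*]
    exact smul_subgroupOf_eq.2 fun x => ⟨fun h => rp_rp x.2 ▸ f2 _ h, f1 _⟩
  refine ⟨h1, ?_⟩
  rw [← h1, ← mul_smul, show rpA P * rpA P = 1 from MulEquiv.ext fun x => Subtype.ext (rp_rp x.2), one_smul]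

theorem w1_rp5 {v : UO P} (hv : v ∈ Z3 P) : (rp v).a5 = v.a5 := by
  obtain ⟨k0, k1, k2, k3, k4, k5, k6, k7, k8⟩ := hv
  simp [*]

theorem w1_rpd (p : Kˣ × Kˣ) : rpA P * w1d P p * (rpA P)⁻¹ = w1d P (sp p) :=
  mul_inv_eq_iff_eq_mul.2 (MulEquiv.ext fun x => Subtype.ext (by
    rw [MulAut.mul_apply, MulAut.mul_apply, rpA_apply, w1d_res, w1d_res, rpA_apply, rp_dg p x.2]))

theorem w1_lin {a : MulAut (Qp P)} (ha : ∀ v : Qp P, (v : UO P) ∈ Z3 P → (a v : UO P).a5 = (v : UO P).a5) (g x : Qp P)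
    (c : K) (hx : (x : UO P) = x4 (g.1.b2 * c) * x6 (g.1.b8 * c)) :
    (a x : UO P) = x4 ((a g).1.b2 * c) * x6 ((a g).1.b8 * c) := by
  have hv : (x5 c : UO P) ∈ Z3 P := by simp
  have e : x = ⁅g, ⟨x5 c, hv.1⟩⁆ := Subtype.ext (by
    rw [hx, ← ch_coe, ua_comm hv, show g.1.a1 = 0 from g.2]; simp)
  rw [e, map_commutatorElement, ← ch_coe, ua_comm ((aut_Qp_mem a _).2.1.2 hv), ha _ hv, show (a g).1.a1 = 0 from (a g).2]
  simp

/-- an automorphism fixing both lines, trivial on `Z3 / Vs` and normalizing the torus is diagonal -/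
theorem w1_diag (hq : 2 < Nat.card K) {a : MulAut (Qp P)}
    (ha : ∀ v : Qp P, (v : UO P) ∈ Z3 P → (a v : UO P).a5 = (v : UO P).a5)
    (h0 : a • (Zs P).subgroupOf (Qp P) = (Zs P).subgroupOf (Qp P))
    (h1 : a • (V6 P).subgroupOf (Qp P) = (V6 P).subgroupOf (Qp P))
    (hn : ∀ p, ∃ q, a * w1d P p * a⁻¹ = w1d P q) : ∃ r, a = w1d P r := by
  rw [smul_subgroupOf_eq] at h0 h1
  obtain ⟨κ, hκ⟩ : ∃ κ, ∀ c, (a ⟨x4 c, by simp⟩ : UO P) = x4 (κ * c) := ⟨(a ⟨y2 1, by simp⟩).1.b2, fun c => by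
    have e := w1_lin ha ⟨y2 1, by simp⟩ ⟨x4 c, by simp⟩ c (by ext <;> simp)
    have e6 := ((h0 ⟨x4 c, by simp⟩).2 (by simp)).2.2.2.2.2.2.2.1
    rw [e] at e6 ⊢
    simp only [mul_a6, x4_a6, x6_a6] at e6
    ext <;> simp
    simpa using e6⟩
  obtain ⟨μ, hμ⟩ : ∃ μ, ∀ c, (a ⟨x6 c, by simp⟩ : UO P) = x6 (μ * c) := ⟨(a ⟨y8 1, by simp⟩).1.b8, fun c => by
    have e := w1_lin ha ⟨y8 1, by simp⟩ ⟨x6 c, by simp⟩ c (by ext <;> simp)
    have e4 := ((h1 ⟨x6 c, by simp⟩).2 (by simp)).2.2.2.2.2.1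
    rw [e] at e4 ⊢
    ext <;> simp
    simpa using e4⟩
  have hv : ∀ (x : Qp P) (b c : K), (x : UO P) = x4 b * x6 c → (a x : UO P) = x4 (κ * b) * x6 (μ * c) := fun x b c e => by
    rw [show x = ⟨x4 b, by simp⟩ * ⟨x6 c, by simp⟩ from Subtype.ext e, map_mul, Subgroup.coe_mul, hκ, hμ]
  have hκ0 : κ ≠ 0 := fun e => by
    have : a ⟨x4 1, by simp⟩ = 1 := Subtype.ext (by rw [hκ, e, zero_mul]; exact ua_x4.2 rfl)
    exact one_ne_zero (ua_x4.1 (congrArg Subtype.val ((EmbeddingLike.map_eq_one_iff).1 this)))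
  have hμ0 : μ ≠ 0 := fun e => by
    have : a ⟨x6 1, by simp⟩ = 1 := Subtype.ext (by rw [hμ, e, zero_mul]; ext <;> simp)
    simpa using congrArg (fun x : Qp P => x.1.a6) ((EmbeddingLike.map_eq_one_iff).1 this)
  have hc : ∀ p, a * w1d P p = w1d P p * a := fun p => by
    obtain ⟨q, hq⟩ := hn p
    rw [mul_inv_eq_iff_eq_mul] at hq
    have e := congrArg Subtype.val (DFunLike.congr_fun hq ⟨x4 1 * x6 1, by simp⟩)
    rw [MulAut.mul_apply, MulAut.mul_apply, hv _ _ _ ((w1d_res p _).trans (dg_v p 1 1)), w1d_res, hv _ 1 1 rfl, dg_v] at e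
    have e4 := congrArg UO.a4 e
    have e6 := congrArg UO.a6 e
    simp only [mul_one, mul_comm κ, mul_comm μ] at e4 e6
    have : p = q := eq_of_c46 (P := P) (by simpa [hκ0] using e4) (by simpa [hμ0] using e6)
    rwa [← this] at hq
  obtain ⟨r, h4, h6⟩ := exists_c46 P hκ0 hμ0
  refine ⟨r, (inv_mul_eq_one.1 (aut_ext fun x hx => ?_)).symm⟩
  rw [autFun_one hx]
  refine psi hq _ (fun x hx => autFun_mem _ hx) (fun x hx y hy => by
    rw [autFun_apply _ hx, autFun_apply _ hy, autFun_apply _ (mul_mem hx hy), ← Subgroup.coe_mul, ← map_mul]; rfl) (fun p x hx => ?_)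
    (fun x hx => ?_) x hx
  · have e : (w1d P r)⁻¹ * a * w1d P p = w1d P p * ((w1d P r)⁻¹ * a) := by
      rw [mul_assoc, hc, ← mul_assoc, ← mul_assoc, ← map_inv, ← map_mul, ← map_mul, mul_comm]
    have e' := congrArg Subtype.val (DFunLike.congr_fun e ⟨x, hx⟩)
    rw [MulAut.mul_apply, MulAut.mul_apply (e₁ := w1d P p), w1d_res, ← autFun_coe, w1d_res, ← autFun_apply _ hx] at e'
    exact e'
  · obtain ⟨b, c, e⟩ := mem_Vs_iff_v.1 hx
    have e' : a ⟨x, hx.1⟩ = w1d P r ⟨x, hx.1⟩ := Subtype.ext (by rw [hv _ b c e, w1d_res, ← h4, ← h6, ← dg_v, ← e])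
    rw [autFun_apply _ hx.1, MulAut.mul_apply, e', MulAut.inv_apply_self]

section
variable {A0 : Subgroup (MulAut (UO P))} {A : Subgroup (MulAut (Qp P))} (h0 : Std0 A0) (h : Rk1 (Qp P) A0 A)
include h0 h

theorem w1_E {a : MulAut (Qp P)} (ha : a ∈ A) (e : a • (Zs P).subgroupOf (Qp P) = (Zs P).subgroupOf (Qp P)) {κ : K}
    (h5 : ∀ u, (a ⟨x5 u, by simp⟩ : UO P).a5 = κ * u) :
    ∃ s p, c5 P p = κ ∧ Res (MulAut.conj s * dg P p) a ∧ dg P p ∈ A0 := by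
  obtain ⟨α, hα, hr⟩ := h.ext a ha (h.pts1.norm a ha e)
  obtain ⟨s, p, γ, rfl, hm⟩ := h0 α hα
  have e5 : ∀ u, c5 P p * γ u = κ * u := fun u => by rw [← h5, hr, w1_x5]
  have e1 : c5 P p = κ := by simpa using e5 1
  have : γ = 1 := RingEquiv.ext fun u => mul_left_cancel₀ (show c5 P p ≠ 0 by simp [c5]) (by rw [e5, e1]; rfl)
  rw [this, map_one, mul_one] at hr hm
  exact ⟨s, p, e1, hr, hm⟩

omit h0 in
theorem w1_TC : autInducedBy ⊤ (Qp P) ≤ w1C A := fun t ht => ⟨h.pts1.le ht, fun v hv => by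
  obtain ⟨s, rfl⟩ := mem_T.1 ht
  exact w1_conj_a5 s hv⟩

theorem torus1 (t : Kˣ) : ∃ p : Kˣ × Kˣ, dg P p ∈ A0 ∧ c5 P p = 1 ∧ p.1 = t := by
  have sq : ∀ u : K, (MulAut.conjNormal (x1 u) * MulAut.conjNormal (x1 u) : MulAut (Qp P)) ∈ Inn (Qp P) := fun u => by
    rw [← map_mul, (sq_x u).1, map_one]; exact one_mem _
  have cm : ∀ s : UO P, ∀ x ∈ autInducedBy ⊤ (Qp P), ⁅(MulAut.conjNormal s : MulAut (Qp P)), x⁆ ∈ Inn (Qp P) :=
    fun s x hx => by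
      obtain ⟨r, rfl⟩ := mem_T.1 hx
      rw [← map_commutatorElement]
      exact w1_memI.2 (c_top s r).1
  obtain ⟨g, hg, e, hI⟩ := h.pts1.trans (w1_TC h) (fun _ h => h.1) (w1_norm A) (mem_T.2 ⟨x1 1, rfl⟩) (mem_T.2 ⟨x1 (t : K), rfl⟩)
    (by rw [w1_memI]; simp) (by rw [w1_memI]; simp) (sq _) (sq _) (cm _) (cm _)
  obtain ⟨s, p, e5, hr, hm⟩ := w1_E h0 h hg.1 e (κ := 1) fun u => by rw [hg.2 _ (by simp)]; simp
  rw [conj_conjNormal hr, ← map_inv, ← map_mul, w1_memI] at hI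
  refine ⟨p, hm, e5, Units.ext ?_⟩
  simp [c1] at hI
  grind

omit h0 in
theorem w1_H (hd : ∀ p, dg P p ∈ A0) : (w1d P).range ≤ A := by
  rintro _ ⟨p, rfl⟩
  obtain ⟨a, ha, e⟩ := h.res _ (hd p)
  exact e.eq (w1d_res p) ▸ ha

theorem w1_J {a : MulAut (Qp P)} (ha : a ∈ A) (e0 : a • (Zs P).subgroupOf (Qp P) = (Zs P).subgroupOf (Qp P))
    (e1 : a • (V6 P).subgroupOf (Qp P) = (V6 P).subgroupOf (Qp P)) {κ : K}
    (h5 : ∀ u, (a ⟨x5 u, by simp⟩ : UO P).a5 = κ * u) : a ∈ Inn (Qp P) ⊔ (w1d P).range := by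
  obtain ⟨s, q, -, hr, -⟩ := w1_E h0 h ha e0 h5
  obtain rfl := hr.eq ((res_conj s).mul (w1d_res q))
  rw [mul_smul, (w1d_fix q).2] at e1
  exact Subgroup.mul_mem_sup ((h.pts1.stab _ (mem_T.2 ⟨s, rfl⟩)).1 e1) ⟨q, rfl⟩

theorem w1_m (hd : ∀ p, dg P p ∈ A0) : ∃ m ∈ w1C A, m • (Zs P).subgroupOf (Qp P) = (V6 P).subgroupOf (Qp P) ∧
    m • (V6 P).subgroupOf (Qp P) = (Zs P).subgroupOf (Qp P) ∧ ∀ p, ∃ q, w1d P q = m * w1d P p * m⁻¹ := by
  have := Fact.mk Nat.prime_two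
  have hp := h.pts1
  obtain ⟨n, hn, n2, e0, e1, -⟩ := hp.swap (w1_TC h) (fun _ h => h.1) (w1_norm A) (mem_T.2 ⟨x1 1, rfl⟩)
    (by rw [w1_memI]; simp) (by rw [← map_mul, (sq_x 1).1, map_one])
  have ni : n⁻¹ = n := inv_eq_of_mul_eq_one_right n2
  have k1 : MulAut.conj n • (w1d P).range ≤ Inn (Qp P) ⊔ (w1d P).range := by
    rw [Grp.conj_smul_le_iff]
    rintro _ ⟨p, rfl⟩
    refine w1_J h0 h (mul_mem (mul_mem hn.1 (w1_H h hd ⟨p, rfl⟩)) (inv_mem hn.1))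
      (by rw [ni, mul_smul, mul_smul, e0, (w1d_fix p).2, e1]) (by rw [ni, mul_smul, mul_smul, e1, (w1d_fix p).1, e0])
      (κ := c5 P p) fun u => ?_
    have f1 := (aut_Qp_mem n⁻¹ ⟨x5 u, by simp⟩).2.1.2 (by simp)
    rw [MulAut.mul_apply, MulAut.mul_apply, hn.2 _ ((aut_Qp_mem _ _).2.1.2 f1), w1d_res, dg_a5,
      (inv_mem hn).2 _ (by simp), x5_a5]
  have nI : MulAut.conj n • Inn (Qp P) = Inn (Qp P) := (Grp.conj_smul_eq_self_iff _ _).2 (hp.nI hn.1)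
  have k2 : (w1d P).range ≤ Inn (Qp P) ⊔ MulAut.conj n • (w1d P).range := by
    have := Subgroup.pointwise_smul_le_pointwise_smul_iff (a := MulAut.conj n) |>.2 k1
    rwa [Grp.conj_smul_conj_smul, n2, map_one, one_smul, Subgroup.smul_sup, nI] at this
  have co : (Nat.card (Inn (Qp P))).Coprime (Nat.card (w1d P).range) := by
    obtain ⟨k, hk⟩ := (hp.two.to_le hp.leI).exists_card_eq
    rw [hk]
    refine Nat.Coprime.pow_left _ (Nat.coprime_two_left.2 (Odd.of_dvd_nat ?_ (Subgroup.card_range_dvd _)))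
    rw [Nat.card_prod]
    exact (odd_units K).mul (odd_units K)
  obtain ⟨i, hi, e⟩ := Grp.schurZassenhaus_conj_of_sup_eq (N := Inn (Qp P)) (H := MulAut.conj n • (w1d P).range)
    (K := (w1d P).range) (by rw [Subgroup.normalizer_eq_top]; exact le_top) (by rwa [Grp.card_conj_smul]) co
    (le_antisymm (sup_le le_sup_left k1) (sup_le le_sup_left k2))
    (.inl (have := (hp.two.to_le hp.leI).isNilpotent; inferInstance))
  rw [Grp.conj_smul_conj_smul] at e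
  exact ⟨i * n, mul_mem (w1_TC h (hp.leI hi)) hn, by rw [mul_smul, e0, (hp.stab i (hp.leI hi)).2 hi],
    by rw [mul_smul, e1, hp.fix i (hp.leI hi)], fun p => (Grp.conj_smul_le_iff _ _ _).1 e.le _ ⟨p, rfl⟩⟩

theorem weyl1 (hq : 2 < Nat.card K) (hd : ∀ p, dg P p ∈ A0) : rpA P ∈ A := by
  obtain ⟨m, hm, e0, e1, e⟩ := w1_m h0 h hd
  obtain ⟨r, hr⟩ := w1_diag hq (a := rpA P * m)
    (fun v hv => by rw [MulAut.mul_apply, rpA_apply, ← hm.2 v hv, w1_rp5 ((aut_Qp_mem m v).2.1.2 hv)])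
    (by rw [mul_smul, e0, w1_rp.2]) (by rw [mul_smul, e1, w1_rp.1]) fun p => by
      obtain ⟨q, hq⟩ := e p
      refine ⟨sp q, ?_⟩
      rw [← w1_rpd, hq]
      simp only [mul_inv_rev, mul_assoc]
  rw [eq_mul_inv_of_mul_eq hr]
  exact mul_mem (w1_H h hd ⟨r, rfl⟩) (inv_mem hm.1)

end

end CL.FZ
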