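/-
Fusion systems on a Sylow 2-subgroup of a large Ree group: torus and reflection in the automiser of `Qs`,
from the rank one pair.
-/
import Cfsg.Agent.FZ.CH
import Cfsg.Agent.FZ.BN
import Cfsg.Agent.FZ.PS
import Cfsg.Agent.FZ.CN
import Cfsg.Agent.Grp.SZConj

set_option autoImplicit false
set_option linter.unusedSectionVars false
set_option linter.unusedVariables false
set_option linter.unusedSimpArgs false
set_option maxRecDepth 20000

namespace CL.FZ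

open CL.Oct CL.Oct.UO Cfsg CL.Fus
open scoped commutatorElement Pointwise

/-- Schur-Zassenhaus: an involution normalising `I D` normalises `D` after correction by an element of `I` -/
theorem w2_sz {Γ D : Type*} [Group Γ] [Finite Γ] [Group D] (I : Subgroup Γ) [hN : I.Normal] (hI : IsPGroup 2 I)
    (hD : Odd (Nat.card D)) (d : D →* Γ) {n : Γ} (n2 : n * n = 1)
    (hJ : ∀ p, ∃ i ∈ I, ∃ q, n * d p * n = i * d q) : ∃ i ∈ I, ∀ p, ∃ q, i * n * d p = d q * (i * n) := by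
  have : Fact (Nat.Prime 2) := ⟨Nat.prime_two⟩
  have ninv : n⁻¹ = n := inv_eq_of_mul_eq_one_right n2
  have hcop : (Nat.card I).Coprime (Nat.card d.range) := by
    obtain ⟨k, hk⟩ := hI.exists_card_eq
    rw [hk]
    exact ((Odd.of_dvd_nat hD (Subgroup.card_range_dvd d)).coprime_two_left).pow_left k
  have hsol : Group.IsSolvable I := by
    have := hI.isNilpotent
    infer_instance
  have hc : Nat.card (MulAut.conj n • d.range : Subgroup Γ) = Nat.card d.range :=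
    Subgroup.card_map_of_injective (f := (MulAut.conj n).toMonoidHom) (MulAut.conj n).injective
  obtain ⟨i, hi, hm⟩ := CL.Grp.schurZassenhaus_conj_of_sup_eq (N := I) (H := MulAut.conj n • d.range)
    (K := d.range) (by rw [Subgroup.normalizer_eq_top]; exact le_top) (by rwa [hc]) hcop (by
      refine le_antisymm (sup_le le_sup_left ?_) (sup_le le_sup_left ?_)
      · rintro _ ⟨_, ⟨p, rfl⟩, rfl⟩
        obtain ⟨i, hi, q, e⟩ := hJ p
        show n * d p * n⁻¹ ∈ _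
        rw [ninv, e]
        exact Subgroup.mul_mem_sup hi ⟨q, rfl⟩
      · rintro _ ⟨p, rfl⟩
        obtain ⟨i, hi, q, e⟩ := hJ p
        have e2 : d p = (n * i * n⁻¹) * (n * d q * n⁻¹) := by
          calc d p = n * (n⁻¹ * d p * n) * n⁻¹ := by group
            _ = n * (i * d q) * n⁻¹ := by rw [← e, ninv]
            _ = _ := by group
        rw [e2]
        exact Subgroup.mul_mem_sup (hN.conj_mem i hi n) ⟨d q, ⟨q, rfl⟩, rfl⟩) (Or.inl hsol)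
  refine ⟨i, hi, fun p => ?_⟩
  have : MulAut.conj (i * n) • d p ∈ MulAut.conj i • MulAut.conj n • d.range := by
    rw [← mul_smul, ← map_mul]
    exact Subgroup.smul_mem_pointwise_smul _ _ _ ⟨p, rfl⟩
  rw [hm] at this
  obtain ⟨q, hq⟩ := this
  exact ⟨q, by rw [hq]; simp [mul_assoc]⟩

variable {K : Type*} [Field K] [CharP K 2] [Finite K] {P : Par K}

/-- `x₄(t)` as an element of `Qs` -/
def w2z (P : Par K) (t : K) : Qs P := ⟨x4 t, rfl, rfl⟩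

/-- `x₆(t)` as an element of `Qs` -/
def w2v (P : Par K) (t : K) : Qs P := ⟨x6 t, rfl, rfl⟩

theorem w2_x4_mem (t : K) : (x4 t : UO P) ∈ Zs P := mem_Zs_iff_x4.2 ⟨t, rfl⟩

theorem w2_conj_x4 (s : UO P) (t : K) : s * x4 t * s⁻¹ = x4 t := by
  rw [← Zs_comm (w2_x4_mem t), mul_inv_cancel_right]

theorem w2_dg_x4 (p : Kˣ × Kˣ) (t : K) : dg P p (x4 t) = x4 (c4 P p * t) := by
  ext <;> simp

theorem w2_dg_x6 (p : Kˣ × Kˣ) (t : K) : dg P p (x6 t) = x6 (c6 P p * t) := by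
  ext <;> simp

theorem w2_x4_inj {s t : K} (h : (x4 s : UO P) = x4 t) : s = t := congrArg UO.a4 h

/-- the automorphisms of `Qs` which are trivial on the centre -/
def w2C (P : Par K) : Subgroup (MulAut (Qs P)) where
  carrier := {a | ∀ t, a (w2z P t) = w2z P t}
  one_mem' := fun _ => rfl
  mul_mem' := fun {a b} ha hb t => by rw [MulAut.mul_apply, hb t, ha t]
  inv_mem' := fun {a} ha t => a.injective (by rw [MulAut.apply_inv_self, ha t])

theorem w2C_normal : (w2C P).Normal := ⟨fun c hc a t => by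
  obtain ⟨u, hu⟩ := mem_Zs_iff_x4.1 ((aut_Qs_mem a⁻¹ (w2z P t)).1.2 (w2_x4_mem t))
  have e : a⁻¹ (w2z P t) = w2z P u := Subtype.ext hu
  rw [MulAut.mul_apply, MulAut.mul_apply, e, hc u, ← e, MulAut.apply_inv_self]⟩

theorem w2_cn_mem (s : UO P) : (MulAut.conjNormal s : MulAut (Qs P)) ∈ w2C P := fun t =>
  Subtype.ext (w2_conj_x4 s t)

theorem w2_memI {x : UO P} : (MulAut.conjNormal x : MulAut (Qs P)) ∈ Inn (Qs P) ↔ x ∈ Qs P := by
  refine ⟨fun h => ?_, fun h => mem_I.2 ⟨x, h, rfl⟩⟩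
  obtain ⟨s, hs, e⟩ := mem_I.1 h
  have h1 : s⁻¹ * x ∈ Zs P := cent_Qs.1 fun g hg => by
    have h2 : x * g * x⁻¹ = s * g * s⁻¹ := congrArg (fun a : MulAut (Qs P) => (a ⟨g, hg⟩ : UO P)) e
    calc s⁻¹ * x * g = s⁻¹ * (x * g * x⁻¹) * x := by group
      _ = g * (s⁻¹ * x) := by rw [h2]; group
  have h3 : s⁻¹ * x ∈ Qs P := ⟨h1.2.2.2.2.2.2.2.2.2.1, h1.2.2.2.2.2.2.2.2.2.2⟩
  simpa using (Qs P).mul_mem hs h3

/-- the torus restricted to `Qs` -/
theorem w2_exd (P : Par K) : ∃ d : Kˣ × Kˣ →* MulAut (Qs P), ∀ p, Res (dg P p) (d p) := by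
  choose f hf using fun p => exists_res (Q := Qs P) (dg P p) fun x => (dg_mem p x).1
  exact ⟨MonoidHom.mk' f fun p q => (hf (p * q)).eq (map_mul (dg P) p q ▸ (hf p).mul (hf q)), hf⟩

theorem w2_dg_V2 (p : Kˣ × Kˣ) {x : UO P} (hx : x ∈ V2 P) : dg P p x ∈ V2 P := by
  obtain ⟨h0, h1, h2, h3, h4, h5, h6, h7, h8, h9⟩ := hx
  simp [h0, h1, h2, h3, h4, h5, h6, h7, h8, h9]

theorem w2_d_fix {p : Kˣ × Kˣ} {a : MulAut (Qs P)} (ha : Res (dg P p) a) :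
    a • (Vs P).subgroupOf (Qs P) = (Vs P).subgroupOf (Qs P) ∧
      a • (V2 P).subgroupOf (Qs P) = (V2 P).subgroupOf (Qs P) := by
  refine ⟨smul_subgroupOf_eq.2 fun x => by rw [ha x]; exact (dg_mem p (x : UO P)).2.2.2.2,
    smul_subgroupOf_eq.2 fun x => ⟨fun h => ?_, fun h => by rw [ha x]; exact w2_dg_V2 p h⟩⟩
  have := w2_dg_V2 p⁻¹ h
  rwa [ha x, map_inv, MulAut.inv_apply_self] at this

theorem w2_rn_V2 {x : UO P} (hx : x ∈ V2 P) : rn x ∈ Vs P := by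
  obtain ⟨h0, h1, h2, h3, h4, h5, h6, h7, h8, h9⟩ := hx
  simp [h0, h1, h2, h3, h4, h5, h6, h7, h8, h9]

theorem w2_rn_x4 (t : K) : rn (x4 t : UO P) = x4 t := by
  ext <;> simp

theorem w2_comm (c : K) : (x4 c : UO P) = ⁅(x1 1 : UO P), (x6 c : UO P)⁆ := by
  rw [ua_comm_V (by simp)]
  simp

section

variable {A0 : Subgroup (MulAut (UO P))} {A : Subgroup (MulAut (Qs P))} (h0 : Std0 A0) (h : Rk1 (Qs P) A0 A)
  (hp : Pts2 A)
include h0 h hp

/-- an element fixing `V` and acting on the centre by a scalar is an inner-diagonal automorphism -/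
theorem w2_E {a : MulAut (Qs P)} (ha : a ∈ A) (e : a • (Vs P).subgroupOf (Qs P) = (Vs P).subgroupOf (Qs P)) {κ : K}
    (hκ : ∀ t, a (w2z P t) = w2z P (κ * t)) :
    ∃ s p, Res (MulAut.conj s * dg P p) a ∧ dg P p ∈ A0 ∧ c4 P p = κ := by
  obtain ⟨α, hα, hr⟩ := h.ext a ha (hp.norm a ha e)
  obtain ⟨s, p, γ, rfl, hA⟩ := h0 α hα
  have h1 : ∀ t, c4 P p * γ t = κ * t := fun t => by
    have h2 : (x4 (κ * t) : UO P) = s * dg P p (fld P γ (x4 t)) * s⁻¹ :=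
      (congrArg Subtype.val (hκ t)).symm.trans (hr (w2z P t))
    have h3 : fld P γ (x4 t) = x4 (γ t) := by ext <;> simp [fld_apply]
    rw [h3, w2_dg_x4, w2_conj_x4] at h2
    exact (w2_x4_inj h2).symm
  have h4 : c4 P p = κ := by simpa using h1 1
  obtain rfl : γ = 1 := RingEquiv.ext fun t => mul_left_cancel₀ (c_ne p).1 ((h1 t).trans (by rw [h4]; rfl))
  rw [map_one, mul_one] at hr hA
  exact ⟨s, p, hr, hA, h4⟩

omit h0 h in
theorem w2_C : autInducedBy ⊤ (Qs P) ≤ A ⊓ w2C P ∧ A ≤ Subgroup.normalizer ((A ⊓ w2C P : Subgroup _) : Set _) := by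
  refine ⟨fun a ha => ⟨hp.le ha, ?_⟩, fun a ha => Subgroup.mem_normalizer_iff.2 fun c => ⟨fun hc => ?_, fun hc => ?_⟩⟩
  · obtain ⟨s, rfl⟩ := mem_T.1 ha
    exact w2_cn_mem s
  · exact ⟨A.mul_mem (A.mul_mem ha hc.1) (A.inv_mem ha), w2C_normal.conj_mem c hc.2 a⟩
  · have h1 := A.mul_mem (A.mul_mem (A.inv_mem ha) hc.1) ha
    have h2 := w2C_normal.conj_mem _ hc.2 a⁻¹
    rw [show a⁻¹ * (a * c * a⁻¹) * a = c by group] at h1
    rw [show a⁻¹ * (a * c * a⁻¹) * a⁻¹⁻¹ = c by group] at h2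
    exact ⟨h1, h2⟩

theorem w2_torus (t : K) (ht : t ≠ 0) : ∃ p : Kˣ × Kˣ, dg P p ∈ A0 ∧ c4 P p = 1 ∧ c8 P p = t := by
  have key : ∀ u : K, u ≠ 0 → (MulAut.conjNormal (x8 u : UO P) : MulAut (Qs P)) ∈ autInducedBy ⊤ (Qs P) ∧
      (MulAut.conjNormal (x8 u : UO P) : MulAut (Qs P)) ∉ Inn (Qs P) ∧
      (MulAut.conjNormal (x8 u : UO P) : MulAut (Qs P)) * MulAut.conjNormal (x8 u : UO P) ∈ Inn (Qs P) ∧
      ∀ x ∈ autInducedBy ⊤ (Qs P), ⁅(MulAut.conjNormal (x8 u : UO P) : MulAut (Qs P)), x⁆ ∈ Inn (Qs P) := by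
    intro u hu
    refine ⟨mem_T.2 ⟨_, rfl⟩, fun e => hu (w2_memI.1 e).2, ?_, fun x hx => ?_⟩
    · rw [← map_mul, (sq_x u).2.2.2.2, map_one]
      exact one_mem _
    · obtain ⟨s, rfl⟩ := mem_T.1 hx
      rw [← map_commutatorElement]
      have := c_Ph (P := P) (x := x8 u) ⟨rfl, rfl⟩ s
      exact w2_memI.2 ⟨this.2.2.1, this.2.2.2⟩
  obtain ⟨a1, a2, a3, a4⟩ := key 1 one_ne_zero
  obtain ⟨b1, b2, b3, b4⟩ := key t ht
  obtain ⟨g, hg, e, hI⟩ := hp.trans (w2_C hp).1 inf_le_left (w2_C hp).2 a1 b1 a2 b2 a3 b3 a4 b4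
  obtain ⟨s, p, hr, hA, h4⟩ := w2_E h0 h hp hg.1 e (κ := 1) fun u => by rw [one_mul]; exact hg.2 u
  refine ⟨p, hA, h4, ?_⟩
  rw [conj_conjNormal hr, ← map_inv, ← map_mul] at hI
  have h5 := (w2_memI.1 hI).2
  simp at h5
  grind

theorem w2_m {d : Kˣ × Kˣ →* MulAut (Qs P)} (hdr : ∀ p, Res (dg P p) (d p)) (hdA : ∀ p, d p ∈ A) :
    ∃ m ∈ A, m ∈ w2C P ∧ m • (Vs P).subgroupOf (Qs P) = (V2 P).subgroupOf (Qs P) ∧ ∀ p, ∃ q, m * d p = d q * m := by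
  have dz : ∀ p t, d p (w2z P t) = w2z P (c4 P p * t) := fun p t => Subtype.ext ((hdr p _).trans (w2_dg_x4 p t))
  obtain ⟨n, hn, n2, n0, n1, -⟩ := hp.swap (w2_C hp).1 inf_le_left (w2_C hp).2
    (s := MulAut.conjNormal (x8 1 : UO P)) (mem_T.2 ⟨_, rfl⟩) (fun e => one_ne_zero (w2_memI.1 e).2)
    (by rw [← map_mul, (sq_x 1).2.2.2.2, map_one])
  have hJ : ∀ p, ∃ i ∈ Inn (Qs P), ∃ q, n * d p * n = i * d q := fun p => by
    obtain ⟨s, q, hr, -, -⟩ := w2_E h0 h hp (a := n * d p * n) (A.mul_mem (A.mul_mem hn.1 (hdA p)) hn.1)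
      (by rw [mul_smul, mul_smul, n0, (w2_d_fix (hdr p)).2, n1]) (κ := c4 P p)
      fun t => by rw [MulAut.mul_apply, MulAut.mul_apply, hn.2 t, dz, hn.2]
    have e : n * d p * n = MulAut.conjNormal s * d q := hr.eq ((res_conj s).mul (hdr q))
    refine ⟨_, (hp.stab _ (mem_T.2 ⟨s, rfl⟩)).1 ?_, q, e⟩
    conv_lhs => rw [← (w2_d_fix (hdr q)).2, ← mul_smul, ← e]
    rw [mul_smul, mul_smul, n1, (w2_d_fix (hdr p)).1, n0]
  obtain ⟨i, hi, hmd⟩ := w2_sz (Inn (Qs P)) (hp.two.to_le hp.leI)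
    (by rw [Nat.card_prod]; exact (odd_units K).mul (odd_units K)) d n2 hJ
  have hiT := hp.leI hi
  refine ⟨i * n, A.mul_mem (hp.le hiT) hn.1, (w2C P).mul_mem ((w2_C hp).1 hiT).2 hn.2, ?_, hmd⟩
  rw [mul_smul, n0, (hp.stab i hiT).2 hi]

end

section

variable {d : Kˣ × Kˣ →* MulAut (Qs P)} (hdr : ∀ p, Res (dg P p) (d p))
include hdr

theorem w2_dz (p : Kˣ × Kˣ) (t : K) : d p (w2z P t) = w2z P (c4 P p * t) :=
  Subtype.ext ((hdr p _).trans (w2_dg_x4 p t))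

theorem w2_dv (p : Kˣ × Kˣ) (t : K) : d p (w2v P t) = w2v P (c6 P p * t) :=
  Subtype.ext ((hdr p _).trans (w2_dg_x6 p t))

theorem w2_rn_d (q : Kˣ × Kˣ) : rnA P * d q = d (sn P q) * rnA P := by
  refine MulEquiv.ext fun x => Subtype.ext ?_
  rw [MulAut.mul_apply, MulAut.mul_apply, rnA_apply, hdr, hdr, rnA_apply, rn_dg _ x.2]

omit hdr in
theorem w2_l {ν : MulAut (Qs P)} (νz : ν ∈ w2C P) (νv : ∀ t, (ν (w2v P t) : UO P) ∈ Vs P) :
    ∃ l : K, ∀ t, l * (ν (w2v P t) : UO P).a6 = t := by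
  refine ⟨(ν ⟨x1 1, rfl, rfl⟩ : UO P).a1, fun t => w2_x4_inj (P := P) ?_⟩
  rw [← ua_comm_V (νv t), ch_coe, ← map_commutatorElement]
  have e : ⁅(⟨x1 1, rfl, rfl⟩ : Qs P), w2v P t⁆ = w2z P t := Subtype.ext (w2_comm t).symm
  rw [e, νz t]
  rfl

theorem w2_νd {ν : MulAut (Qs P)} (νz : ν ∈ w2C P) {l : K} (hl : ∀ t, l * (ν (w2v P t) : UO P).a6 = t)
    {p q : Kˣ × Kˣ} (e : ν * d p = d q * ν) : p = q := by
  have e4 : c4 P p = c4 P q := by
    have h1 : ν (d p (w2z P 1)) = d q (ν (w2z P 1)) := congrArg (fun a : MulAut (Qs P) => a (w2z P 1)) e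
    rw [w2_dz hdr, νz _, νz _, w2_dz hdr] at h1
    simpa using w2_x4_inj (congrArg Subtype.val h1)
  have e6 : c6 P p = c6 P q := by
    have h1 : ν (d p (w2v P 1)) = d q (ν (w2v P 1)) := congrArg (fun a : MulAut (Qs P) => a (w2v P 1)) e
    have h2 := hl (c6 P p * 1)
    rw [← w2_dv hdr, h1, hdr, dg_a6, mul_left_comm, hl] at h2
    simpa using h2.symm
  exact eq_of_c46 e4 e6

theorem w2_psi (hq : 2 < Nat.card K) {ψ : MulAut (Qs P)} (hc : ∀ p, ψ * d p = d p * ψ) (hz : ψ ∈ w2C P)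
    (hv : ∀ t, (ψ (w2v P t) : UO P).a6 = t) : ψ = 1 := by
  refine aut_ext fun x hx => ?_
  rw [autFun_one hx]
  refine psi2 hq (autFun ψ) (fun x hx => autFun_mem _ hx) (fun x hx y hy => ?_) (fun p x hx => ?_)
    (fun t => ?_) (fun t => ?_) x hx
  · rw [autFun_apply _ hx, autFun_apply _ hy, autFun_apply _ (mul_mem hx hy)]
    exact congrArg Subtype.val (map_mul ψ ⟨x, hx⟩ ⟨y, hy⟩)
  · have h1 : ψ (d p ⟨x, hx⟩) = d p (ψ ⟨x, hx⟩) := congrArg (fun a : MulAut (Qs P) => a ⟨x, hx⟩) (hc p)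
    rw [autFun_apply _ hx, ← hdr, ← h1, ← autFun_coe, hdr]
  · exact (autFun_coe ψ (w2z P t)).trans (congrArg Subtype.val (hz t))
  · exact (congrArg UO.a6 (autFun_coe ψ (w2v P t))).trans (hv t)

theorem w2_fin (hq : 2 < Nat.card K) {m : MulAut (Qs P)} (hmC : m ∈ w2C P)
    (hm0 : m • (Vs P).subgroupOf (Qs P) = (V2 P).subgroupOf (Qs P)) (hmd : ∀ p, ∃ q, m * d p = d q * m) :
    ∃ r, d r * (rnA P * m) = 1 := by
  have νz : rnA P * m ∈ w2C P := (w2C P).mul_mem (fun t => Subtype.ext (w2_rn_x4 t)) hmC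
  obtain ⟨l, hl⟩ := w2_l νz fun t => w2_rn_V2 ((smul_subgroupOf_eq.1 hm0 (w2v P t)).2 (by simp [w2v]))
  have hl0 : l ≠ 0 := fun e => one_ne_zero ((hl 1).symm.trans (by rw [e, zero_mul]))
  have νd : ∀ p, rnA P * m * d p = d p * (rnA P * m) := fun p => by
    obtain ⟨q, hq⟩ := hmd p
    have e : rnA P * m * d p = d (sn P q) * (rnA P * m) := by
      rw [mul_assoc, hq, ← mul_assoc, w2_rn_d hdr, mul_assoc]
    rw [e, ← w2_νd hdr νz hl e]
  obtain ⟨r, r4, r6⟩ := exists_c46 P one_ne_zero hl0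
  refine ⟨r, w2_psi hdr hq (fun p => ?_) ((w2C P).mul_mem (fun t => ?_) νz) fun t => ?_⟩
  · rw [mul_assoc, νd, ← mul_assoc, ← mul_assoc (d p), ← map_mul, ← map_mul, mul_comm r p]
  · rw [w2_dz hdr, r4, one_mul]
  · rw [MulAut.mul_apply, hdr, dg_a6, r6, hl]

end

theorem w2_weyl {A0 : Subgroup (MulAut (UO P))} {A : Subgroup (MulAut (Qs P))} (h0 : Std0 A0) (h : Rk1 (Qs P) A0 A)
    (hp : Pts2 A) (hq : 2 < Nat.card K) (hd : ∀ p, dg P p ∈ A0) : rnA P ∈ A := by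
  obtain ⟨d, hdr⟩ := w2_exd P
  have hdA : ∀ p, d p ∈ A := fun p => by
    obtain ⟨a, ha, hr⟩ := h.res _ (hd p)
    rwa [(hdr p).eq hr]
  obtain ⟨m, hmA, hmC, hm0, hmd⟩ := w2_m h0 h hp hdr hdA
  obtain ⟨r, hr⟩ := w2_fin hdr hq hmC hm0 hmd
  have e : rnA P = (d r)⁻¹ * m⁻¹ := by
    rw [eq_mul_inv_iff_mul_eq, eq_inv_iff_mul_eq_one]
    exact mul_eq_one_comm.1 hr
  rw [e]
  exact A.mul_mem (A.inv_mem (hdA r)) (A.inv_mem hmA)

end CL.FZ
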