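/-
Fusion systems on a Sylow 2-subgroup of a large Ree group: torus and reflection in the automiser of `Qs`.
-/
import Cfsg.Agent.FZ.P2
import Cfsg.Agent.FZ.W2a

set_option autoImplicit false
set_option linter.unusedSectionVars false

namespace CL.FZ

open CL.Oct CL.Oct.UO Cfsg CL.Fus
open scoped commutatorElement Pointwise

variable {K : Type*} [Field K] [CharP K 2] [Finite K] {P : Par K}

section
variable {A0 : Subgroup (MulAut (UO P))} {A : Subgroup (MulAut (Qs P))} (h0 : Std0 A0) (h : Rk1 (Qs P) A0 A)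
include h0 h

theorem torus2 (t : K) (ht : t ≠ 0) : ∃ p : Kˣ × Kˣ, dg P p ∈ A0 ∧ c4 P p = 1 ∧ c8 P p = t :=
  w2_torus h0 h h.pts2 t ht

theorem weyl2 (hq : 2 < Nat.card K) (hd : ∀ p, dg P p ∈ A0) : rnA P ∈ A :=
  w2_weyl h0 h h.pts2 hq hd

end

end CL.FZ
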