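/-
Fusion systems on a Sylow 2-subgroup of a large Ree group: standard form of the three automizers.
-/
import Cfsg.Agent.FZ.AU
import Cfsg.Agent.FZ.CN
import Cfsg.Agent.FZ.P1
import Cfsg.Agent.FZ.P2
import Cfsg.Agent.FZ.W1
import Cfsg.Agent.FZ.W2
import Cfsg.Agent.FZ.Q1
import Cfsg.Agent.FZ.Q2

set_option autoImplicit false
set_option linter.unusedSectionVars false

namespace CL.FZ

open CL.Oct CL.Oct.UO Cfsg CL.Fus
open scoped commutatorElement Pointwise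

variable {K : Type*} [Field K] [CharP K 2] [Finite K] {P : Par K}

section Gen

variable {U : Type*} [Group U] {Q : Subgroup U}

theorem st_iter {b : MulAut Q} {F : U → U} (h : ∀ x : Q, (b x : U) = F x) (k : ℕ) (x : Q) :
    ((b ^ k) x : U) = F^[k] x := by
  induction k with
  | zero => rfl
  | succ k ih => rw [pow_succ', Function.iterate_succ_apply', ← ih, ← h]; rfl

variable [Q.Normal]

theorem st_iter' {m : MulAut Q} {s : U} {k : ℕ} (h : (m * MulAut.conjNormal s) ^ k = 1) (x : U) (hx : x ∈ Q) :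
    (fun x => autFun m (s * x * s⁻¹))^[k] x = x := by
  have := st_iter (b := m * MulAut.conjNormal s) (F := fun x => autFun m (s * x * s⁻¹))
    (fun x => (autFun_coe m (MulAut.conjNormal s x)).symm) k ⟨x, hx⟩
  rw [h] at this
  exact this.symm

theorem st_fix {A : Subgroup (MulAut Q)} (hT : autInducedBy ⊤ Q ≤ A) (β : MulAut U) {m : MulAut Q} (hm : m ∈ A) (g : U)
    (r : U → U) (h : ∀ x : Q, β (m x) = g * r (β x) * g⁻¹) : ∃ a ∈ A, ∀ x : Q, β (a x) = r (β x) := by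
  refine ⟨MulAut.conjNormal (β⁻¹ g⁻¹) * m, mul_mem (hT (mem_T.2 ⟨_, rfl⟩)) hm, fun x => ?_⟩
  rw [MulAut.mul_apply, MulAut.conjNormal_apply, map_mul, map_mul, map_inv β, MulAut.apply_inv_self, h]
  group

theorem st_gen [Finite U] {A0 : Subgroup (MulAut U)} {A : Subgroup (MulAut Q)} (h : Rk1 Q A0 A)
    (h0 : ∀ α ∈ A0, ∃ s, α = MulAut.conj s) {X Y : Subgroup U}
    (hp : Pts A (autInducedBy ⊤ Q) (Inn Q) (X.subgroupOf Q) (Y.subgroupOf Q))
    (hc : ∀ s, (∀ x ∈ Q, s * x * s⁻¹ = x) → s ∈ Q) {s : U} (hs : s ∉ Q) (h2 : s * s = 1) :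
    (∀ a ∈ A, a • X.subgroupOf Q = X.subgroupOf Q → ∃ s, a = MulAut.conjNormal s) ∧
    (∀ s, (MulAut.conjNormal s : MulAut Q) ∈ Inn Q → s ∈ Q) ∧
    ∃ n ∈ A, n * n = 1 ∧ n • X.subgroupOf Q = Y.subgroupOf Q ∧ n • Y.subgroupOf Q = X.subgroupOf Q ∧
      (n * MulAut.conjNormal s) ^ (1 + Q.index) = 1 := by
  have hB : ∀ a ∈ A, a • X.subgroupOf Q = X.subgroupOf Q → ∃ s, a = MulAut.conjNormal s := fun a ha e => by
    obtain ⟨α, hα, hr⟩ := h.ext a ha (hp.norm a ha e)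
    obtain ⟨s, rfl⟩ := h0 α hα
    exact ⟨s, hr.eq (res_conj s)⟩
  have hI : ∀ s, (MulAut.conjNormal s : MulAut Q) ∈ Inn Q → s ∈ Q := fun s hs => by
    obtain ⟨q, hq, e⟩ := mem_I.1 hs
    have : q⁻¹ * s ∈ Q := hc _ fun x hx => by
      have e' : s * x * s⁻¹ = q * x * q⁻¹ := congrArg (fun a : MulAut Q => (a ⟨x, hx⟩ : U)) e
      rw [show q⁻¹ * s * x * (q⁻¹ * s)⁻¹ = q⁻¹ * (s * x * s⁻¹) * q by group, e']
      group
    exact (Subgroup.mul_mem_cancel_left _ (inv_mem hq)).1 this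
  refine ⟨hB, hI, ?_⟩
  have hsT : (MulAut.conjNormal s : MulAut Q) ∈ autInducedBy ⊤ Q := mem_T.2 ⟨_, rfl⟩
  obtain ⟨n, hn, hn2, e0, e1, ho⟩ := hp.swap hp.le le_rfl Subgroup.le_normalizer hsT (mt (hI s) hs)
    (by rw [← map_mul, h2, map_one])
  refine ⟨n, hn, hn2, e0, e1, orderOf_dvd_iff_pow_eq_one.1 ?_⟩
  have hi := hp.index fun a ha e => mem_T.2 (hB a ha e)
  have hT : autInducedBy ⊤ Q = (MulAut.conjNormal : U →* MulAut Q).range :=
    Subgroup.ext fun a => mem_T.trans (exists_congr fun _ => eq_comm)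
  have hQ : (Inn Q).comap (MulAut.conjNormal : U →* MulAut Q) = Q :=
    Subgroup.ext fun s => ⟨hI s, fun hs => mem_I.2 ⟨s, hs, rfl⟩⟩
  have hj : (Inn Q).relIndex (autInducedBy ⊤ Q) = Q.index := by
    rw [hT, ← Subgroup.index_comap, hQ]
  have := Fact.mk Nat.prime_two
  obtain ⟨k, hk⟩ := hp.two.exists_card_eq
  have hA := ((autInducedBy ⊤ Q).subgroupOf A).card_mul_index
  rw [Nat.card_congr (Subgroup.subgroupOfEquivOfLe hp.le).toEquiv, hk] at hA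
  have hd := Subgroup.orderOf_dvd_natCard A (mul_mem hn (hp.le hsT))
  rw [← hA] at hd
  have := (Nat.Coprime.pow_right k (Nat.coprime_two_right.2 ho)).dvd_of_dvd_mul_left hd
  rwa [← hj, ← hi]

end Gen

theorem st_01 (hq : Nat.card K = 2) {t : K} (ht : t ≠ 0) : t = 1 := by
  obtain ⟨y, -, hy⟩ := (Nat.card_eq_two_iff' (0 : K)).1 hq
  exact (hy t ht).trans (hy 1 one_ne_zero).symm

theorem st_card_Qs (P : Par K) : Nat.card (Qs P) = Nat.card K ^ 10 :=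
  card_of (A := Qs P) 10 (fun v => ⟨v 0, v 1, v 2, v 3, v 4, v 5, v 6, v 7, v 8, v 9, 0, 0⟩)
    (fun x => ![x.a1, x.b2, x.a2, x.a3, x.b4, x.a4, x.a5, x.b6, x.a6, x.a7]) (fun _ => ⟨rfl, rfl⟩)
    (fun v => funext fun i => by fin_cases i <;> rfl)
    fun x ⟨h0, h1⟩ => UO.ext rfl rfl rfl rfl rfl rfl rfl rfl rfl rfl h0.symm h1.symm

theorem st_two (hq : Nat.card K = 2) {A0 : Subgroup (MulAut (UO P))} {A1 : Subgroup (MulAut (Qp P))}
    {A2 : Subgroup (MulAut (Qs P))} (h1 : Rk1 (Qp P) A0 A1) (h2 : Rk1 (Qs P) A0 A2) : ∃ β : MulAut (UO P),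
      (∃ a ∈ A1, ∀ x : Qp P, β (a x) = rp (β x)) ∧ ∃ a ∈ A2, ∀ x : Qs P, β (a x) = rn (β x) := by
  have h0 : ∀ α ∈ A0, ∃ s, α = MulAut.conj s := fun α hα => inner_of_two hq h1.inn h1.odd hα
  have p1 := h1.pts1
  have p2 := h2.pts2
  have i1 : (Qp P).index = 2 := by
    have := (Qp P).card_mul_index
    rw [card_Qp, card_UO, hq] at this
    omega
  have i2 : (Qs P).index = 4 := by
    have := (Qs P).card_mul_index
    rw [st_card_Qs, card_UO, hq] at this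
    omega
  obtain ⟨-, -, m, hm, m2, m0, -, m3⟩ := st_gen h1 h0 p1 (fun s hs => by
    have := congrArg UO.a4 ((conj_v s 0 1).symm.trans (hs (x4 0 * x6 1) (by simp)))
    simpa using this) (s := x1 1) (by simp) (sq_x 1).1
  obtain ⟨hB, hI, n, hn, n2, n0, n1, n5⟩ := st_gen h2 h0 p2 (fun s hs => by
    have : s ∈ Zs P := cent_Qs.1 fun g hg => mul_inv_eq_iff_eq_mul.1 (hs g hg)
    simp only [mem_Zs, mem_Qs] at this ⊢
    tauto) (s := x8 1) (by simp) (sq_x 1).2.2.2.2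
  rw [i1] at m3
  rw [i2] at n5
  have hy : ∃ u ∈ U8 P, ∃ s, ∀ x ∈ Qs P,
      autFun n (u * autFun n (y8 1 * autFun n x * (y8 1)⁻¹) * u⁻¹) = s * x * s⁻¹ := by
    have hyT : (MulAut.conjNormal (y8 1) : MulAut (Qs P)) ∈ autInducedBy ⊤ (Qs P) := mem_T.2 ⟨_, rfl⟩
    have ha : n * MulAut.conjNormal (y8 1) * n ∈ A2 := mul_mem (mul_mem hn (p2.le hyT)) hn
    rcases p2.dich _ ha with e | ⟨t, ht, e⟩
    · rw [mul_smul, mul_smul, n0] at e
      have := hI _ ((p2.stab _ hyT).1 (MulAction.injective n (e.trans n1.symm)))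
      simp at this
    · obtain ⟨s, hs⟩ := hB _ (mul_mem hn (mul_mem (p2.le ht) ha)) (by rw [mul_smul, e, n1])
      obtain ⟨s', rfl⟩ := mem_T.1 ht
      obtain ⟨q, hq', u, hu, rfl⟩ := exists_Qs_mul_U8 s'
      refine ⟨u, hu, (n ⟨q, hq'⟩ : UO P)⁻¹ * s, fun x hx => ?_⟩
      obtain ⟨a, ha'⟩ : ∃ a : MulAut (Qs P), a = n * MulAut.conjNormal (y8 1 : UO P) * n := ⟨_, rfl⟩
      obtain ⟨w, hw⟩ : ∃ w : Qs P, w = MulAut.conjNormal u (a ⟨x, hx⟩) := ⟨_, rfl⟩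
      have e1 : u * autFun n (y8 1 * autFun n x * (y8 1)⁻¹) * u⁻¹ = w := by
        rw [hw, ha', MulAut.conjNormal_apply, MulAut.mul_apply, MulAut.mul_apply, ← autFun_coe n,
          MulAut.conjNormal_apply, ← autFun_coe n]
      have e2 : (n (⟨q, hq'⟩ * w * ⟨q, hq'⟩⁻¹) : UO P) = s * x * s⁻¹ := by
        have := congrArg (fun a : MulAut (Qs P) => (a ⟨x, hx⟩ : UO P)) hs
        simp only [← ha', MulAut.mul_apply, MulAut.conjNormal_apply] at this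
        rw [← this]
        refine congrArg (fun y : Qs P => (n y : UO P)) (Subtype.ext ?_)
        simp only [hw, Subgroup.coe_mul, Subgroup.coe_inv, MulAut.conjNormal_apply, mul_inv_rev, mul_assoc]
      rw [map_mul, map_mul, map_inv, Subgroup.coe_mul, Subgroup.coe_mul, Subgroup.coe_inv] at e2
      rw [e1, autFun_coe, show (n ⟨q, hq'⟩ : UO P)⁻¹ * s * x * ((n ⟨q, hq'⟩ : UO P)⁻¹ * s)⁻¹ =
        (n ⟨q, hq'⟩ : UO P)⁻¹ * (s * x * s⁻¹) * (n ⟨q, hq'⟩ : UO P) by group, ← e2]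
      group
  have q6 : (x6 1 : UO P) ∈ Qs P := by simp
  obtain ⟨β1, b1, b6, g, -, hg⟩ := q2n hq n (autFun n) (fun x => (autFun_coe n x).symm)
    (fun x hx => by rw [← autFun_mul _ _ hx, n2, autFun_one hx])
    (by rw [autFun_apply _ q6]; exact (smul_subgroupOf_eq.1 n0 ⟨_, q6⟩).2 (by simp)) (st_iter' n5) hy
  obtain ⟨b, hb⟩ := exists_res (Q := Qp P) β1 fun x => (aut_mem β1 x).2.2.2.1
  have k4 : (x4 1 : UO P) ∈ Qp P := by simp
  have k6 : (x6 1 : UO P) ∈ Qp P := by simp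
  have n4 : (x4 1 : UO P) ≠ 1 := fun e => by simpa using congrArg UO.a4 e
  have b4 : β1 (x4 1) = x4 1 := by
    obtain ⟨t, ht⟩ := mem_Zs_iff_x4.1 ((aut_mem β1 (x4 1)).1.2 (by simp))
    rw [ht, st_01 hq (t := t)]
    rintro rfl
    exact n4 (β1.injective (ht.trans (by rw [map_one]; rfl)))
  have m4 : m ⟨x4 1, k4⟩ = ⟨x6 1, k6⟩ := by
    have h6 := (smul_subgroupOf_eq.1 m0 ⟨_, k4⟩).2 (by simp)
    have e6 : (m ⟨x4 1, k4⟩ : UO P) = x6 (m ⟨x4 1, k4⟩ : UO P).a6 := by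
      obtain ⟨e0, e1, e2, e3, e4, e5, e6, e7, e8, e9, e10⟩ := h6
      exact UO.ext e0 e1 e2 e3 e4 e5 e6 e7 rfl e8 e9 e10
    refine Subtype.ext (e6.trans (congrArg x6 (st_01 hq fun e => n4 ?_)))
    rw [e] at e6
    exact congrArg Subtype.val (m.injective ((Subtype.ext e6 : m ⟨x4 1, k4⟩ = 1).trans (map_one m).symm))
  obtain ⟨β2, ⟨g2, -, hg2⟩, g3, -, hg3⟩ := q2m hq (b * m * b⁻¹) (autFun (b * m * b⁻¹)) (fun x => (autFun_coe _ x).symm)
    (fun x hx => by rw [← autFun_mul _ _ hx, conj_mul, m2, mul_one, mul_inv_cancel, autFun_one hx])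
    (by
      have : b⁻¹ ⟨x4 1, k4⟩ = ⟨x4 1, k4⟩ := b.injective (by
        rw [MulAut.apply_inv_self]; exact Subtype.ext ((hb _).trans b4).symm)
      rw [autFun_apply _ k4, MulAut.mul_apply, MulAut.mul_apply, this, m4, hb, b6])
    (st_iter' (by rw [← b1, ← conj_conjNormal hb, conj_mul, conj_pow, m3, mul_one, mul_inv_cancel]))
  refine ⟨β2 * β1, st_fix p1.le _ hm g3 rp fun x => ?_, st_fix p2.le _ hn (β2 g * g2) rn fun x => ?_⟩
  · rw [MulAut.mul_apply, MulAut.mul_apply, ← hb x, ← hg3 _ (b x).2, autFun_coe, ← hb]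
    simp
  · rw [MulAut.mul_apply, MulAut.mul_apply, ← autFun_coe, hg _ x.2, map_mul, map_mul, map_inv,
      hg2 _ ((aut_Qs β1 _).2 x.2)]
    group

theorem std {A0 : Subgroup (MulAut (UO P))} {A1 : Subgroup (MulAut (Qp P))} {A2 : Subgroup (MulAut (Qs P))}
    (h1 : Rk1 (Qp P) A0 A1) (h2 : Rk1 (Qs P) A0 A2) : ∃ (β : MulAut (UO P)) (γ : RingAut K),
    (∀ α, α ∈ A0 ↔ ∃ (s : UO P) (p : Kˣ × Kˣ) (k : ℕ), β * α * β⁻¹ = MulAut.conj s * dg P p * fld P γ ^ k) ∧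
      (∃ a ∈ A1, ∀ x : Qp P, β (a x) = rp (β x)) ∧ ∃ a ∈ A2, ∀ x : Qs P, β (a x) = rn (β x) := by
  rcases (show 2 ≤ Nat.card K from Finite.one_lt_card).eq_or_lt with hq | hq
  · obtain ⟨β, hβ⟩ := st_two hq.symm h1 h2
    refine ⟨β, 1, fun α => ⟨fun hα => ?_, ?_⟩, hβ⟩
    · obtain ⟨s, rfl⟩ := inner_of_two hq.symm h1.inn h1.odd hα
      exact ⟨β s, 1, 0, MulEquiv.ext fun x => by simp⟩
    · rintro ⟨s, p, k, e⟩
      have hp : p = 1 := Prod.ext (Units.ext (st_01 hq.symm p.1.ne_zero)) (Units.ext (st_01 hq.symm p.2.ne_zero))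
      rw [hp, map_one, map_one, one_pow, mul_one, mul_one] at e
      have : α = MulAut.conj (β⁻¹ s) := by
        rw [show α = β⁻¹ * (β * α * β⁻¹) * β by group, e]
        exact MulEquiv.ext fun x => by simp
      exact this ▸ h1.inn _
  · obtain ⟨β, hβ⟩ := exists_std0 h1.inn h1.odd
    obtain ⟨b1, hb1⟩ := exists_res (Q := Qp P) β fun x => (aut_mem β x).2.2.2.1
    obtain ⟨b2, hb2⟩ := exists_res (Q := Qs P) β (aut_Qs β)
    have k1 := h1.map hb1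
    have k2 := h2.map hb2
    have hd := torus_all (torus1 hβ k1) (torus2 hβ k2)
    obtain ⟨γ, hγ⟩ := std0_iff hβ k1.inn hd
    obtain ⟨a1, ha1, e1⟩ := weyl1 hβ k1 hq hd
    obtain ⟨a2, ha2, e2⟩ := weyl2 hβ k2 hq hd
    refine ⟨β, γ, fun α => ?_, ⟨a1, ha1, fun x => ?_⟩, a2, ha2, fun x => ?_⟩
    · exact (Subgroup.mem_map_iff_mem (f := (MulAut.conj β).toMonoidHom) (MulAut.conj β).injective).symm.trans (hγ _)
    · rw [← hb1, ← hb1, ← rpA_apply, ← e1]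
      simp
    · rw [← hb2, ← hb2, ← rnA_apply, ← e2]
      simp

end CL.FZ
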